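import Cfsg.Agent.H21.OT14q

set_option autoImplicit false

/-! Rows S1362, S1371, S1373, S1379. -/

namespace Cfsg.Agent.H21

open Subgroup
open Cfsg.Agent.L (cj nz SylIn)
open Cfsg.Agent.H14 (IsPiSub)
open Cfsg.Agent.OOT
open scoped Pointwise

universe u
variable {G : Type u} [Group G]

variable [Finite G] (hG : IsMinSimpleOddOrder G)
include hG

theorem uniqIn_cent_conj {M : Subgroup G} (hM : IsCoatom M) {a g : G}
    (h1 : UniqIn (centralizer ({a} : Set G)) M)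
    (h2 : UniqIn (centralizer ({g * a * g⁻¹} : Set G)) M) : g ∈ M := by
  have h3 : centralizer ({g * a * g⁻¹} : Set G) ≤ cj g M := by
    rw [← cj_cent]; exact L.cj_mono h1.1
  have h4 := h2.2 _ (coatom_cj hM g) h3
  have h5 : g ∈ normalizer (M : Set G) := L.mem_nz_iff.2 h4
  rwa [coatom_normalizer_self hG hM] at h5

section Dec
variable {M K U : Subgroup G} (hM : IsCoatom M) (h : IsSigmaDecomposition M K U)
include hM h

/-- elements of `A(M) \ M_σ` -/
theorem sigmaA_elt {a : G} (ha : a ∈ sigmaA M U) (ha' : a ∉ sigmaCore M) :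
    ∃ b ∈ zpowers a, ∃ c ∈ zpowers a, a = c * b ∧ c * b = b * c ∧ PiElt (sigma M) c ∧
      PiElt {p | p ∉ sigma M} b ∧ b ≠ 1 ∧ b ∈ M ∧
      UniqIn (centralizer ({b} : Set G)) M := by
  obtain ⟨⟨haM, y, hy, hy1, hay⟩, haU⟩ := ha
  obtain ⟨c, hc, b, hb, e, hcb, h1, h2⟩ := exists_piPart (sigma M) a
  have hle : zpowers a ≤ M := by rwa [zpowers_le]
  have hleU : zpowers a ≤ U ⊔ sigmaCore M := by rwa [zpowers_le]
  have hb1 : b ≠ 1 := by
    rintro rfl
    rw [mul_one] at e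
    exact ha' (mem_ms hG hM haM (by rw [e]; exact h1))
  refine ⟨b, hb, c, hc, e, hcb, h1, h2, hb1, hle hb, ?_⟩
  exact (dec_tau2_elt hG hM h hy hy1 (hle hb) hb1 h2
    (piElt_of_mem (dec_UMs_hall hG hM h).2.1 (hleU hb)) (commute_of_mem_zpowers hb hay)).2

/-- S1362 -/
theorem sigmaA_TI : IsTISubset (sigmaA M U \ (sigmaCore M : Set G)) := by
  intro g hg a ha hga
  exfalso
  apply hg
  obtain ⟨b, hb, c, hc, e, hcb, h1, h2, hb1, hbM, hu⟩ := sigmaA_elt hG hM h ha.1 ha.2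
  obtain ⟨b', hb', c', hc', e', hcb', h1', h2', hb1', hbM', hu'⟩ := sigmaA_elt hG hM h hga.1 hga.2
  have h3 : b' = g * b * g⁻¹ := by
    have e3 : (g * c * g⁻¹) * (g * b * g⁻¹) = c' * b' := by
      rw [← e', e]; group
    refine (piPart_unique e3 ?_ hcb' (piElt_conj.2 h1) (piElt_conj.2 h2) h1' h2').2.symm
    calc (g * c * g⁻¹) * (g * b * g⁻¹) = g * (c * b) * g⁻¹ := by group
      _ = g * (b * c) * g⁻¹ := by rw [hcb]
      _ = _ := by group
  rw [h3] at hu'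
  have hgM : g ∈ M := uniqIn_cent_conj hG hM hu hu'
  -- `M` normalizes `A(M) \ M_σ`
  have key : ∀ m ∈ M, ∀ z ∈ sigmaA M U \ (sigmaCore M : Set G),
      m * z * m⁻¹ ∈ sigmaA M U \ (sigmaCore M : Set G) := by
    rintro m hm z ⟨⟨⟨hzM, y, hy, hy1, hzy⟩, hzU⟩, hzs⟩
    refine ⟨⟨⟨M.mul_mem (M.mul_mem hm hzM) (M.inv_mem hm), m * y * m⁻¹, ?_, ?_, ?_⟩, ?_⟩, ?_⟩
    · exact (Subgroup.mem_normalizer_iff.1 (le_nz_ms M hm) y).1 hy
    · intro e; exact hy1 (by simpa using e)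
    · calc m * z * m⁻¹ * (m * y * m⁻¹) = m * (z * y) * m⁻¹ := by group
        _ = m * (y * z) * m⁻¹ := by rw [hzy]
        _ = _ := by group
    · exact (Subgroup.mem_normalizer_iff.1 (dec_UMs_nz hG hM h hm) z).1 hzU
    · intro h'
      exact hzs ((Subgroup.mem_normalizer_iff.1 (le_nz_ms M hm) z).2 h')
  rw [Subgroup.mem_set_normalizer_iff]
  intro z
  refine ⟨fun hz => key g hgM z hz, fun hz => ?_⟩
  have := key _ (M.inv_mem hgM) _ hz
  have e : g⁻¹ * (g * z * g⁻¹) * g⁻¹⁻¹ = z := by group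
  rwa [e] at this

/-- S1371 (first part) -/
theorem A0_diff (hK : K ≠ ⊥) :
    {a : G | ∃ m ∈ M, ∃ z ∈ Zhat M K, a = m * z * m⁻¹} = sigmaA0 M K \ sigmaA M U := by
  have hPM := dec_PM hM h hK
  have hnU : ∀ m ∈ M, ∀ z : G, m * z * m⁻¹ ∈ U ⊔ sigmaCore M → z ∈ U ⊔ sigmaCore M :=
    fun m hm z hz => (Subgroup.mem_normalizer_iff.1 (dec_UMs_nz hG hM h hm) z).2 hz
  ext a
  constructor
  · rintro ⟨m, hm, z, hz, rfl⟩
    obtain ⟨k, hk, y, hy, hk1, hy1, rfl⟩ := mem_Zhat hz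
    have hyM := kst_le_ms M K hy
    refine ⟨⟨⟨?_, m * y * m⁻¹, ?_, ?_, ?_⟩, ?_⟩, ?_⟩
    · exact M.mul_mem (M.mul_mem hm (M.mul_mem (hPM.K_le hk) (ms_le M hyM))) (M.inv_mem hm)
    · exact (Subgroup.mem_normalizer_iff.1 (le_nz_ms M hm) y).1 hyM
    · intro e; exact hy1 (by simpa using e)
    · have := kst_comm hk hy
      calc m * (k * y) * m⁻¹ * (m * y * m⁻¹) = m * (k * y * y) * m⁻¹ := by group
        _ = m * (y * k * y) * m⁻¹ := by rw [this]
        _ = _ := by group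
    · rintro ⟨l, hl, hl1, m', hm', e⟩
      -- `k y` is conjugate to an element of `K`
      have e2 : k * y = (m⁻¹ * m') * l * (m⁻¹ * m')⁻¹ := by
        calc k * y = m⁻¹ * (m * (k * y) * m⁻¹) * m := by group
          _ = m⁻¹ * (m' * l * m'⁻¹) * m := by rw [e]
          _ = _ := by group
      have h1 : PiElt {p | p ∉ sigma M} (k * y) := by
        rw [e2]; exact piElt_conj.2 (hPM.K_pi hl)
      have h2 : y ∈ zpowers (k * y) := by
        rw [kst_comm hk hy]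
        exact mem_zpowers_of_coprime (kst_comm hk hy).symm
          (coprime_orderOf (hPM.kst_pi hG hy) (hPM.K_pi hk))
      exact hy1 (ms_cap hG hM hyM (h1.of_mem_zpowers h2))
    · rintro ⟨-, h2⟩
      have h3 : k * y ∈ U ⊔ sigmaCore M := hnU m hm _ h2
      have h4 : k ∈ U ⊔ sigmaCore M := by
        have := (U ⊔ sigmaCore M).mul_mem h3
          ((U ⊔ sigmaCore M).inv_mem (Subgroup.mem_sup_right hyM))
        rwa [mul_inv_cancel_right] at this
      have h5 : k ∈ K ⊓ (U ⊔ sigmaCore M) := ⟨hk, h4⟩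
      rw [(dec_compl_K hG hM h).2.2.1, Subgroup.mem_bot] at h5
      exact hk1 h5
  · rintro ⟨⟨⟨haM, y, hy, hy1, hay⟩, hnk⟩, hnA⟩
    have haU : a ∉ U ⊔ sigmaCore M := fun h' => hnA ⟨⟨haM, y, hy, hy1, hay⟩, h'⟩
    obtain ⟨c, hc, b, hb, e, hcb, h1, h2⟩ := exists_piPart (kappa M) a
    have hle : zpowers a ≤ M := by rwa [zpowers_le]
    have hc1 : c ≠ 1 := by
      rintro rfl
      rw [one_mul] at e
      exact haU (piElt_mem_normal_hall (dec_UMs_hall hG hM h) (dec_UMs_nz hG hM h) haM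
        (by rw [e]; exact h2))
    obtain ⟨m, hm, hle'⟩ := OOT.IsPiHallOf.exists_conj_le (coatom_sol hG hM) h.hall
      (K := zpowers c) (by rw [zpowers_le]; exact hle hc) (piSub_zpowers.2 h1)
    have hcK : m * c * m⁻¹ ∈ K := hle' (L.conj_mem_cj (mem_zpowers c))
    have hc1' : m * c * m⁻¹ ≠ 1 := fun e => hc1 (by simpa using e)
    have haZ : m * a * m⁻¹ ∈ Zof M K := by
      rw [← dec_cent hG hM h hcK hc1']
      refine ⟨M.mul_mem (M.mul_mem hm haM) (M.inv_mem hm), mem_cent_singleton.2 ?_⟩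
      have : a * c = c * a := by
        rw [e, mul_assoc, ← hcb]
      calc m * a * m⁻¹ * (m * c * m⁻¹) = m * (a * c) * m⁻¹ := by group
        _ = m * (c * a) * m⁻¹ := by rw [this]
        _ = _ := by group
    refine ⟨m⁻¹, M.inv_mem hm, m * a * m⁻¹, ⟨haZ, ?_⟩, by group⟩
    rintro (h3 | h3)
    · apply hnk
      have ha1 : a ≠ 1 := by
        rintro rfl
        exact haU (Subgroup.one_mem _)
      exact ⟨m * a * m⁻¹, h3, fun e => ha1 (by simpa using e), m⁻¹, M.inv_mem hm, by group⟩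
    · exact haU (hnU m hm a (Subgroup.mem_sup_right (kst_le_ms M K h3)))

/-- S1371 (second part) -/
theorem A0_diff_TI (hK : K ≠ ⊥) : IsTISubset (sigmaA0 M K \ sigmaA M U) := by
  have hPM := dec_PM hM h hK
  rw [← A0_diff hG hM h hK]
  intro g hg a ha hga
  exfalso
  obtain ⟨m, hm, z, hz, rfl⟩ := ha
  obtain ⟨m', hm', z', hz', e⟩ := hga
  have h1 : (m'⁻¹ * g * m) * z * (m'⁻¹ * g * m)⁻¹ = z' := by
    calc (m'⁻¹ * g * m) * z * (m'⁻¹ * g * m)⁻¹ = m'⁻¹ * (g * (m * z * m⁻¹) * g⁻¹) * m' := by group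
      _ = m'⁻¹ * (m' * z' * m'⁻¹) * m' := by rw [e]
      _ = z' := by group
  have h2 : m'⁻¹ * g * m ∈ Zof M K := hPM.Zhat_conj hG hz (by rw [h1]; exact hz'.1)
  have hgM : g ∈ M := by
    have h3 := hPM.Z_le h2
    have : g = m' * (m'⁻¹ * g * m) * m⁻¹ := by group
    rw [this]
    exact M.mul_mem (M.mul_mem hm' h3) (M.inv_mem hm)
  apply hg
  rw [Subgroup.mem_set_normalizer_iff]
  intro z
  constructor
  · rintro ⟨n, hn, w, hw, rfl⟩
    exact ⟨g * n, M.mul_mem hgM hn, w, hw, by group⟩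
  · rintro ⟨n, hn, w, hw, e⟩
    refine ⟨g⁻¹ * n, M.mul_mem (M.inv_mem hgM) hn, w, hw, ?_⟩
    calc z = g⁻¹ * (g * z * g⁻¹) * g := by group
      _ = g⁻¹ * (n * w * n⁻¹) * g := by rw [e]
      _ = _ := by group

/-- S1373 -/
theorem dec_P1_kst (hK : K ≠ ⊥) (hU : U = ⊥) : (Nat.card (Kst M K)).Prime := by
  obtain ⟨M', hD, ho⟩ := PM.exists_dual hG (dec_PM hM h hK)
  rcases ho with ho | ho
  · exact absurd ((dec_P1_iff hG hM h).2 hU) ho
  · exact (hD.pm'.p2 hG ho).1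

end Dec

theorem inTilde_iff {z : G} : InTilde z ↔ ∃ N : Subgroup G, IsCoatom N ∧ z ∈ tl N := by
  constructor
  · rintro ⟨M, hM, x, hx, hx1, r, hr, rfl⟩
    exact ⟨M, hM, x, ⟨hx, hx1⟩, r, hr, 1, by group⟩
  · rintro ⟨N, hN, hz⟩
    exact inTilde_of_mem hG hN hz

/-- any element in `InHat` is conjugate to an element of `Ẑ` -/
theorem Dual.hat_conj_of_inHat {M K M' K' : Subgroup G} (h : Dual M K M' K') {z : G}
    (hz : InHat z) : ∃ y : G, ∃ w ∈ Zhat M K, z = y * w * y⁻¹ := by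
  obtain ⟨A, hA, y, hy, hy1, k, hk, hk1, hkk, hky, rfl⟩ := hz
  -- a Hall `κ(A)`-subgroup containing `k`
  obtain ⟨B, hB, hle⟩ := exists_hallOf_ge (coatom_sol hG hA) (K := zpowers k)
    (by rwa [zpowers_le]) (piSub_zpowers.2 hkk)
  have hkB : k ∈ B := hle (mem_zpowers k)
  have hPA : PM A B := ⟨hA, hB, fun e => hk1 (Subgroup.mem_bot.1 (e ▸ hkB))⟩
  have hyB : y ∈ Kst A B := by
    rw [← hPA.cent_eq hG hkB hk1]
    exact ⟨hy, mem_cent_singleton.2 hky.symm⟩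
  have hmem : y * k ∈ Zhat A B := by
    rw [← hky]; exact hPA.mem_Zhat' hG hkB hk1 hyB hy1
  -- reduction to conjugate pairs
  have conjK : ∀ {A B C D : Subgroup G}, PM A B → PM C D → (∃ g : G, A = cj g C) →
      ∃ g : G, A = cj g C ∧ B = cj g D := by
    rintro A B C D hAB hCD ⟨g, rfl⟩
    have h1 : IsPiHallOf (kappa (cj g C)) (cj g D) (cj g C) := by
      rw [kappa_cj]
      refine ⟨L.cj_mono hCD.hall.1, fun p hp hd => hCD.hall.2.1 p hp (by rwa [L.card_cj] at hd), ?_⟩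
      intro p hp hpk hd
      rw [L.relIndex_cj] at hd
      exact hCD.hall.2.2 p hp hpk hd
    obtain ⟨m, hm, hle⟩ := OOT.IsPiHallOf.exists_conj_le (coatom_sol hG hAB.coatom) hAB.hall h1.1 h1.2.1
    have h2 : cj m (cj g D) = B := by
      apply Subgroup.eq_of_le_of_card_ge hle
      obtain ⟨m', hm', hle'⟩ := OOT.IsPiHallOf.exists_conj_le (coatom_sol hG hAB.coatom) h1
        hAB.hall.1 hAB.hall.2.1
      have := Subgroup.card_le_of_le hle'
      rwa [L.card_cj] at this ⊢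
    refine ⟨m * g, ?_, ?_⟩
    · rw [← L.cj_cj, L.cj_eq_self_of_mem hm]
    · rw [← L.cj_cj, h2]
  have transfer : ∀ {A B C D : Subgroup G}, PM A B → PM C D → (∃ g : G, A = cj g C) →
      ∀ {z : G}, z ∈ Zhat A B → ∃ y : G, ∃ w ∈ Zhat C D, z = y * w * y⁻¹ := by
    intro A B C D hAB hCD hc z hz
    obtain ⟨g, rfl, rfl⟩ := conjK hAB hCD hc
    obtain ⟨k, hk, y, hy, hk1, hy1, rfl⟩ := mem_Zhat hz
    have hy' : y ∈ cj g (Kst C D) := by
      have e : Kst (cj g C) (cj g D) = cj g (Kst C D) := by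
        show sigmaCore (cj g C) ⊓ centralizer ((cj g D : Subgroup G) : Set G) =
          cj g (sigmaCore C ⊓ centralizer (D : Set G))
        rw [L.cj_inf, sigmaCore_cj]
        congr 1
        exact (H1.conj_smul_centralizer g D).symm
      rwa [e] at hy
    obtain ⟨k', hk', rfl⟩ := mem_of_cj hk
    obtain ⟨y₀, hy₀, rfl⟩ := mem_of_cj hy'
    exact ⟨g, k' * y₀, hCD.mem_Zhat' hG hk' (by rintro rfl; exact hk1 (by group)) hy₀
      (by rintro rfl; exact hy1 (by group)), by group⟩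
  rcases h.classes hG hPA with hc | hc
  · exact transfer hPA h.pm hc hmem
  · obtain ⟨g, w, hw, e⟩ := transfer hPA h.pm' hc hmem
    refine ⟨g, w, ?_, e⟩
    refine ⟨by rw [← h.Z_eq]; exact hw.1, ?_⟩
    intro h'
    apply hw.2
    rw [h.e', ← h.e]
    exact h'.symm

end Cfsg.Agent.H21
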