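import Cfsg.Agent.H21.BB
import Cfsg.Agent.OOT.TenF

set_option autoImplicit false

/-! Odd order operator groups of narrow `p`-groups, non-faithful version. -/

namespace Cfsg.Agent.H21

open Subgroup
open Cfsg.Agent.L (cj nz SylIn)
open Cfsg.Agent.OOT
open scoped commutatorElement

universe u
variable {G : Type u} [Group G]

/-- If `A` has odd order prime to `p`, is solvable and normalizes the narrow `p`-group `R`, then
`[A, A]` centralizes `R`. -/
theorem narrow_comm_cent [Finite G] {p : ℕ} [hpF : Fact p.Prime] (hp2 : p ≠ 2) {R A : Subgroup G}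
    (hR : IsPGroup p R) (hn : IsNarrow p R) (hA : A ≤ normalizer (R : Set G))
    (hs : Group.IsSolvable A) (hodd : Odd (Nat.card A)) (hcop : (Nat.card A).Coprime p) :
    ⁅A, A⁆ ≤ centralizer (R : Set G) := by
  let φ : A →* MulAut R := (R.normalizerMonoidHom).comp (Subgroup.inclusion hA)
  have hφ : ∀ (a : A) (r : R), ((φ a r : R) : G) = a * r * (a : G)⁻¹ := fun a r => rfl
  let X := R ⋊[MonoidHom.id (MulAut R)] (MulAut R)
  have hfin : Finite (MulAut R) := inferInstance
  have : Finite X := Finite.of_injective (fun x : X => (x.left, x.right))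
    (fun x y h => SemidirectProduct.ext (Prod.ext_iff.1 h).1 (Prod.ext_iff.1 h).2)
  let il : R →* X := SemidirectProduct.inl
  let ir : MulAut R →* X := SemidirectProduct.inr
  let R₁ : Subgroup X := il.range
  let ψ : A →* X := ir.comp φ
  let A₁ : Subgroup X := ψ.range
  have hilinj : Function.Injective il := SemidirectProduct.inl_injective
  have e : R ≃* R₁ := MonoidHom.ofInjective hilinj
  have hR₁ : IsPGroup p R₁ := hR.of_surjective e.toMonoidHom e.surjective
  have hn₁ : IsNarrow p R₁ := isNarrow_congr e hn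
  have hcard : Nat.card A₁ ∣ Nat.card A := Subgroup.card_range_dvd ψ
  have hcj : ∀ (f : MulAut R) (r : R), ir f * il r * (ir f)⁻¹ = il (f r) := by
    intro f r
    rw [← map_inv]
    exact (SemidirectProduct.inl_aut f r).symm
  have hA₁ : A₁ ≤ normalizer (R₁ : Set X) := by
    have : R₁.Normal := by
      constructor
      rintro x ⟨r, rfl⟩ g
      have hg : g = il g.left * ir g.right := (SemidirectProduct.inl_left_mul_inr_right g).symm
      rw [hg]
      have : il g.left * ir g.right * il r * (il g.left * ir g.right)⁻¹ =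
          il (g.left * g.right r * g.left⁻¹) := by
        rw [map_mul, map_mul, ← hcj, map_inv, mul_inv_rev]; simp only [mul_assoc]
      rw [this]
      exact ⟨_, rfl⟩
    rw [Subgroup.normalizer_eq_top]
    exact le_top
  have hs₁ : Group.IsSolvable A₁ := by
    have := hs
    exact Group.isSolvable_of_surjective ψ.rangeRestrict_surjective
  have hodd₁ : Odd (Nat.card A₁) := Odd.of_dvd_nat hodd hcard
  have hf : A₁ ⊓ centralizer (R₁ : Set X) = ⊥ := by
    rw [eq_bot_iff]
    rintro x ⟨⟨a, rfl⟩, hx⟩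
    rw [Subgroup.mem_bot]
    have : φ a = 1 := by
      ext r
      have h1 := hx (il r) ⟨r, rfl⟩
      have h2 : ir (φ a) * il r * (ir (φ a))⁻¹ = il r := by
        rw [mul_inv_eq_iff_eq_mul]
        exact h1.symm
      rw [hcj] at h2
      have h3 := hilinj h2
      rw [h3]; rfl
    show ir (φ a) = 1
    rw [this, map_one]
  obtain ⟨⟨h1, -⟩, -⟩ := BB.S1454 p hp2 R₁ A₁ hR₁ hn₁ hA₁ hs₁ hodd₁ hf
  have h2 : pCore p ↥A₁ = ⊥ := by
    have hc : (Nat.card (pCore p ↥A₁)).Coprime p := by
      exact (Nat.Coprime.coprime_dvd_left (Subgroup.card_subgroup_dvd_card _)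
        (Nat.Coprime.coprime_dvd_left hcard hcop))
    obtain ⟨n, hn⟩ := IsPGroup.iff_card.1 (H1.pCore_isPGroup p ↥A₁)
    rcases n with _ | n
    · rw [pow_zero] at hn
      exact Subgroup.card_eq_one.1 hn
    · exfalso
      rw [hn] at hc
      exact (Nat.Prime.coprime_iff_not_dvd hpF.out).1 hc.symm (dvd_pow_self p (Nat.succ_ne_zero n))
  rw [h2, le_bot_iff] at h1
  rw [Subgroup.commutator_le]
  intro a ha b hb
  have hab : φ ⟨a, ha⟩ * φ ⟨b, hb⟩ = φ ⟨b, hb⟩ * φ ⟨a, ha⟩ := by
    have h3 : ∀ x y : A₁, x * y = y * x := by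
      intro x y
      have : ⁅x, y⁆ ∈ commutator ↥A₁ := Subgroup.commutator_mem_commutator trivial trivial
      rw [h1, Subgroup.mem_bot, commutatorElement_eq_one_iff_mul_comm] at this
      exact this
    have h4 := congrArg Subtype.val (h3 ⟨ψ ⟨a, ha⟩, _, rfl⟩ ⟨ψ ⟨b, hb⟩, _, rfl⟩)
    have h5 : ir (φ ⟨a, ha⟩ * φ ⟨b, hb⟩) = ir (φ ⟨b, hb⟩ * φ ⟨a, ha⟩) := by
      rw [map_mul, map_mul]; exact h4
    exact SemidirectProduct.inr_injective h5
  have hab' : φ ⁅(⟨a, ha⟩ : A), ⟨b, hb⟩⁆ = 1 := by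
    rw [map_commutatorElement, commutatorElement_eq_one_iff_mul_comm]
    exact hab
  intro r hr
  have h6 := congrArg (fun f : MulAut R => ((f ⟨r, hr⟩ : R) : G)) hab'
  have h7 : ⁅a, b⁆ * r * ⁅a, b⁆⁻¹ = r := h6
  rw [mul_inv_eq_iff_eq_mul] at h7
  exact h7.symm

end Cfsg.Agent.H21
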