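import Cfsg.Agent.H21.OBasic
import Cfsg.Agent.OOT.Rank

set_option autoImplicit false

/-! `π`-elements, conjugation invariance of `σ`, `κ`, `τ`, etc. -/

namespace Cfsg.Agent.H21

open Subgroup
open Cfsg.Agent.L (cj nz SylIn)
open Cfsg.Agent.H14 (IsPiSub)
open Cfsg.Agent.OOT
open scoped Pointwise

universe u
variable {G : Type u} [Group G]

/-! ### `π`-elements -/

/-- all prime divisors of the order of `x` lie in `π` -/
def PiElt (π : Set ℕ) (x : G) : Prop := ∀ p : ℕ, p.Prime → p ∣ orderOf x → p ∈ π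

theorem piElt_one (π : Set ℕ) : PiElt π (1 : G) := by
  intro p hp hd
  rw [orderOf_one, Nat.dvd_one] at hd
  exact absurd hd hp.ne_one

theorem piSub_zpowers {π : Set ℕ} {x : G} : IsPiSub π (zpowers x) ↔ PiElt π x := by
  unfold IsPiSub PiElt
  rw [Nat.card_zpowers]

theorem PiElt.mono {π π' : Set ℕ} (h : π ⊆ π') {x : G} (hx : PiElt π x) : PiElt π' x :=
  fun p hp hd => h (hx p hp hd)

theorem piElt_of_mem [Finite G] {π : Set ℕ} {H : Subgroup G} (h : IsPiSub π H) {x : G} (hx : x ∈ H) :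
    PiElt π x := by
  rw [← piSub_zpowers]
  exact IsPiSub.mono (by rwa [zpowers_le]) h

theorem orderOf_conj (g x : G) : orderOf (g * x * g⁻¹) = orderOf x := by
  have := orderOf_injective (MulAut.conj g).toMonoidHom (MulAut.conj g).injective x
  simpa using this

theorem piElt_conj {π : Set ℕ} {x g : G} : PiElt π (g * x * g⁻¹) ↔ PiElt π x := by
  unfold PiElt; rw [orderOf_conj]

theorem piElt_inv {π : Set ℕ} {x : G} : PiElt π x⁻¹ ↔ PiElt π x := by
  unfold PiElt; rw [orderOf_inv]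

theorem PiElt.of_mem_zpowers [Finite G] {π : Set ℕ} {x y : G} (hx : PiElt π x) (hy : y ∈ zpowers x) :
    PiElt π y := fun p hp hd => hx p hp (hd.trans (orderOf_dvd_of_mem_zpowers hy))

theorem PiElt.mul [Finite G] {π : Set ℕ} {x y : G} (hx : PiElt π x) (hy : PiElt π y)
    (hc : x * y = y * x) : PiElt π (x * y) := by
  intro p hp hd
  have : orderOf (x * y) ∣ orderOf x * orderOf y := (show Commute x y from hc).orderOf_mul_dvd_mul_orderOf
  rcases hp.dvd_mul.1 (hd.trans this) with h | h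
  · exact hx p hp h
  · exact hy p hp h

theorem eq_one_of_piElt [Finite G] {π π' : Set ℕ} (hππ : ∀ p : ℕ, p.Prime → p ∈ π → p ∉ π') {x : G}
    (h1 : PiElt π x) (h2 : PiElt π' x) : x = 1 := by
  by_contra hne
  have : orderOf x ≠ 1 := fun h => hne (orderOf_eq_one_iff.1 h)
  obtain ⟨p, hp, hd⟩ := Nat.exists_prime_and_dvd this
  exact hππ p hp (h1 p hp hd) (h2 p hp hd)

theorem PiElt.prime_mem [Finite G] {π : Set ℕ} {x : G} (h1 : PiElt π x) (hx : x ≠ 1) :
    ∃ p : ℕ, p.Prime ∧ p ∣ orderOf x ∧ p ∈ π := by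
  have : orderOf x ≠ 1 := fun h => hx (orderOf_eq_one_iff.1 h)
  obtain ⟨p, hp, hd⟩ := Nat.exists_prime_and_dvd this
  exact ⟨p, hp, hd, h1 p hp hd⟩

/-- decomposition into `π`-part and `π'`-part. -/
theorem exists_piPart [Finite G] (π : Set ℕ) (x : G) : ∃ a ∈ zpowers x, ∃ b ∈ zpowers x,
    x = a * b ∧ a * b = b * a ∧ PiElt π a ∧ PiElt {p | p ∉ π} b := by
  obtain ⟨m, k, h1, h2, h3⟩ := exists_pi_split π (n := orderOf x) (orderOf_pos x).ne'
  have hmk : m.Coprime k := coprime_of_pi h2 h3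
  -- 1 = m * u + k * v
  have hb := Nat.gcd_eq_gcd_ab m k
  rw [hmk] at hb
  refine ⟨x ^ ((k : ℤ) * Nat.gcdB m k), Subgroup.zpow_mem _ (mem_zpowers x) _,
    x ^ ((m : ℤ) * Nat.gcdA m k), Subgroup.zpow_mem _ (mem_zpowers x) _, ?_, ?_, ?_, ?_⟩
  · rw [← zpow_add, add_comm, ← hb]; simp
  · rw [← zpow_add, ← zpow_add, add_comm]
  · intro p hp hd
    apply h2 p hp
    refine hd.trans (orderOf_dvd_of_pow_eq_one ?_)
    rw [← zpow_natCast, ← zpow_mul, show (k : ℤ) * Nat.gcdB m k * (m : ℤ)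
      = ((m * k : ℕ) : ℤ) * Nat.gcdB m k by push_cast; ring, ← h1, zpow_mul, zpow_natCast,
      pow_orderOf_eq_one, one_zpow]
  · intro p hp hd hpπ
    apply h3 p hp hpπ
    refine hd.trans (orderOf_dvd_of_pow_eq_one ?_)
    rw [← zpow_natCast, ← zpow_mul, show (m : ℤ) * Nat.gcdA m k * (k : ℤ)
      = ((m * k : ℕ) : ℤ) * Nat.gcdA m k by push_cast; ring, ← h1, zpow_mul, zpow_natCast,
      pow_orderOf_eq_one, one_zpow]

theorem coprime_orderOf [Finite G] {π : Set ℕ} {a b : G} (ha : PiElt π a) (hb : PiElt {p | p ∉ π} b) :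
    (orderOf a).Coprime (orderOf b) :=
  coprime_of_pi ha (fun p hp h1 h2 => hb p hp h2 h1)

/-- the factors of a commuting `π`, `π'` decomposition are powers of the product -/
theorem mem_zpowers_of_coprime [Finite G] {a b : G} (hc : a * b = b * a)
    (h : (orderOf a).Coprime (orderOf b)) : a ∈ zpowers (a * b) := by
  have hcm : Commute a b := hc
  have hb := Nat.gcd_eq_gcd_ab (orderOf a) (orderOf b)
  rw [h] at hb
  refine ⟨(orderOf b : ℤ) * Nat.gcdB (orderOf a) (orderOf b), ?_⟩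
  show (a * b) ^ _ = a
  rw [hcm.mul_zpow, zpow_mul b, zpow_natCast, pow_orderOf_eq_one, one_zpow, mul_one]
  have h2 : (orderOf b : ℤ) * Nat.gcdB (orderOf a) (orderOf b)
      = 1 - (orderOf a : ℤ) * Nat.gcdA (orderOf a) (orderOf b) := by
    push_cast at hb; linarith
  rw [h2, zpow_sub, zpow_one, zpow_mul, zpow_natCast, pow_orderOf_eq_one, one_zpow, inv_one, mul_one]

theorem mem_zpowers_of_coprime' [Finite G] {a b : G} (hc : a * b = b * a)
    (h : (orderOf a).Coprime (orderOf b)) : b ∈ zpowers (a * b) := by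
  rw [hc]; exact mem_zpowers_of_coprime hc.symm h.symm

theorem piPart_unique [Finite G] {π : Set ℕ} {a b c d : G} (h : a * b = c * d)
    (hab : a * b = b * a) (hcd : c * d = d * c) (ha : PiElt π a) (hb : PiElt {p | p ∉ π} b)
    (hc : PiElt π c) (hd : PiElt {p | p ∉ π} d) : a = c ∧ b = d := by
  have m1 := mem_zpowers_of_coprime hab (coprime_orderOf ha hb)
  have m2 := mem_zpowers_of_coprime' hab (coprime_orderOf ha hb)
  have m3 := mem_zpowers_of_coprime hcd (coprime_orderOf hc hd)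
  have m4 := mem_zpowers_of_coprime' hcd (coprime_orderOf hc hd)
  rw [← h] at m3 m4
  have comm : ∀ y ∈ zpowers (a * b), ∀ z ∈ zpowers (a * b), y * z = z * y := by
    rintro _ ⟨i, rfl⟩ _ ⟨j, rfl⟩
    show (a * b) ^ i * (a * b) ^ j = (a * b) ^ j * (a * b) ^ i
    rw [← zpow_add, ← zpow_add, add_comm]
  have e1 : c⁻¹ * a = d * b⁻¹ := by
    rw [inv_mul_eq_iff_eq_mul, ← mul_assoc, eq_mul_inv_iff_mul_eq, h]
  have h1 : PiElt π (c⁻¹ * a) := PiElt.mul (piElt_inv.2 hc) ha (comm _ (inv_mem m3) _ m1)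
  have h2 : PiElt {p | p ∉ π} (c⁻¹ * a) := by
    rw [e1]; exact PiElt.mul hd (piElt_inv.2 hb) (comm _ m4 _ (inv_mem m2))
  have h3 : c⁻¹ * a = 1 := eq_one_of_piElt (π' := {p | p ∉ π}) (fun p _ h1 h2 => h2 h1) h1 h2
  have h4 : a = c := (inv_mul_eq_one.1 h3).symm
  refine ⟨h4, ?_⟩
  rw [h4] at h
  exact mul_left_cancel h

/-- `π`-subgroups of `M` lie in a normal Hall `π`-subgroup. -/
theorem piSub_le_normal_hall [Finite G] {π : Set ℕ} {M N K : Subgroup G} (h : IsPiHallOf π N M)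
    (hn : M ≤ nz N) (hK : K ≤ M) (hπ : IsPiSub π K) : K ≤ N := by
  have h1 : IsPiSub π (N ⊔ K) := isPiSub_sup (hK.trans hn) h.2.1 hπ
  have h2 := OOT.IsPiHallOf.card_le h (sup_le h.1 hK) h1
  have h3 := L.eq_of_le_of_card_le (le_sup_left : N ≤ N ⊔ K) h2
  rw [h3]; exact le_sup_right

theorem piElt_mem_normal_hall [Finite G] {π : Set ℕ} {M N : Subgroup G} (h : IsPiHallOf π N M)
    (hn : M ≤ nz N) {x : G} (hx : x ∈ M) (hπ : PiElt π x) : x ∈ N := by
  have := piSub_le_normal_hall h hn (K := zpowers x) (by rwa [zpowers_le]) (piSub_zpowers.2 hπ)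
  exact this (mem_zpowers x)

/-! ### conjugation invariance -/

section Conj

theorem mem_of_cj {g x : G} {H : Subgroup G} (h : x ∈ cj g H) : ∃ y ∈ H, x = g * y * g⁻¹ := by
  rw [L.mem_cj] at h
  exact ⟨_, h, by group⟩

theorem commutator_cj (g : G) (H : Subgroup G) : ⁅cj g H, cj g H⁆ = cj g ⁅H, H⁆ :=
  (L.cj_commutator g H H).symm

theorem pRankLE_cj {p k : ℕ} {g : G} {M : Subgroup G} : PRankLE p k (cj g M) ↔ PRankLE p k M := by
  have key : ∀ (g : G) (M : Subgroup G), PRankLE p k M → PRankLE p k (cj g M) := by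
    intro g M h A hA1 hA2
    let e : M ≃* cj g M := M.equivMapOfInjective _ (MulAut.conj g).injective
    have h3 : Nat.card (A.map e.symm.toMonoidHom) = Nat.card A :=
      Nat.card_congr (A.equivMapOfInjective _ e.symm.injective).toEquiv.symm
    rw [← h3]
    apply h
    · constructor
      constructor
      rintro ⟨_, a, ha, rfl⟩ ⟨_, b, hb, rfl⟩
      apply Subtype.ext
      show e.symm a * e.symm b = e.symm b * e.symm a
      have hab : a * b = b * a := congrArg Subtype.val (hA1.is_comm.comm (⟨a, ha⟩ : A) ⟨b, hb⟩)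
      rw [← map_mul, hab, map_mul]
    · rintro _ ⟨a, ha, rfl⟩
      show (e.symm a) ^ p = 1
      rw [← map_pow, hA2 a ha, map_one]
  refine ⟨fun h => ?_, key g M⟩
  have := key g⁻¹ _ h
  rwa [L.cj_inv_cj] at this

variable [Finite G]

/-- The `σ` condition does not depend on the choice of the Sylow subgroup. -/
theorem mem_sigma_iff' {M : Subgroup G} {p : ℕ} : p ∈ sigma M ↔ p.Prime ∧ p ∣ Nat.card M ∧
    ∀ P : Subgroup G, SylIn p P M → normalizer (P : Set G) ≤ M := by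
  constructor
  · rintro ⟨hp, hd, P, hP⟩
    have : Fact p.Prime := ⟨hp⟩
    refine ⟨hp, hd, fun Q hQ => ?_⟩
    obtain ⟨m, hm, e⟩ := (L.sylIn_of_sylow P).exists_conj_eq hQ
    rw [← e]
    change nz _ ≤ M
    rw [L.nz_cj]
    have := L.cj_mono (g := m) hP
    rwa [L.cj_eq_self_of_mem hm] at this
  · rintro ⟨hp, hd, h⟩
    have : Fact p.Prime := ⟨hp⟩
    exact ⟨hp, hd, default, h _ (L.sylIn_of_sylow default)⟩

theorem sigma_cj (g : G) (M : Subgroup G) : sigma (cj g M) = sigma M := by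
  have key : ∀ (g : G) (M : Subgroup G), sigma M ⊆ sigma (cj g M) := by
    intro g M p hp
    rw [mem_sigma_iff'] at hp ⊢
    refine ⟨hp.1, by rw [L.card_cj]; exact hp.2.1, fun P hP => ?_⟩
    have h1 := hP.cj g⁻¹
    rw [L.cj_inv_cj] at h1
    have h2 := hp.2.2 _ h1
    change nz (cj g⁻¹ P) ≤ M at h2
    rw [L.nz_cj] at h2
    have h3 := L.cj_mono (g := g) h2
    rwa [L.cj_cj_inv] at h3
  refine Set.Subset.antisymm ?_ (key g M)
  have := key g⁻¹ (cj g M)
  rwa [L.cj_inv_cj] at this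

theorem sigmaCore_eq (M : Subgroup G) : sigmaCore M = piCoreOf (sigma M) M := rfl

theorem sigmaCore_cj (g : G) (M : Subgroup G) : sigmaCore (cj g M) = cj g (sigmaCore M) := by
  rw [sigmaCore_eq, sigmaCore_eq, cj_piCoreOf, sigma_cj]

theorem alpha_cj (g : G) (M : Subgroup G) : alpha (cj g M) = alpha M := by
  ext p; unfold alpha; simp only [Set.mem_ofPred_eq, pRankLE_cj]

theorem beta_cj (g : G) (M : Subgroup G) : beta (cj g M) = beta M := by
  ext p; unfold beta; simp only [Set.mem_ofPred_eq, alpha_cj]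

theorem tau2_cj (g : G) (M : Subgroup G) : tau2 (cj g M) = tau2 M := by
  ext p; unfold tau2; simp only [Set.mem_ofPred_eq, pRankLE_cj, sigma_cj]

theorem tau1_cj (g : G) (M : Subgroup G) : tau1 (cj g M) = tau1 M := by
  ext p; unfold tau1; simp only [Set.mem_ofPred_eq, pRankLE_cj, sigma_cj, L.card_cj, commutator_cj]

theorem tau3_cj (g : G) (M : Subgroup G) : tau3 (cj g M) = tau3 M := by
  ext p; unfold tau3; simp only [Set.mem_ofPred_eq, pRankLE_cj, sigma_cj, L.card_cj, commutator_cj]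

theorem isCyclic_cj {g : G} {H : Subgroup G} : IsCyclic (cj g H) ↔ IsCyclic H :=
  (H.equivMapOfInjective _ (MulAut.conj g).injective).symm.isCyclic

theorem mem_kappa_iff {M : Subgroup G} {p : ℕ} : p ∈ kappa M ↔ p.Prime ∧ p ∣ Nat.card M ∧
    p ∉ sigma M ∧ ∀ P : Subgroup G, SylIn p P M → IsCyclic P ∧
      ∃ x ∈ P, x ≠ 1 ∧ ∃ y ∈ sigmaCore M, y ≠ 1 ∧ x * y = y * x := by
  constructor
  · rintro ⟨hp, hd, hs, h⟩
    have : Fact p.Prime := ⟨hp⟩
    refine ⟨hp, hd, hs, fun P hP => ?_⟩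
    obtain ⟨h1, x, hx, hx1, y, hy, hy1, hxy⟩ := h hP.toSylow
    rw [hP.toSylow_coe] at hx
    refine ⟨?_, x, Subgroup.mem_subgroupOf.1 hx, fun h => hx1 (Subtype.ext h), y, hy, hy1, hxy⟩
    have e : (hP.toSylow : Subgroup M).map M.subtype = P := hP.map_toSylow
    rw [← e]
    exact ((hP.toSylow : Subgroup M).equivMapOfInjective _ M.subtype_injective).isCyclic.1 h1
  · rintro ⟨hp, hd, hs, h⟩
    have : Fact p.Prime := ⟨hp⟩
    refine ⟨hp, hd, hs, fun P => ?_⟩
    obtain ⟨h1, x, hx, hx1, y, hy, hy1, hxy⟩ := h _ (L.sylIn_of_sylow P)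
    refine ⟨((P : Subgroup M).equivMapOfInjective _ M.subtype_injective).isCyclic.2 h1, ?_⟩
    obtain ⟨x', hx', rfl⟩ := hx
    exact ⟨x', hx', fun h => hx1 (by rw [h]; rfl), y, hy, hy1, hxy⟩

theorem kappa_cj (g : G) (M : Subgroup G) : kappa (cj g M) = kappa M := by
  have key : ∀ (g : G) (M : Subgroup G), kappa M ⊆ kappa (cj g M) := by
    intro g M p hp
    rw [mem_kappa_iff] at hp ⊢
    refine ⟨hp.1, by rw [L.card_cj]; exact hp.2.1, by rw [sigma_cj]; exact hp.2.2.1, fun P hP => ?_⟩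
    have h1 := hP.cj g⁻¹
    rw [L.cj_inv_cj] at h1
    obtain ⟨h2, x, hx, hx1, y, hy, hy1, hxy⟩ := hp.2.2.2 _ h1
    refine ⟨isCyclic_cj.1 h2, g * x * g⁻¹, ?_, ?_, g * y * g⁻¹, ?_, ?_, ?_⟩
    · rw [L.mem_cj] at hx; simpa using hx
    · intro h; exact hx1 (by simpa using h)
    · rw [sigmaCore_cj]; exact L.conj_mem_cj hy
    · intro h; exact hy1 (by simpa using h)
    · calc g * x * g⁻¹ * (g * y * g⁻¹) = g * (x * y) * g⁻¹ := by group
        _ = g * (y * x) * g⁻¹ := by rw [hxy]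
        _ = _ := by group
  refine Set.Subset.antisymm ?_ (key g M)
  have := key g⁻¹ (cj g M)
  rwa [L.cj_inv_cj] at this

end Conj

end Cfsg.Agent.H21
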