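import Cfsg.Agent.H14.ONine
import Cfsg.Agent.H21.OTUtil

/-! S1378: the sets `σ(M)` partition the prime divisors of `|G|`. -/

set_option autoImplicit false
set_option linter.unusedVariables false

namespace Cfsg.Agent.H21

open Subgroup Cfsg
open Cfsg.Agent.L (cj nz SylIn)
open Cfsg.Agent.OOT

universe u
variable {G : Type u} [Group G] [Finite G] (hG : IsMinSimpleOddOrder G)
include hG

theorem exists_sigma_free {p : ℕ} (hp : p.Prime) (hd : p ∣ Nat.card G) :
    ∃ M : Subgroup G, IsCoatom M ∧ p ∈ sigma M := by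
  have : Fact p.Prime := ⟨hp⟩
  obtain ⟨P, hP⟩ := L.exists_sylIn (p := p) (⊤ : Subgroup G)
  have hP1 : P ≠ ⊥ := by
    refine H14.O.ne_bot_of_sylIn (q := p) hP ?_
    rwa [Subgroup.card_top]
  obtain ⟨M, hM, hPM⟩ := exists_coatom_ge (normalizer_ne_top hG hP1 (pgroup_ne_top hG hP.isPGroup))
  have hPleM : P ≤ M := le_normalizer.trans hPM
  refine ⟨M, hM, mem_sigma_iff'.2 ⟨hp, ?_, ?_⟩⟩
  · have h1 : p ∣ Nat.card P := by
      obtain ⟨n, hn⟩ := hP.isPGroup.exists_card_eq
      rcases n with _ | n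
      · rw [pow_zero] at hn
        exact absurd (Subgroup.card_eq_one.1 hn) hP1
      · rw [hn]; exact dvd_pow_self p (by omega)
    exact h1.trans (Subgroup.card_dvd_of_le hPleM)
  · intro Q hQ
    have hPM' : SylIn p P M := hP.of_le hPleM le_top
    obtain ⟨m, hm, e⟩ := hPM'.exists_conj_eq hQ
    rw [← e]
    change nz _ ≤ M
    rw [L.nz_cj]
    have := L.cj_mono (g := m) hPM
    rwa [L.cj_eq_self_of_mem hm] at this

theorem row1378 :
    (∀ p : ℕ, p.Prime → p ∣ Nat.card G → ∃ M : Subgroup G, IsCoatom M ∧ p ∈ Cfsg.sigma M) ∧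
      ∀ M N : Subgroup G, IsCoatom M → IsCoatom N → (Cfsg.sigma M ∩ Cfsg.sigma N).Nonempty →
        ∃ g : G, N = M.map (MulAut.conj g).toMonoidHom := by
  refine ⟨fun p hp hd => exists_sigma_free hG hp hd, ?_⟩
  rintro M N hM hN ⟨q, h1, h2⟩
  by_contra hcon
  push Not at hcon
  exact H14.O.sigma_disjoint hG hM hN (fun g e => hcon g e.symm) h1 h2

end Cfsg.Agent.H21
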