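import Cfsg.Agent.S1350
import Cfsg.Agent.S1378
import Cfsg.Agent.S1404
import Cfsg.Agent.S1405
import Cfsg.Agent.S1408
import Cfsg.Agent.S1409
import Cfsg.Agent.S1414
import Cfsg.Agent.S1415
import Cfsg.Agent.S1417
import Cfsg.Agent.S1418
import Cfsg.Agent.S1419
import Cfsg.Agent.S1420
import Cfsg.Agent.S1423
import Cfsg.Agent.S1424
import Cfsg.Agent.S1425
import Cfsg.Agent.S1426
import Cfsg.Agent.S1429
import Cfsg.Agent.S1430
import Cfsg.Agent.S1431
import Cfsg.Agent.S1445
import Cfsg.Agent.S1446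
import Cfsg.Agent.S1454

/-! Aliases for rows proved elsewhere. -/

set_option autoImplicit false

namespace Cfsg.Agent.H21.BB

alias S1350 := Cfsg.Agent.S1350.result
alias S1378 := Cfsg.Agent.S1378.result
alias S1404 := Cfsg.Agent.S1404.result
alias S1405 := Cfsg.Agent.S1405.result
alias S1408 := Cfsg.Agent.S1408.result
alias S1409 := Cfsg.Agent.S1409.result
alias S1414 := Cfsg.Agent.S1414.result
alias S1415 := Cfsg.Agent.S1415.result
alias S1417 := Cfsg.Agent.S1417.result
alias S1418 := Cfsg.Agent.S1418.result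
alias S1419 := Cfsg.Agent.S1419.result
alias S1420 := Cfsg.Agent.S1420.result
alias S1423 := Cfsg.Agent.S1423.result
alias S1424 := Cfsg.Agent.S1424.result
alias S1425 := Cfsg.Agent.S1425.result
alias S1426 := Cfsg.Agent.S1426.result
alias S1429 := Cfsg.Agent.S1429.result
alias S1430 := Cfsg.Agent.S1430.result
alias S1431 := Cfsg.Agent.S1431.result
alias S1445 := Cfsg.Agent.S1445.result
alias S1446 := Cfsg.Agent.S1446.result
alias S1454 := Cfsg.Agent.S1454.result

end Cfsg.Agent.H21.BB
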