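import Cfsg.Agent.S1437
import Cfsg.Agent.S1438
import Cfsg.Agent.S1439

/-! Aliases for helper2's rows (BG 15). -/

set_option autoImplicit false

namespace Cfsg.Agent.H21.BB

alias S1437 := Cfsg.Agent.S1437.result
alias S1438 := Cfsg.Agent.S1438.result
alias S1439 := Cfsg.Agent.S1439.result

end Cfsg.Agent.H21.BB
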