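import Cfsg.Agent.S1421

set_option autoImplicit false

namespace Cfsg.Agent.H21.BB

alias S1421 := Cfsg.Agent.S1421.result

end Cfsg.Agent.H21.BB
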