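import Cfsg.Agent.H21.Derang3

set_option autoImplicit false
set_option linter.all false

/-!
Counting derangements in primitive groups with an abelian normal subgroup (helper21).
-/

namespace Cfsg.Agent.H21

open Cfsg.Agent.H22 MulAction

variable {G : Type*} [Group G]

/-- in a transitive group in which non-identity elements fix at most one point there are exactly `n-1` derangements -/
theorem card_derangements [Finite G] {Ω : Type*} [Finite Ω] [MulAction G Ω] (hΩ : 2 ≤ Nat.card Ω)
    (ht : IsPretransitive G Ω) (hfix : ∀ g : G, g ≠ 1 → Nat.card (fixedBy Ω g) ≤ 1) :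
    Nat.card {g : G // ∀ ω : Ω, g • ω ≠ ω} = Nat.card Ω - 1 := by
  classical
  haveI := Fintype.ofFinite G
  haveI : Nontrivial Ω := Finite.one_lt_card_iff_nontrivial.1 hΩ
  have hb := burnside_nat (G := G) Ω
  have h1 : Nat.card (orbitRel.Quotient G Ω) = 1 := by
    haveI := (pretransitive_iff_subsingleton_quotient G Ω).1 ht
    haveI : Nonempty (orbitRel.Quotient G Ω) := Nonempty.map Quotient.mk'' inferInstance
    exact Nat.card_unique
  rw [h1, one_mul] at hb
  have hone : Nat.card (fixedBy Ω (1 : G)) = Nat.card Ω := by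
    apply Nat.card_congr
    exact ⟨fun x => x.1, fun x => ⟨x, one_smul G x⟩, fun x => rfl, fun x => rfl⟩
  have hder : ∀ g : G, (∀ ω : Ω, g • ω ≠ ω) ↔ Nat.card (fixedBy Ω g) = 0 := by
    intro g
    rw [Finite.card_eq_zero_iff]
    constructor
    · intro h; exact ⟨fun x => h x.1 x.2⟩
    · intro h ω hω; exact h.false ⟨ω, hω⟩
  have hval : ∀ g : G, (Nat.card (fixedBy Ω g) : ℤ) = 1 - (if ∀ ω : Ω, g • ω ≠ ω then 1 else 0) + (if g = 1 then (Nat.card Ω : ℤ) - 1 else 0) := by
    intro g
    by_cases hg : g = 1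
    · subst hg
      rw [hone]
      have : ¬ ∀ ω : Ω, (1 : G) • ω ≠ ω := by
        intro h
        exact h (Classical.arbitrary Ω) (one_smul _ _)
      rw [if_neg this, if_pos rfl]; ring
    · rw [if_neg hg]
      by_cases hd : ∀ ω : Ω, g • ω ≠ ω
      · rw [if_pos hd, (hder g).1 hd]; simp
      · rw [if_neg hd]
        have h2 := hfix g hg
        have h3 : Nat.card (fixedBy Ω g) ≠ 0 := fun h => hd ((hder g).2 h)
        have : Nat.card (fixedBy Ω g) = 1 := by omega
        rw [this]; simp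
  have h2 : (∑ g : G, (Nat.card (fixedBy Ω g) : ℤ)) = Nat.card G := by exact_mod_cast hb
  rw [Finset.sum_congr rfl (fun g _ => hval g), Finset.sum_add_distrib, Finset.sum_sub_distrib,
    Finset.sum_ite_eq' Finset.univ (1 : G) (fun _ => (Nat.card Ω : ℤ) - 1)] at h2
  simp only [Finset.mem_univ, if_true, Finset.sum_const, Finset.card_univ, nsmul_eq_mul, mul_one] at h2
  rw [← Nat.card_eq_fintype_card, Finset.sum_boole] at h2
  have h4 : Nat.card {g : G // ∀ ω : Ω, g • ω ≠ ω} = (Finset.univ.filter (fun g : G => ∀ ω : Ω, g • ω ≠ ω)).card := by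
    rw [Nat.card_eq_fintype_card, Fintype.card_subtype]
  rw [h4]
  omega

/-- if all non-trivial elements of a transitive abelian normal subgroup are conjugate, `G` is 2-transitive -/
theorem two_transitive_of_conj {Ω : Type*} [MulAction G Ω] (A : Subgroup G) (hAt : IsPretransitive A Ω)
    (hAc : ∀ a ∈ A, ∀ b ∈ A, a * b = b * a) (hconj : ∀ a ∈ A, ∀ b ∈ A, a ≠ 1 → b ≠ 1 → IsConj a b) :
    MulAction.IsMultiplyPretransitive G Ω 2 := by
  rw [MulAction.is_two_pretransitive_iff]
  intro a b c d hab hcd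
  obtain ⟨x, hx⟩ := hAt.exists_smul_eq a b
  obtain ⟨y, hy⟩ := hAt.exists_smul_eq c d
  have hx1 : (x : G) ≠ 1 := by
    intro h; apply hab; rw [← hx]; show a = (x : G) • a; rw [h, one_smul]
  have hy1 : (y : G) ≠ 1 := by
    intro h; apply hcd; rw [← hy]; show c = (y : G) • c; rw [h, one_smul]
  obtain ⟨g, hg⟩ := isConj_iff.1 (hconj x x.2 y y.2 hx1 hy1)
  obtain ⟨u, hu⟩ := hAt.exists_smul_eq (g • a) c
  have hx' : (x : G) • a = b := hx
  have hy' : (y : G) • c = d := hy
  have hu' : (u : G) • g • a = c := hu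
  refine ⟨(u : G) * g, by rw [mul_smul, hu'], ?_⟩
  rw [← hx', mul_smul, ← mul_smul g (x : G) a]
  have h1 : g * (x : G) = y * g := by rw [← hg]; group
  rw [h1, mul_smul, ← mul_smul (u : G) (y : G), hAc u u.2 y y.2, mul_smul, hu', hy']

/-- lower bound for the class of a derangement when non-identity elements fix at most one point -/
theorem exists_conj_injective {Ω : Type*} [MulAction G Ω] (h2 : ∀ g : G, g ≠ 1 → ∀ a b : Ω, a ≠ b → g • a = a → g • b ≠ b)
    (α : Ω) {x : G} (hx : ∀ ω : Ω, x • ω ≠ ω) (h k : stabilizer G α)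
    (hk : (h : G) * x * (h : G)⁻¹ = k * x * (k : G)⁻¹) : h = k := by
  by_contra hne
  have h1 : (k : G)⁻¹ * h ≠ 1 := by
    intro h3; apply hne; apply Subtype.ext; exact (inv_mul_eq_one.1 h3).symm
  have h3 : ((k : G)⁻¹ * h) * x = x * ((k : G)⁻¹ * h) := by
    calc (k : G)⁻¹ * h * x = (k : G)⁻¹ * ((h : G) * x * (h : G)⁻¹) * h := by group
      _ = (k : G)⁻¹ * (k * x * (k : G)⁻¹) * h := by rw [hk]
      _ = x * ((k : G)⁻¹ * h) := by group
  have h4 : ((k : G)⁻¹ * h) • α = α := by
    have e1 : (h : G) • α = α := h.2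
    have e2 : (k : G) • α = α := k.2
    rw [mul_smul, e1, inv_smul_eq_iff, e2]
  apply h2 _ h1 α (x • α) (hx α).symm h4
  rw [← mul_smul, h3, mul_smul, h4]

end Cfsg.Agent.H21
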