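import Mathlib
import Cfsg.Prelude.Def_Solvable

set_option autoImplicit false
set_option linter.style.haveILetI false
set_option linter.unusedVariables false

/-!
Elementary facts on Frobenius complements (helper21), no character theory.
-/

namespace Cfsg.Agent.H21

open scoped Pointwise

variable {L : Type*} [Group L]

/-- the centraliser of a non-trivial element of a Frobenius complement lies in the complement -/
theorem frob_commute_mem {H : Subgroup L} (hH : Cfsg.IsFrobeniusComplement H) {a g : L} (ha : a ∈ H) (ha1 : a ≠ 1)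
    (h : g * a = a * g) : g ∈ H := by
  by_contra hg
  have h1 := hH.2.2 g hg
  have h2 : a ∈ H ⊓ (MulAut.conj g • H) := by
    refine Subgroup.mem_inf.mpr ⟨ha, ?_⟩
    rw [Subgroup.mem_pointwise_smul_iff_inv_smul_mem, ← map_inv, MulAut.smul_def, MulAut.conj_apply, inv_inv]
    have : g⁻¹ * a * g = a := by rw [mul_assoc, ← h]; group
    rw [this]; exact ha
  rw [h1, Subgroup.mem_bot] at h2
  exact ha1 h2

/-- normalisers of non-trivial subgroups of a Frobenius complement lie in the complement -/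
theorem frob_normalizes_mem {H : Subgroup L} (hH : Cfsg.IsFrobeniusComplement H) {a g : L} (ha : a ∈ H) (ha1 : a ≠ 1)
    (h : g * a * g⁻¹ ∈ H) : g ∈ H := by
  by_contra hg
  have h1 := hH.2.2 g hg
  have h2 : g * a * g⁻¹ ∈ H ⊓ (MulAut.conj g • H) := by
    refine Subgroup.mem_inf.mpr ⟨h, ?_⟩
    rw [Subgroup.mem_pointwise_smul_iff_inv_smul_mem, ← map_inv, MulAut.smul_def, MulAut.conj_apply, inv_inv]
    have : g⁻¹ * (g * a * g⁻¹) * g = a := by group
    rw [this]; exact ha
  rw [h1, Subgroup.mem_bot] at h2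
  apply ha1
  have h3 : a = g⁻¹ * (g * a * g⁻¹) * g := by group
  rw [h3, h2]; group

/-- a finite `p`-subgroup meeting a Frobenius complement non-trivially lies in it -/
theorem frob_pgroup_le [Finite L] {H : Subgroup L} (hH : Cfsg.IsFrobeniusComplement H) {p : ℕ} [Fact p.Prime] (Q : Subgroup L)
    (hQ : IsPGroup p Q) {a : L} (haH : a ∈ H) (haQ : a ∈ Q) (ha1 : a ≠ 1) : Q ≤ H := by
  haveI : Nontrivial Q := ⟨⟨a, haQ⟩, 1, fun h => ha1 (congrArg Subtype.val h)⟩
  haveI := hQ.center_nontrivial
  obtain ⟨⟨z, hz⟩, hz1⟩ := exists_ne (1 : Subgroup.center Q)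
  have hz1' : (z : L) ≠ 1 := fun h => hz1 (Subtype.ext (Subtype.ext h))
  have hzc : ∀ q ∈ Q, q * (z : L) = z * q := by
    intro q hq
    exact congrArg Subtype.val (Subgroup.mem_center_iff.mp hz ⟨q, hq⟩)
  have hzH : (z : L) ∈ H := frob_commute_mem hH haH ha1 (hzc a haQ).symm
  intro q hq
  exact frob_commute_mem hH hzH hz1' (hzc q hq)

/-- if `p` divides the order of a Frobenius complement `H`, every `p`-element lies in a conjugate of `H` -/
theorem frob_pelement_conj [Finite L] {H : Subgroup L} (hH : Cfsg.IsFrobeniusComplement H) {p : ℕ} [Fact p.Prime]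
    (hp : p ∣ Nat.card H) (P : Subgroup L) (hP : IsPGroup p P) : ∃ g : L, P ≤ MulAut.conj g • H := by
  obtain ⟨x, hx⟩ := exists_prime_orderOf_dvd_card' p hp
  have hx' : orderOf (x : L) = p := by rw [Subgroup.orderOf_coe, hx]
  have hx1 : (x : L) ≠ 1 := by
    intro h; rw [h, orderOf_one] at hx'; exact (Fact.out : p.Prime).one_lt.ne hx'
  have hz : IsPGroup p (Subgroup.zpowers (x : L)) := IsPGroup.of_card (n := 1) (by rw [Nat.card_zpowers, hx', pow_one])
  obtain ⟨Q, hQ⟩ := hz.exists_le_sylow
  have hQH : (Q : Subgroup L) ≤ H := frob_pgroup_le hH Q Q.2 x.2 (hQ (Subgroup.mem_zpowers _)) hx1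
  obtain ⟨R, hR⟩ := hP.exists_le_sylow
  obtain ⟨g, hg⟩ := MulAction.exists_smul_eq L Q R
  refine ⟨g, hR.trans ?_⟩
  rw [← hg, Sylow.coe_subgroup_smul]
  exact Subgroup.pointwise_smul_le_pointwise_smul_iff.mpr hQH

/-- the non-identity elements of the Frobenius kernel have order prime to the order of the complement, and conversely -/
theorem frob_mem_kernel_iff [Finite L] {H : Subgroup L} (hH : Cfsg.IsFrobeniusComplement H) (x : L)
    (hpow : x ∈ Cfsg.frobeniusKernel H → ∀ n : ℕ, x ^ n ∈ Cfsg.frobeniusKernel H) :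
    x ∈ Cfsg.frobeniusKernel H ↔ Nat.Coprime (orderOf x) (Nat.card H) := by
  constructor
  · intro hx
    by_contra hcop
    obtain ⟨p, hp, hpx, hpH⟩ := Nat.Prime.not_coprime_iff_dvd.mp hcop
    haveI : Fact p.Prime := ⟨hp⟩
    obtain ⟨q, hq⟩ := hpx
    have hq0 : q ≠ 0 := by
      rintro rfl; rw [mul_zero] at hq; exact (orderOf_pos x).ne' hq
    have hy : orderOf (x ^ q) = p := by
      rw [orderOf_pow' x hq0, hq, Nat.gcd_mul_left_left]
      exact Nat.mul_div_cancel _ (Nat.pos_of_ne_zero hq0)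
    have hz : IsPGroup p (Subgroup.zpowers (x ^ q)) := IsPGroup.of_card (n := 1) (by rw [Nat.card_zpowers, hy, pow_one])
    obtain ⟨g, hg⟩ := frob_pelement_conj hH hpH _ hz
    rcases hpow hx q with h1 | h1
    · rw [h1, orderOf_one] at hy; exact hp.one_lt.ne hy
    · exact h1 g (hg (Subgroup.mem_zpowers _))
  · intro hcop
    by_cases hx1 : x = 1
    · left; exact hx1
    · right
      intro g hg
      apply hx1
      rw [Subgroup.mem_pointwise_smul_iff_inv_smul_mem, ← map_inv, MulAut.smul_def, MulAut.conj_apply, inv_inv] at hg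
      have h1 : orderOf (g⁻¹ * x * g) = orderOf x := by
        have := orderOf_injective (MulAut.conj g⁻¹).toMonoidHom (MulAut.conj g⁻¹).injective x
        simpa using this
      have h2 : orderOf (g⁻¹ * x * g) ∣ Nat.card H := by
        have := orderOf_dvd_natCard (⟨_, hg⟩ : H)
        rwa [← Subgroup.orderOf_coe] at this
      rw [h1] at h2
      have h3 : orderOf x ∣ 1 := by
        rw [← hcop.gcd_eq_one]; exact Nat.dvd_gcd dvd_rfl h2
      exact orderOf_eq_one_iff.mp (Nat.dvd_one.mp h3)

theorem frob_not_mem_kernel {H : Subgroup L} {x : L} (h1 : ¬ x ∈ Cfsg.frobeniusKernel H) :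
    x ≠ 1 ∧ ∃ g : L, g⁻¹ * x * g ∈ H := by
  constructor
  · intro h; exact h1 (Or.inl h)
  · by_contra h; push Not at h
    apply h1; right
    intro g hg
    apply h g
    rwa [Subgroup.mem_pointwise_smul_iff_inv_smul_mem, ← map_inv, MulAut.smul_def, MulAut.conj_apply, inv_inv] at hg

end Cfsg.Agent.H21
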