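import Cfsg.Agent.H21.OTUtil2
import Cfsg.Agent.H18.FrobAct
import Cfsg.Agent.H23.Coprime5

set_option autoImplicit false

/-! Frobenius groups `XQ` acting coprimely on nilpotent `V` with `C_V(Q) = 1`: `X` centralizes `V`. -/

namespace Cfsg.Agent.H21

open Subgroup
open Cfsg.Agent.L (cj nz SylIn)
open scoped commutatorElement

universe u
variable {G : Type u} [Group G]

theorem frob_act_normal [Finite G] {V X Q : Subgroup G} (hVn : V.Normal)
    (hV : Group.IsNilpotent V) (hQX : Q ≤ nz X) (hinf : X ⊓ Q = ⊥)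
    (hfrob : ∀ h ∈ Q, h ≠ 1 → ∀ k ∈ X, h * k = k * h → k = 1)
    (hcX : (Nat.card X).Coprime (Nat.card V)) (hcQ : (Nat.card Q).Coprime (Nat.card V))
    (hC : V ⊓ centralizer (Q : Set G) = ⊥) : X ≤ centralizer (V : Set G) := by
  have hVs : Group.IsSolvable V := by have := hV; infer_instance
  set D : Subgroup G := ⁅V, V⁆ with hD
  have hDn : D.Normal := Subgroup.commutator_normal V V
  have hDV : D ≤ V := Subgroup.commutator_le_left V V
  let π := QuotientGroup.mk' D
  have hker : ∀ g : G, π g = 1 ↔ g ∈ D := fun g => by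
    rw [← MonoidHom.mem_ker, QuotientGroup.ker_mk']
  have hVab : ∀ a ∈ V.map π, ∀ b ∈ V.map π, a * b = b * a := by
    rintro _ ⟨a, ha, rfl⟩ _ ⟨b, hb, rfl⟩
    rw [← map_mul, ← map_mul, ← mul_inv_eq_one, ← map_inv, ← map_mul, hker]
    have : a * b * (b * a)⁻¹ = ⁅a, b⁆ := by rw [commutatorElement_def]; group
    rw [this]
    exact Subgroup.commutator_mem_commutator ha hb
  have hVc : IsMulCommutative (V.map π) := mulComm_iff.2 hVab
  have hVn' : (V.map π).Normal := hVn.map π (QuotientGroup.mk'_surjective D)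
  have hXV : X.map π ≤ normalizer ((V.map π : Subgroup (G ⧸ D)) : Set (G ⧸ D)) := by
    rw [Subgroup.normalizer_eq_top]; exact le_top
  have hcop1 : (Nat.card (X.map π)).Coprime (Nat.card (V.map π)) :=
    Nat.Coprime.coprime_dvd_left (Subgroup.card_map_dvd X π)
      (Nat.Coprime.coprime_dvd_right (Subgroup.card_map_dvd V π) hcX)
  obtain ⟨d1, d2⟩ := H1.abelian_coprime_decomposition (X.map π) (V.map π) hXV hcop1
  set M : Subgroup (G ⧸ D) := ⁅V.map π, X.map π⁆ with hM
  have hMV : M ≤ V.map π := by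
    have := Subgroup.le_normalizer_iff_commutator_le_left.1 hXV
    exact this
  -- elements of `X Q` meeting `D`
  have hXD : ∀ k ∈ X, ∀ h ∈ Q, k * h ∈ D → k * h = 1 := by
    intro k hk h hh hkh
    have h1 : (Nat.card (X ⊔ Q : Subgroup G)).Coprime (Nat.card D) := by
      rw [card_sup_of_le_nz hQX hinf]
      exact Nat.Coprime.mul_left (Nat.Coprime.coprime_dvd_right (card_dvd_of_le hDV) hcX)
        (Nat.Coprime.coprime_dvd_right (card_dvd_of_le hDV) hcQ)
    have h2 : k * h ∈ (X ⊔ Q) ⊓ D :=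
      ⟨Subgroup.mul_mem _ (Subgroup.mem_sup_left hk) (Subgroup.mem_sup_right hh), hkh⟩
    rw [(Subgroup.disjoint_of_coprime_natCard h1).eq_bot, Subgroup.mem_bot] at h2
    exact h2
  have hQX' : Q.map π ≤ normalizer ((X.map π : Subgroup (G ⧸ D)) : Set (G ⧸ D)) :=
    (Subgroup.map_mono hQX).trans (Subgroup.le_normalizer_map π)
  have hexp := H18.frob_norm' (V := M) (K := X.map π) (H := Q.map π)
    (fun a ha b hb => hVab a (hMV ha) b (hMV hb))
    (H1.right_le_normalizer_commutator _ _)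
    (by
      -- `Q` normalizes `[V̄, X̄]`
      intro g hg
      rw [H1.mem_normalizer_iff_conj_smul, hM, H1.conj_smul_commutator,
        H1.mem_normalizer_iff_conj_smul.1 (hQX' hg),
        H1.mem_normalizer_iff_conj_smul.1 (by rw [Subgroup.normalizer_eq_top]; trivial :
          g ∈ normalizer ((V.map π : Subgroup (G ⧸ D)) : Set (G ⧸ D)))])
    hQX'
    (by
      rw [eq_bot_iff]
      rintro x ⟨⟨k, hk, rfl⟩, ⟨h, hh, e⟩⟩
      rw [Subgroup.mem_bot]
      have h1 : k * h⁻¹ ∈ D := by
        rw [← hker, map_mul, map_inv, e, mul_inv_cancel]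
      have h2 := hXD k hk h⁻¹ (Q.inv_mem hh) h1
      have h3 : k ∈ X ⊓ Q := ⟨hk, by rw [mul_inv_eq_one.1 h2]; exact hh⟩
      rw [hinf, Subgroup.mem_bot] at h3
      rw [h3, map_one])
    (by
      rintro _ ⟨h, hh, rfl⟩ hne _ ⟨k, hk, rfl⟩ hkh
      have hh1 : h ≠ 1 := by rintro rfl; exact hne (map_one _)
      have h1 : (h * k * h⁻¹) * k⁻¹ ∈ D := by
        rw [← hker]
        simp only [map_mul, map_inv]
        rw [hkh]; group
      have h2 : h * k * h⁻¹ ∈ X := (Subgroup.mem_normalizer_iff.1 (hQX hh) k).1 hk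
      have h3 := hXD (h * k * h⁻¹ * k⁻¹) (X.mul_mem h2 (X.inv_mem hk)) 1 Q.one_mem
        (by rw [mul_one]; exact h1)
      rw [mul_one, mul_inv_eq_one, mul_inv_eq_iff_eq_mul] at h3
      rw [hfrob h hh hh1 k hk h3, map_one])
    (by
      intro v hv hfix
      have h1 : v ∈ (V.map π ⊓ centralizer ((X.map π : Subgroup (G ⧸ D)) : Set (G ⧸ D))) ⊓ M := by
        refine ⟨⟨hMV hv, mem_cent_iff.2 ?_⟩, hv⟩
        exact fun x hx => (hfix x hx).symm
      rw [d1, Subgroup.mem_bot] at h1
      exact h1)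
    (by
      intro v hv hfix
      obtain ⟨w, hw, rfl⟩ := hMV hv
      obtain ⟨c, hc, hcw⟩ := H1.exists_fixed_in_coset' Q V D hDV
        (by
          have : Q ≤ (⊤ : Subgroup G) := le_top
          rw [Subgroup.normalizer_eq_top]; exact le_top)
        hcQ (Or.inr hVs) w hw (by
          intro q hq
          rw [← hker]
          have := hfix (π q) ⟨q, hq, rfl⟩
          simp only [map_mul, map_inv]
          rw [this]; group)
      rw [hC, Subgroup.mem_bot] at hc
      rw [hc, mul_one] at hcw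
      rw [hker]
      exact (Subgroup.inv_mem_iff D).1 hcw)
  -- `M = 1`
  have hM1 : M = ⊥ := by
    rw [eq_bot_iff]
    intro v hv
    rw [Subgroup.mem_bot]
    have h1 := hexp v hv
    have h2 : orderOf v ∣ Nat.card (X.map π) := orderOf_dvd_of_pow_eq_one h1
    have h3 : orderOf v ∣ Nat.card (V.map π) := by
      rw [← Nat.card_zpowers]
      exact card_dvd_of_le (by rw [zpowers_le]; exact hMV hv)
    have h4 : orderOf v = 1 := Nat.eq_one_of_dvd_coprimes hcop1 h2 h3
    exact orderOf_eq_one_iff.1 h4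
  have h5 : ⁅V, X⁆ ≤ D := by
    have h6 : (⁅V, X⁆).map π = ⊥ := by rw [Subgroup.map_commutator]; exact hM1
    rw [Subgroup.map_eq_bot_iff, QuotientGroup.ker_mk'] at h6
    exact h6
  have hXn : X ≤ normalizer (V : Set G) := by rw [Subgroup.normalizer_eq_top]; exact le_top
  have h7 := H1.commutator_sup_centralizer X V hXn hcX (Or.inr hVs)
  have h8 : V ⊓ centralizer (X : Set G) = V := by
    apply H23.eq_of_sup_commutator hV inf_le_left
    nth_rewrite 1 [← h7]
    exact sup_le (h5.trans le_sup_right) le_sup_left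
  exact le_cent_comm.1 (inf_eq_left.1 h8)

/-- `X Q` Frobenius-like with complement `Q`, acting coprimely on the nilpotent group `V` with
`C_V(Q) = 1`: then `X` centralizes `V`. -/
theorem frob_act [Finite G] {V X Q : Subgroup G}
    (hV : Group.IsNilpotent V) (hXV : X ≤ nz V) (hQV : Q ≤ nz V) (hQX : Q ≤ nz X)
    (hinf : X ⊓ Q = ⊥)
    (hfrob : ∀ h ∈ Q, h ≠ 1 → ∀ k ∈ X, h * k = k * h → k = 1)
    (hcX : (Nat.card X).Coprime (Nat.card V)) (hcQ : (Nat.card Q).Coprime (Nat.card V))
    (hC : V ⊓ centralizer (Q : Set G) = ⊥) : X ≤ centralizer (V : Set G) := by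
  set H : Subgroup G := nz V with hH
  have hVH : V ≤ H := L.le_nz V
  have hn : (V.subgroupOf H).Normal := by
    rw [Subgroup.normal_subgroupOf_iff_le_normalizer hVH]
  have key := frob_act_normal (V := V.subgroupOf H) (X := X.subgroupOf H) (Q := Q.subgroupOf H)
    hn (H1.isNilpotent_subgroupOf hVH hV)
    (by
      intro g hg
      rw [Subgroup.mem_subgroupOf] at hg
      rw [Subgroup.mem_normalizer_iff]
      intro x
      have := Subgroup.mem_normalizer_iff.1 (hQX hg) (x : G)
      simpa [Subgroup.mem_subgroupOf] using this)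
    (by
      rw [eq_bot_iff]
      rintro x ⟨hx1, hx2⟩
      have hx3 : (x : G) ∈ X ⊓ Q := ⟨hx1, hx2⟩
      rw [hinf, Subgroup.mem_bot] at hx3
      exact Subgroup.mem_bot.2 (Subtype.ext hx3))
    (by
      rintro h hh hne k hk hkh
      rw [Subgroup.mem_subgroupOf] at hh hk
      apply Subtype.ext
      exact hfrob h hh (fun e => hne (Subtype.ext e)) k hk (congrArg Subtype.val hkh))
    (by rw [H1.card_subgroupOf hXV, H1.card_subgroupOf hVH]; exact hcX)
    (by rw [H1.card_subgroupOf hQV, H1.card_subgroupOf hVH]; exact hcQ)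
    (by
      rw [eq_bot_iff]
      rintro x ⟨hx1, hx2⟩
      have hx3 : (x : G) ∈ V ⊓ centralizer (Q : Set G) := by
        refine ⟨hx1, ?_⟩
        intro q hq
        have := hx2 ⟨q, hQV hq⟩ hq
        exact congrArg Subtype.val this
      rw [hC, Subgroup.mem_bot] at hx3
      exact Subgroup.mem_bot.2 (Subtype.ext hx3))
  intro x hx v hv
  have := key (x := ⟨x, hXV hx⟩) hx ⟨v, hVH hv⟩ hv
  exact congrArg Subtype.val this

end Cfsg.Agent.H21
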