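import Cfsg.Agent.H21.BB
import Cfsg.Agent.H21.OTUtil

set_option autoImplicit false

/-! Section 14 of Bender-Glauberman, first part: basic facts, Corollary 14.3. -/

namespace Cfsg.Agent.H21

open Subgroup
open Cfsg.Agent.L (cj nz SylIn)
open Cfsg.Agent.H14 (IsPiSub)
open Cfsg.Agent.OOT
open scoped Pointwise

universe u
variable {G : Type u} [Group G]

/-- `M` is the only maximal subgroup containing `X` -/
def UniqIn (X M : Subgroup G) : Prop := X ≤ M ∧ ∀ L : Subgroup G, IsCoatom L → X ≤ L → L = M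

variable [Finite G] (hG : IsMinSimpleOddOrder G)
include hG

theorem ms_hall {M : Subgroup G} (hM : IsCoatom M) : IsPiHallOf (sigma M) (sigmaCore M) M :=
  (BB.S1350 hG M hM).1

theorem ms_hallG {M : Subgroup G} (hM : IsCoatom M) : IsPiHall (sigma M) (sigmaCore M) :=
  (BB.S1350 hG M hM).2.1

omit [Finite G] hG in
theorem ms_le (M : Subgroup G) : sigmaCore M ≤ M := Subgroup.map_subtype_le _

omit hG in
theorem le_nz_ms (M : Subgroup G) : M ≤ nz (sigmaCore M) := le_normalizer_piCoreOf _ _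

/-- `σ(M) ∩ σ(N) ≠ ∅` forces conjugacy -/
theorem sigma_conj {M N : Subgroup G} (hM : IsCoatom M) (hN : IsCoatom N) {p : ℕ}
    (h1 : p ∈ sigma M) (h2 : p ∈ sigma N) : ∃ g : G, N = cj g M :=
  (BB.S1378 hG).2 M N hM hN ⟨p, h1, h2⟩

theorem exists_sigma {p : ℕ} (hp : p.Prime) (hd : p ∣ Nat.card G) :
    ∃ M : Subgroup G, IsCoatom M ∧ p ∈ sigma M :=
  (BB.S1378 hG).1 p hp hd

theorem mem_ms {M : Subgroup G} (hM : IsCoatom M) {x : G} (hx : x ∈ M)
    (h : PiElt (sigma M) x) : x ∈ sigmaCore M :=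
  piElt_mem_normal_hall (ms_hall hG hM) (le_nz_ms M) hx h

theorem le_ms {M : Subgroup G} (hM : IsCoatom M) {K : Subgroup G} (hK : K ≤ M)
    (h : IsPiSub (sigma M) K) : K ≤ sigmaCore M :=
  piSub_le_normal_hall (ms_hall hG hM) (le_nz_ms M) hK h

theorem ms_pi {M : Subgroup G} (hM : IsCoatom M) {x : G} (hx : x ∈ sigmaCore M) :
    PiElt (sigma M) x := piElt_of_mem (ms_hall hG hM).2.1 hx

theorem ms_cap {M : Subgroup G} (hM : IsCoatom M) {x : G} (hx : x ∈ sigmaCore M)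
    (h : PiElt {p | p ∉ sigma M} x) : x = 1 :=
  eq_one_of_piElt (π := sigma M) (π' := {p | p ∉ sigma M}) (fun p _ h1 h2 => h2 h1)
    (ms_pi hG hM hx) h

theorem nz_ms {M : Subgroup G} (hM : IsCoatom M) (h : sigmaCore M ≠ ⊥) : nz (sigmaCore M) = M :=
  coatom_normalizer_eq hG hM h (ms_le M) (le_nz_ms M)

theorem exists_coatom_of_nz {X : Subgroup G} (h1 : X ≠ ⊥) (h2 : X ≠ ⊤) :
    ∃ M : Subgroup G, IsCoatom M ∧ nz X ≤ M :=
  exists_coatom_ge (normalizer_ne_top hG h1 h2)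

/-! ### complements of `M_σ` -/

theorem compl_hall {M E : Subgroup G} (hM : IsCoatom M) (hE : IsComplIn E (sigmaCore M) M) :
    IsPiHallOf {p | p ∉ sigma M} E M :=
  complIn_hall (π := sigma M) (fun p _ => Iff.rfl) (complIn_symm hE) (ms_hall hG hM)

theorem hall_compl {M E : Subgroup G} (hM : IsCoatom M) (hE : IsPiHallOf {p | p ∉ sigma M} E M) :
    IsComplIn E (sigmaCore M) M :=
  complIn_symm (OOT.IsPiHallOf.isComplIn (π := sigma M) (fun p _ => Iff.rfl) (ms_hall hG hM) hE).1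

theorem exists_compl_ge {M X : Subgroup G} (hM : IsCoatom M) (hX : X ≤ M)
    (h : IsPiSub {p | p ∉ sigma M} X) : ∃ E : Subgroup G, IsComplIn E (sigmaCore M) M ∧ X ≤ E := by
  obtain ⟨E, hE, hXE⟩ := exists_hallOf_ge (coatom_sol hG hM) hX h
  exact ⟨E, hall_compl hG hM hE, hXE⟩

theorem exists_compl {M : Subgroup G} (hM : IsCoatom M) :
    ∃ E : Subgroup G, IsComplIn E (sigmaCore M) M := by
  obtain ⟨E, hE, -⟩ := exists_compl_ge hG hM (X := ⊥) bot_le (isPiSub_bot _)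
  exact ⟨E, hE⟩

/-! ### `α`, `β`, `τ₂` -/

theorem alpha_sub_sigma {M : Subgroup G} (hM : IsCoatom M) : alpha M ⊆ sigma M := by
  intro p hp
  have : Fact p.Prime := ⟨hp.1⟩
  obtain ⟨h1, -, h3, -⟩ := BB.S1405 hG M hM
  have hd : p ∣ Nat.card M := dvd_of_not_pRankLE hp.2
  rw [← L.card_mul_relIndex h1.1] at hd
  rcases hp.1.dvd_mul.1 hd with h | h
  · exact (ms_hall hG hM).2.1 p hp.1 (h.trans (card_dvd_of_le h3))
  · exact absurd h (h1.2.2 p hp.1 hp)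

theorem beta_sub_sigma {M : Subgroup G} (hM : IsCoatom M) : beta M ⊆ sigma M :=
  fun _ hp => alpha_sub_sigma hG hM hp.1

theorem rank_le_two {M : Subgroup G} (hM : IsCoatom M) {p : ℕ} (hp : p.Prime) (h : p ∉ sigma M) :
    PRankLE p 2 M := by
  by_contra h'
  exact h (alpha_sub_sigma hG hM ⟨hp, h'⟩)

theorem tau2_not_ideal {M : Subgroup G} (hM : IsCoatom M) {p : ℕ} (h : p ∈ tau2 M) :
    ¬ IsIdealPrime p G := by
  have : Fact p.Prime := ⟨h.1⟩
  exact (BB.S1408 hG M hM p h.2.1 h.2.2.1 h.2.2.2).1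

theorem tau2_not_beta {M N : Subgroup G} (hM : IsCoatom M) {p : ℕ} (h : p ∈ tau2 M) :
    p ∉ beta N := fun h' => tau2_not_ideal hG hM h h'.2

omit [Finite G] hG in
theorem isEA_of_comm {p : ℕ} {A : Subgroup G} (h1 : IsMulCommutative A) (h2 : ∀ a ∈ A, a ^ p = 1) :
    IsElementaryAbelian p A := ⟨h1, h2⟩

/-- existence of `A ∈ E_p²(E)` -/
theorem exists_ea_sq {M E : Subgroup G} (hM : IsCoatom M) (hE : IsComplIn E (sigmaCore M) M)
    {p : ℕ} (h : p ∈ tau2 M) : ∃ A ≤ E, IsElementaryAbelian p A ∧ Nat.card A = p ^ 2 := by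
  have : Fact p.Prime := ⟨h.1⟩
  obtain ⟨A, hA, hA1, hA2⟩ := exists_ea_of_not_pRankLE (k := 1) h.2.2.2
  have hs : IsPiSub {p | p ∉ sigma M} A := isPiSub_of_isPGroup (π := {p | p ∉ sigma M}) h.2.1 (isEA_isPGroup hA1)
  obtain ⟨g, hg, hle⟩ := OOT.IsPiHallOf.exists_conj_le (coatom_sol hG hM) (compl_hall hG hM hE) hA hs
  exact ⟨_, hle, isEA_cj hA1, by rw [L.card_cj, hA2]⟩

omit hG in
theorem card_sq_ne_bot {p : ℕ} (hp : p.Prime) {A : Subgroup G} (h : Nat.card A = p ^ 2) : A ≠ ⊥ := by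
  rintro rfl
  rw [Subgroup.card_bot] at h
  have : 1 < p ^ 2 := Nat.one_lt_pow (by norm_num) hp.one_lt
  omega

theorem ea_ne_top {p : ℕ} (hp : p.Prime) {A : Subgroup G} (h : IsElementaryAbelian p A) : A ≠ ⊤ :=
  have : Fact p.Prime := ⟨hp⟩
  pgroup_ne_top hG (isEA_isPGroup h)

/-- a `p`-rank two group contains `A ∈ E_p²`: membership in `τ₂` -/
theorem mem_tau2_of_ea {M A : Subgroup G} (hM : IsCoatom M) {p : ℕ} (hp : p.Prime)
    (hA : A ≤ M) (hA1 : IsElementaryAbelian p A) (hA2 : Nat.card A = p ^ 2) (h : p ∉ sigma M) :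
    p ∈ tau2 M := by
  have : Fact p.Prime := ⟨hp⟩
  exact ⟨hp, h, rank_le_two hG hM hp h, not_pRankLE_of_ea hA hA1 (by rw [hA2])⟩

/-- If `A ∈ E_p²(M)`, `p ∈ τ₂(M)`, `A ≤ E`, and `H` is a maximal subgroup containing `N_G(A)`, then
`τ₂(M) ⊆ σ(H)` and `E ≤ H`. -/
theorem tau2_sub_sigma {M E A H : Subgroup G} (hM : IsCoatom M) (hE : IsComplIn E (sigmaCore M) M)
    {p : ℕ} (hp : p ∈ tau2 M) (hA : A ≤ E) (hA1 : IsElementaryAbelian p A)
    (hA2 : Nat.card A = p ^ 2) (hH : IsCoatom H) (hAH : nz A ≤ H) :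
    E ≤ H ∧ p ∈ sigma H ∧ (∀ q ∈ tau2 M, q ∈ sigma H) := by
  have : Fact p.Prime := ⟨hp.1⟩
  obtain ⟨⟨h1, h1'⟩, -, -⟩ := BB.S1418 hG M hM E hE p hp A ⟨hA, hA1, hA2⟩
  have hEH : E ≤ H := h1.trans hAH
  have hpH : p ∈ sigma H := by
    by_contra hc
    have hAH' : A ≤ H := hA.trans hEH
    have hp2 := mem_tau2_of_ea hG hH hp.1 hAH' hA1 hA2 hc
    obtain ⟨E', hE', hAE'⟩ := exists_compl_ge hG hH hAH'
      (isPiSub_of_isPGroup (π := {p | p ∉ sigma H}) hc (isEA_isPGroup hA1))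
    exact (BB.S1418 hG H hH E' hE' p hp2 A ⟨hAE', hA1, hA2⟩).2.1.2.2 hAH
  refine ⟨hEH, hpH, fun q hq => ?_⟩
  by_contra hc
  have : Fact q.Prime := ⟨hq.1⟩
  have hqp : q ≠ p := by rintro rfl; exact hc hpH
  obtain ⟨B, hB, hB1, hB2⟩ := exists_ea_sq hG hM hE hq
  obtain ⟨⟨h2, h2'⟩, -, -⟩ := BB.S1418 hG M hM E hE q hq B ⟨hB, hB1, hB2⟩
  have hq2 := mem_tau2_of_ea hG hH hq.1 (hB.trans hEH) hB1 hB2 hc
  have h3 := (BB.S1417 hG H hH q hq2 B ⟨hB.trans hEH, hB1, hB2⟩).2.2.2.1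
  have h4 : A ≤ centralizer (B : Set G) := by
    refine le_cent_of_card_coprime (hA.trans h2) (hB.trans h1) ?_
    rw [hA2, hB2]
    exact Nat.Coprime.pow _ _ ((Nat.coprime_primes hp.1 hq.1).2 (Ne.symm hqp))
  have h5 : A ≤ sigmaCore H := le_ms hG hH (hA.trans hEH)
    (isPiSub_of_isPGroup hpH (isEA_isPGroup hA1))
  apply card_sq_ne_bot hp.1 hA2
  rw [eq_bot_iff, ← h3]
  exact le_inf h5 h4

theorem isPiSub_dvd {π : Set ℕ} {X : Subgroup G} (h : IsPiSub π X) (h1 : X ≠ ⊥) :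
    ∃ p : ℕ, p.Prime ∧ p ∣ Nat.card X ∧ p ∈ π := by
  have : Nat.card X ≠ 1 := fun h => h1 (Subgroup.card_eq_one.1 h)
  obtain ⟨p, hp, hd⟩ := Nat.exists_prime_and_dvd this
  exact ⟨p, hp, hd, h p hp hd⟩

/-- `τ₂(M)`-subgroups of `M` are abelian -/
theorem tau2_group_abelian {M X : Subgroup G} (hM : IsCoatom M) (hX : X ≤ M)
    (h : IsPiSub (tau2 M) X) : IsMulCommutative X := by
  by_cases hX1 : X = ⊥
  · subst hX1
    rw [mulComm_iff]
    intro a ha b hb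
    rw [Subgroup.mem_bot] at ha hb
    rw [ha, hb]
  obtain ⟨p, hp, hd, hp2⟩ := isPiSub_dvd hG h hX1
  have hXs : IsPiSub {p | p ∉ sigma M} X := fun q hq hd => (h q hq hd).2.1
  obtain ⟨E, hE, hXE⟩ := exists_compl_ge hG hM hX hXs
  obtain ⟨A, hA, hA1, hA2⟩ := exists_ea_sq hG hM hE hp2
  obtain ⟨H, hH, hAH⟩ := exists_coatom_of_nz hG (card_sq_ne_bot hp hA2) (ea_ne_top hG hp hA1)
  obtain ⟨hEH, hpH, hqH⟩ := tau2_sub_sigma hG hM hE hp2 hA hA1 hA2 hH hAH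
  have hXH : X ≤ sigmaCore H := le_ms hG hH (hXE.trans hEH) (fun q hq hd => hqH q (h q hq hd))
  obtain ⟨-, -, -, ⟨N, hN, hNn⟩, -⟩ := BB.S1414 hG H hH
  have hs : Group.IsSolvable (sigmaCore H) := H1.isSolvable_of_le (ms_le H) (coatom_sol hG hH)
  obtain ⟨g, hg, hle⟩ := OOT.IsPiHallOf.exists_conj_le hs hN hXH
    (fun q hq hd => ⟨hq, tau2_not_beta hG hM (h q hq hd)⟩)
  have hXn : Group.IsNilpotent X := by
    have h1 : Group.IsNilpotent (cj g X) := H1.isNilpotent_of_le hle hNn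
    have h2 := H1.isNilpotent_map (MulAut.conj g⁻¹).toMonoidHom h1
    change Group.IsNilpotent (cj g⁻¹ (cj g X)) at h2
    rwa [L.cj_inv_cj] at h2
  exact (BB.S1420 hG M hM E hE).1 X hX hXn hXs

/-- a prime-order element outside `σ(M)` centralizing something in `M_σ` -/
theorem kappa_or_tau2 {M : Subgroup G} (hM : IsCoatom M) {z y : G} (hz : z ∈ M) {p : ℕ}
    (hp : p.Prime) (hzp : orderOf z = p) (hs : p ∉ sigma M) (hy : y ∈ sigmaCore M) (hy1 : y ≠ 1)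
    (hzy : z * y = y * z) : p ∈ kappa M ∨ p ∈ tau2 M := by
  have : Fact p.Prime := ⟨hp⟩
  by_cases h1 : PRankLE p 1 M
  · left
    have hd : p ∣ Nat.card M := by
      rw [← hzp, ← Nat.card_zpowers]
      exact card_dvd_of_le (by rwa [zpowers_le])
    rw [mem_kappa_iff]
    refine ⟨hp, hd, hs, fun P hP => ⟨?_, ?_⟩⟩
    · exact isCyclic_of_pRankLE_one (prime_ne_two hG hd) hP.isPGroup ((pRankLE_sylIn hP).2 h1)
    · have hzP : IsPGroup p (zpowers z) :=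
        IsPGroup.of_card (n := 1) (by rw [Nat.card_zpowers, hzp, pow_one])
      obtain ⟨g, hg, hle⟩ := hP.exists_conj_le hzP (by rwa [zpowers_le])
      refine ⟨g * z * g⁻¹, hle (L.conj_mem_cj (mem_zpowers z)), ?_, g * y * g⁻¹, ?_, ?_, ?_⟩
      · intro h
        have : z = 1 := by simpa using h
        rw [this, orderOf_one] at hzp
        exact hp.one_lt.ne hzp
      · have := le_nz_ms M hg
        rw [L.mem_nz_iff] at this
        rw [← this]; exact L.conj_mem_cj hy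
      · intro h; exact hy1 (by simpa using h)
      · calc g * z * g⁻¹ * (g * y * g⁻¹) = g * (z * y) * g⁻¹ := by group
          _ = g * (y * z) * g⁻¹ := by rw [hzy]
          _ = _ := by group
  · right
    exact ⟨hp, hs, rank_le_two hG hM hp hs, h1⟩

end Cfsg.Agent.H21
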