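import Cfsg.Agent.H21.OT14a

set_option autoImplicit false

/-! Corollary 14.3 of Bender-Glauberman. -/

namespace Cfsg.Agent.H21

open Subgroup
open Cfsg.Agent.L (cj nz SylIn)
open Cfsg.Agent.H14 (IsPiSub)
open Cfsg.Agent.OOT
open scoped Pointwise

universe u
variable {G : Type u} [Group G]

/-- `K* = C_{M_σ}(K)` -/
abbrev Kst (M K : Subgroup G) : Subgroup G := sigmaCore M ⊓ Subgroup.centralizer (K : Set G)

theorem kst_le_ms (M K : Subgroup G) : Kst M K ≤ sigmaCore M := inf_le_left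

theorem kst_le (M K : Subgroup G) : Kst M K ≤ M := inf_le_left.trans (ms_le M)

theorem kst_le_cent (M K : Subgroup G) : Kst M K ≤ centralizer (K : Set G) := inf_le_right

variable [Finite G] (hG : IsMinSimpleOddOrder G)
include hG

omit hG [Finite G] in
theorem kappa_not_sigma {M : Subgroup G} {p : ℕ} (h : p ∈ kappa M) : p ∉ sigma M := h.2.2.1

omit hG in
theorem exists_prime_power_elt {x : G} {p : ℕ} (hp : p.Prime) (hd : p ∣ orderOf x) :
    ∃ z ∈ zpowers x, orderOf z = p := by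
  refine ⟨x ^ (orderOf x / p), Subgroup.pow_mem _ (mem_zpowers x) _, ?_⟩
  exact orderOf_pow_orderOf_div (orderOf_pos x).ne' hd

omit hG in
theorem commute_of_mem_zpowers {x z y : G} (hz : z ∈ zpowers x) (h : x * y = y * x) :
    z * y = y * z := by
  obtain ⟨n, rfl⟩ := hz
  exact ((show Commute x y from h).zpow_left n)

theorem ne_one_of_orderOf {z : G} {p : ℕ} (hp : p.Prime) (h : orderOf z = p) : z ≠ 1 := by
  rintro rfl
  rw [orderOf_one] at h
  exact hp.one_lt.ne h

omit hG [Finite G] in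
theorem card_zpowers_eq {z : G} {p : ℕ} (h : orderOf z = p) : Nat.card (zpowers z) = p := by
  rw [Nat.card_zpowers, h]

/-- Corollary 14.3 -/
theorem cor_14_3 {M : Subgroup G} (hM : IsCoatom M) {x : G} (hx : x ∈ sigmaCore M) (hx1 : x ≠ 1)
    {x' : G} (hx'M : x' ∈ M) (hxx : x' * x = x * x') (hx'1 : x' ≠ 1)
    (hσ : PiElt {p | p ∉ sigma M} x') :
    (PiElt (kappa M) x' ∧ centralizer ({x} : Set G) ≤ M) ∨
      (PiElt (tau2 M) x' ∧ (∃ L : Subgroup G, IsCoatom L ∧ PiElt (sigma L) x') ∧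
        UniqIn (centralizer ({x'} : Set G)) M) := by
  -- every prime is in κ or τ₂
  have key : ∀ p : ℕ, p.Prime → p ∣ orderOf x' → p ∈ kappa M ∨ p ∈ tau2 M := by
    intro p hp hd
    obtain ⟨z, hz, hzp⟩ := exists_prime_power_elt hp hd
    have hzM : z ∈ M := (by rwa [zpowers_le] : zpowers x' ≤ M) hz
    exact kappa_or_tau2 hG hM hzM hp hzp (hσ p hp hd) hx hx1 (commute_of_mem_zpowers hz hxx)
  by_cases hk : ∃ p : ℕ, p.Prime ∧ p ∣ orderOf x' ∧ p ∈ kappa M
  · left
    obtain ⟨p, hp, hd, hpk⟩ := hk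
    have : Fact p.Prime := ⟨hp⟩
    obtain ⟨z, hz, hzp⟩ := exists_prime_power_elt hp hd
    have hzM : z ∈ M := (by rwa [zpowers_le] : zpowers x' ≤ M) hz
    have hzs : IsPiSub (kappa M) (zpowers z) := by
      rw [piSub_zpowers]
      intro q hq hqd
      rw [hzp] at hqd
      rwa [(Nat.prime_dvd_prime_iff_eq hq hp).1 hqd]
    obtain ⟨K, hK, hzK⟩ := exists_hallOf_ge (coatom_sol hG hM) (K := zpowers z)
      (by rwa [zpowers_le]) hzs
    have hzK' : z ∈ K := hzK (mem_zpowers z)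
    have hK1 : K ≠ ⊥ := by
      rintro rfl
      exact ne_one_of_orderOf hG hp hzp (Subgroup.mem_bot.1 hzK')
    obtain ⟨h1, -, h3⟩ := BB.S1430 hG M hM K hK hK1
    obtain ⟨h4, -, -⟩ := BB.S1431 hG M hM K hK hK1
    obtain ⟨h5, h6, -⟩ := h3 (zpowers z) hzK (by rw [card_zpowers_eq hzp]; exact hp)
    have hx'N : x' ∈ M ⊓ nz (zpowers z) := by
      refine ⟨hx'M, cent_le_nz _ ?_⟩
      rw [mem_cent_iff]
      intro w hw
      have hw' : w ∈ zpowers x' := (by rwa [zpowers_le] : zpowers z ≤ zpowers x') hw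
      obtain ⟨n, rfl⟩ := hw'
      exact (Commute.refl x').zpow_right n
    rw [h5] at hx'N
    have hKn : Kst M K ≤ nz K := (kst_le_cent M K).trans (cent_le_nz K)
    obtain ⟨k, hk, s, hs, e⟩ := (H1.mem_sup_iff_of_le_normalizer hKn).1 hx'N
    have hks : s * k = k * s := mem_cent_iff.1 (kst_le_cent M K hs) k hk
    have hkel : PiElt {p | p ∉ sigma M} k := (piElt_of_mem hK.2.1 hk).mono
      (fun q hq => kappa_not_sigma hq)
    obtain ⟨e1, e2⟩ := piPart_unique (π := sigma M) (a := s) (b := k) (c := 1) (d := x')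
      (by rw [hks, e, one_mul]) hks (by simp) (ms_pi hG hM (kst_le_ms M K hs)) hkel
      (piElt_one _) hσ
    have hx'K : x' ∈ K := by rw [← e2]; exact hk
    refine ⟨piElt_of_mem hK.2.1 hx'K, ?_⟩
    have hxK : x ∈ Kst M K := by
      have := h1 x' hx'K hx'1
      show x ∈ sigmaCore M ⊓ centralizer (K : Set G)
      rw [← this]
      exact ⟨hx, mem_cent_singleton.2 hxx.symm⟩
    intro g hg
    by_contra hgM
    have h7 := h4 g hgM
    have : x ∈ sigmaCore M ⊓ centralizer (K : Set G) ⊓ M.map (MulAut.conj g).toMonoidHom := by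
      refine Subgroup.mem_inf.2 ⟨hxK, L.mem_cj.2 ?_⟩
      have : g⁻¹ * x * g = x := by
        rw [mul_assoc, ← (mem_cent_singleton.1 hg), inv_mul_cancel_left]
      rw [this]; exact ms_le M hx
    rw [h7, Subgroup.mem_bot] at this
    exact hx1 this
  · right
    have ht : PiElt (tau2 M) x' := by
      intro p hp hd
      rcases key p hp hd with h | h
      · exact absurd ⟨p, hp, hd, h⟩ hk
      · exact h
    obtain ⟨E, hE, hXE⟩ := exists_compl_ge hG hM (X := zpowers x') (by rwa [zpowers_le])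
      (piSub_zpowers.2 hσ)
    refine ⟨ht, ?_, ?_⟩
    · obtain ⟨p, hp, hd, hp2⟩ := ht.prime_mem hx'1
      obtain ⟨A, hA, hA1, hA2⟩ := exists_ea_sq hG hM hE hp2
      obtain ⟨H, hH, hAH⟩ := exists_coatom_of_nz hG (card_sq_ne_bot hp hA2) (ea_ne_top hG hp hA1)
      obtain ⟨hEH, hpH, hqH⟩ := tau2_sub_sigma hG hM hE hp2 hA hA1 hA2 hH hAH
      exact ⟨H, hH, fun q hq hd => hqH q (ht q hq hd)⟩
    · exact (BB.S1420 hG M hM E hE).2.2.2 x' hx'M hx'1 ht
        ⟨hx'M, x, hx, hx1, hxx⟩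

end Cfsg.Agent.H21
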