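import Cfsg.Agent.H21.OTUtil

set_option autoImplicit false

/-! more utilities: decompositions, p'-cores, cyclic rank -/

namespace Cfsg.Agent.H21

open Subgroup
open Cfsg.Agent.L (cj nz SylIn)
open Cfsg.Agent.H14 (IsPiSub)
open Cfsg.Agent.OOT
open scoped Pointwise

universe u
variable {G : Type u} [Group G]

theorem pRankLE_one_of_cyclic [Finite G] {p : ℕ} (hp : p.Prime) {P : Subgroup G} (h : IsCyclic P) :
    PRankLE p 1 P := by
  intro A hA1 hA2
  obtain ⟨a, ha⟩ := IsCyclic.exists_generator (α := A)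
  rw [pow_one, ← orderOf_eq_card_of_forall_mem_zpowers ha]
  apply Nat.le_of_dvd hp.pos
  apply orderOf_dvd_of_pow_eq_one
  exact Subtype.ext (hA2 a a.2)

theorem not_cyclic_of_ea_sq [Finite G] {p : ℕ} (hp : p.Prime) {A : Subgroup G}
    (h1 : IsElementaryAbelian p A) (h2 : Nat.card A = p ^ 2) : ¬ IsCyclic A := by
  intro h
  have := (H10.pRankLE_iff.1 (pRankLE_one_of_cyclic hp h)) A le_rfl h1
  rw [h2, pow_one, pow_two] at this
  have h3 := hp.one_lt
  nlinarith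

/-- elements of `p`-power order lie in a normal subgroup of index prime to `p` -/
theorem le_of_not_dvd_relIndex [Finite G] {p : ℕ} [hp : Fact p.Prime] {M N A : Subgroup G}
    (hN : N ≤ M) (hn : M ≤ nz N) (hA : A ≤ M) (hAp : IsPGroup p A) (hd : ¬ p ∣ N.relIndex M) :
    A ≤ N := by
  have hn' : (N.subgroupOf M).Normal := (Subgroup.normal_subgroupOf_iff_le_normalizer hN).2 hn
  intro x hx
  obtain ⟨k, hk⟩ := hAp ⟨x, hx⟩
  have hk' : x ^ p ^ k = 1 := congrArg Subtype.val hk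
  have h1 : orderOf (QuotientGroup.mk' (N.subgroupOf M) ⟨x, hA hx⟩) ∣ p ^ k := by
    apply orderOf_dvd_of_pow_eq_one
    rw [← map_pow]
    have : (⟨x, hA hx⟩ : M) ^ p ^ k = 1 := Subtype.ext hk'
    rw [this, map_one]
  have h2 : orderOf (QuotientGroup.mk' (N.subgroupOf M) ⟨x, hA hx⟩) ∣ N.relIndex M := by
    exact orderOf_dvd_natCard _
  have h3 : orderOf (QuotientGroup.mk' (N.subgroupOf M) ⟨x, hA hx⟩) = 1 :=
    Nat.eq_one_of_dvd_coprimes (((Nat.Prime.coprime_iff_not_dvd hp.out).2 hd).pow_left k) h1 h2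
  rw [orderOf_eq_one_iff] at h3
  have := (QuotientGroup.eq_one_iff (N := N.subgroupOf M) (⟨x, hA hx⟩ : M)).1 h3
  exact Subgroup.mem_subgroupOf.1 this

/-- `O_{p'}(M)` inside `G` -/
def ppc (p : ℕ) (M : Subgroup G) : Subgroup G := (pPrimeCore p M).map M.subtype

theorem ppc_le (p : ℕ) (M : Subgroup G) : ppc p M ≤ M := Subgroup.map_subtype_le _

theorem le_nz_ppc [Finite G] (p : ℕ) (M : Subgroup G) : M ≤ nz (ppc p M) :=
  le_normalizer_map_subtype (H1.pPrimeCore_normal p M)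

theorem ppc_relIndex (p : ℕ) (M : Subgroup G) : (ppc p M).relIndex M = (pPrimeCore p M).index := by
  rw [ppc, Subgroup.relIndex, Subgroup.subgroupOf, Subgroup.comap_map_eq_self_of_injective
    M.subtype_injective]

theorem ppc_coprime [Finite G] (p : ℕ) (M : Subgroup G) : (Nat.card (ppc p M)).Coprime p := by
  rw [ppc, H1.card_map_subtype]; exact H1.pPrimeCore_coprime p M

theorem le_ppc [Finite G] {p : ℕ} {M H : Subgroup G} (hH : H ≤ M) (hn : M ≤ nz H)
    (hc : (Nat.card H).Coprime p) : H ≤ ppc p M := by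
  have hn' : (H.subgroupOf M).Normal := (Subgroup.normal_subgroupOf_iff_le_normalizer hH).2 hn
  have h1 : H.subgroupOf M ≤ pPrimeCore p M := H1.le_pPrimeCore hn' (by
    rw [H1.card_subgroupOf hH]; exact hc)
  rw [← Subgroup.map_subgroupOf_eq_of_le hH]
  exact Subgroup.map_mono h1

/-- In `N = E ⋉ B`, if `z ∈ E` and `e * s` centralizes `z` (`e ∈ E`, `s ∈ B`), then so do `e`, `s`. -/
theorem compl_cent {E B N : Subgroup G} (hc : IsComplIn E B N) (hn : N ≤ nz B) {z e s : G}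
    (hz : z ∈ E) (he : e ∈ E) (hs : s ∈ B) (h : (e * s) * z = z * (e * s)) :
    e * z = z * e ∧ s * z = z * s := by
  have h1 : s * z * s⁻¹ * z⁻¹ = e⁻¹ * z * e * z⁻¹ := by
    have : s * z = e⁻¹ * z * e * s := by
      calc s * z = e⁻¹ * (e * s * z) := by group
        _ = e⁻¹ * (z * (e * s)) := by rw [h]
        _ = _ := by group
    rw [this]; group
  have h2 : s * z * s⁻¹ * z⁻¹ ∈ B := by
    have : z * s⁻¹ * z⁻¹ ∈ B := (Subgroup.mem_normalizer_iff.1 (hn (hc.1 hz)) _).1 (B.inv_mem hs)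
    have := B.mul_mem hs this
    simpa [mul_assoc] using this
  have h3 : e⁻¹ * z * e * z⁻¹ ∈ E :=
    E.mul_mem (E.mul_mem (E.mul_mem (E.inv_mem he) hz) he) (E.inv_mem hz)
  have h4 : s * z * s⁻¹ * z⁻¹ ∈ E ⊓ B := ⟨h1 ▸ h3, h2⟩
  rw [hc.2.2.1, Subgroup.mem_bot] at h4
  constructor
  · rw [h1] at h4
    have h5 : e⁻¹ * z * e = z := mul_inv_eq_one.1 h4
    calc e * z = e * (e⁻¹ * z * e) := by rw [h5]
      _ = z * e := by group
  · have h5 : s * z * s⁻¹ = z := mul_inv_eq_one.1 h4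
    calc s * z = s * z * s⁻¹ * s := by group
      _ = z * s := by rw [h5]

/-- existence of `e`, `s` with `g = e * s` both centralizing `z` -/
theorem compl_cent_exists {E B N : Subgroup G} (hc : IsComplIn E B N) (hn : N ≤ nz B) {z g : G}
    (hz : z ∈ E) (hg : g ∈ N) (h : g * z = z * g) :
    ∃ e ∈ E, ∃ s ∈ B, g = e * s ∧ e * z = z * e ∧ s * z = z * s := by
  obtain ⟨e, he, s, hs, rfl⟩ := hc.2.2.2 g hg
  exact ⟨e, he, s, hs, rfl, compl_cent hc hn hz he hs h⟩

variable [Finite G]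

theorem card_sup_of_le_nz {A B : Subgroup G} (h : B ≤ nz A) (hi : A ⊓ B = ⊥) :
    Nat.card (A ⊔ B : Subgroup G) = Nat.card A * Nat.card B := by
  have := H1.card_sup_mul_card_inf_of_le_normalizer h
  rwa [hi, Subgroup.card_bot, mul_one] at this

theorem inf_bot_of_pi {π : Set ℕ} {H K : Subgroup G} (h1 : IsPiSub π H)
    (h2 : IsPiSub {p | p ∉ π} K) : H ⊓ K = ⊥ :=
  inf_eq_bot_of_pi (π := π) (π' := {p | p ∉ π}) (fun _ _ h3 h4 => h4 h3) h1 h2

theorem piSub_card_mul {π : Set ℕ} {a b : ℕ} (h1 : ∀ p : ℕ, p.Prime → p ∣ a → p ∈ π)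
    (h2 : ∀ p : ℕ, p.Prime → p ∣ b → p ∈ π) : ∀ p : ℕ, p.Prime → p ∣ a * b → p ∈ π := by
  intro p hp hd
  rcases hp.dvd_mul.1 hd with h | h
  · exact h1 p hp h
  · exact h2 p hp h

end Cfsg.Agent.H21
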