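import Cfsg.Agent.H21.OT14b
import Cfsg.Agent.H21.OTUtil2

set_option autoImplicit false

/-! The standard factorisation; Theorem 14.4 of Bender-Glauberman. -/

namespace Cfsg.Agent.H21

open Subgroup
open Cfsg.Agent.L (cj nz SylIn)
open Cfsg.Agent.H14 (IsPiSub)
open Cfsg.Agent.OOT
open scoped Pointwise

universe u
variable {G : Type u} [Group G]

variable [Finite G] (hG : IsMinSimpleOddOrder G)

omit [Finite G] in
theorem kappa_prime {M : Subgroup G} {p : ℕ} (h : p ∈ kappa M) : p.Prime := h.1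

theorem kappa_not_tau2 {M : Subgroup G} {p : ℕ} (h : p ∈ kappa M) : p ∉ tau2 M := by
  intro h2
  have : Fact p.Prime := ⟨h.1⟩
  rw [mem_kappa_iff] at h
  obtain ⟨P, hP⟩ := L.exists_sylIn (p := p) M
  exact h2.2.2.2 ((pRankLE_sylIn hP).1 (pRankLE_one_of_cyclic h.1 (h.2.2.2 P hP).1))

include hG

/-! ### the standard factorisation -/

section Decomp
variable {M K U : Subgroup G}

theorem dec_K_le (h : IsSigmaDecomposition M K U) : K ≤ M := h.hall.1

omit [Finite G] hG in
theorem dec_U_le (h : IsSigmaDecomposition M K U) : U ≤ M := h.compl.1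

theorem K_inf_ms (hM : IsCoatom M) (hK : IsPiHallOf (kappa M) K M) : K ⊓ sigmaCore M = ⊥ := by
  rw [inf_comm]
  exact inf_bot_of_pi (ms_hall hG hM).2.1 (fun p hp hd => kappa_not_sigma (hK.2.1 p hp hd))

theorem card_K_sup_ms (hM : IsCoatom M) (hK : IsPiHallOf (kappa M) K M) :
    Nat.card (K ⊔ sigmaCore M : Subgroup G) = Nat.card K * Nat.card (sigmaCore M) := by
  rw [sup_comm, card_sup_of_le_nz (hK.1.trans (le_nz_ms M)) (by rw [inf_comm]; exact K_inf_ms hG hM hK),
    mul_comm]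

theorem dec_card (hM : IsCoatom M) (h : IsSigmaDecomposition M K U) :
    Nat.card U * (Nat.card K * Nat.card (sigmaCore M)) = Nat.card M := by
  rw [← card_K_sup_ms hG hM h.hall]
  exact complIn_card h.compl

/-- `U` is a Hall `(κ ∪ σ)'`-subgroup. -/
theorem dec_U_pi (hM : IsCoatom M) (h : IsSigmaDecomposition M K U) :
    ∀ p : ℕ, p.Prime → p ∣ Nat.card U → p ∉ kappa M ∧ p ∉ sigma M := by
  intro p hp hd
  have e := dec_card hG hM h
  constructor
  · intro hk
    have h1 := L.card_mul_relIndex h.hall.1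
    have h2 : Nat.card K * (Nat.card U * Nat.card (sigmaCore M)) = Nat.card K * K.relIndex M := by
      rw [h1, ← e]; ring
    have h3 := Nat.eq_of_mul_eq_mul_left Nat.card_pos h2
    exact h.hall.2.2 p hp hk (h3 ▸ Dvd.dvd.mul_right hd _)
  · intro hs
    have h1 := L.card_mul_relIndex (ms_le M)
    have h2 : Nat.card (sigmaCore M) * (Nat.card U * Nat.card K)
        = Nat.card (sigmaCore M) * (sigmaCore M).relIndex M := by
      rw [h1, ← e]; ring
    have h3 := Nat.eq_of_mul_eq_mul_left Nat.card_pos h2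
    exact (ms_hall hG hM).2.2 p hp hs (h3 ▸ Dvd.dvd.mul_right hd _)

theorem dec_U_hall (hM : IsCoatom M) (h : IsSigmaDecomposition M K U) :
    IsPiHallOf {q | q.Prime ∧ q ∉ kappa M ∧ q ∉ sigma M} U M := by
  refine ⟨h.compl.1, fun p hp hd => ⟨hp, dec_U_pi hG hM h p hp hd⟩, ?_⟩
  rintro p hp ⟨-, hk, hs⟩ hd
  have e := dec_card hG hM h
  rw [← L.card_mul_relIndex h.compl.1] at e
  have h3 := Nat.eq_of_mul_eq_mul_left Nat.card_pos e
  rw [← h3] at hd
  rcases hp.dvd_mul.1 hd with h1 | h1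
  · exact hk (h.hall.2.1 p hp h1)
  · exact hs ((ms_hall hG hM).2.1 p hp h1)

theorem dec_U_inf_K (hM : IsCoatom M) (h : IsSigmaDecomposition M K U) : U ⊓ K = ⊥ := by
  rw [eq_bot_iff, ← h.compl.2.2.1]
  exact le_inf inf_le_left (inf_le_right.trans le_sup_left)

theorem dec_card_UK (hM : IsCoatom M) (h : IsSigmaDecomposition M K U) :
    Nat.card (U ⊔ K : Subgroup G) = Nat.card U * Nat.card K :=
  card_sup_of_le_nz h.normal (dec_U_inf_K hG hM h)

/-- `E = UK` is a complement to `M_σ`. -/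
theorem dec_compl (hM : IsCoatom M) (h : IsSigmaDecomposition M K U) :
    IsComplIn (U ⊔ K) (sigmaCore M) M := by
  apply hall_compl hG hM
  have hle : U ⊔ K ≤ M := sup_le h.compl.1 h.hall.1
  refine ⟨hle, ?_, ?_⟩
  · rw [dec_card_UK hG hM h]
    exact piSub_card_mul (fun p hp hd => (dec_U_pi hG hM h p hp hd).2)
      (fun p hp hd => kappa_not_sigma (h.hall.2.1 p hp hd))
  · intro p hp hs hd
    have e := dec_card hG hM h
    rw [← L.card_mul_relIndex hle, dec_card_UK hG hM h, ← mul_assoc] at e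
    have h3 := Nat.eq_of_mul_eq_mul_left (Nat.mul_pos Nat.card_pos Nat.card_pos) e
    rw [← h3] at hd
    exact hs ((ms_hall hG hM).2.1 p hp hd)

omit [Finite G] hG in
theorem le_nz_sup {A B C : Subgroup G} (h1 : C ≤ nz A) (h2 : C ≤ nz B) : C ≤ nz (A ⊔ B) := by
  intro g hg
  refine L.mem_nz_iff.2 ?_
  rw [L.cj_sup, L.mem_nz_iff.1 (h1 hg), L.mem_nz_iff.1 (h2 hg)]

theorem dec_UMs_nz (hM : IsCoatom M) (h : IsSigmaDecomposition M K U) :
    M ≤ nz (U ⊔ sigmaCore M) := by
  refine (complIn_sup (dec_compl hG hM h)).symm.le.trans ?_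
  refine sup_le (sup_le ?_ ?_) ?_
  · exact le_sup_left.trans (L.le_nz _)
  · exact le_nz_sup h.normal (h.hall.1.trans (le_nz_ms M))
  · exact le_sup_right.trans (L.le_nz _)

theorem dec_U_inf_ms (hM : IsCoatom M) (h : IsSigmaDecomposition M K U) : sigmaCore M ⊓ U = ⊥ := by
  rw [eq_bot_iff, ← h.compl.2.2.1]
  exact le_inf inf_le_right (inf_le_left.trans le_sup_right)

theorem dec_card_UMs (hM : IsCoatom M) (h : IsSigmaDecomposition M K U) :
    Nat.card (U ⊔ sigmaCore M : Subgroup G) = Nat.card U * Nat.card (sigmaCore M) := by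
  rw [sup_comm, card_sup_of_le_nz (h.compl.1.trans (le_nz_ms M)) (dec_U_inf_ms hG hM h), mul_comm]

/-- `U M_σ` is a normal Hall `κ'`-subgroup. -/
theorem dec_UMs_hall (hM : IsCoatom M) (h : IsSigmaDecomposition M K U) :
    IsPiHallOf {p | p ∉ kappa M} (U ⊔ sigmaCore M) M := by
  have hle : U ⊔ sigmaCore M ≤ M := sup_le h.compl.1 (ms_le M)
  refine ⟨hle, ?_, ?_⟩
  · rw [dec_card_UMs hG hM h]
    exact piSub_card_mul (fun p hp hd => (dec_U_pi hG hM h p hp hd).1)
      (fun p hp hd hk => kappa_not_sigma hk ((ms_hall hG hM).2.1 p hp hd))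
  · intro p hp hs hd
    have e := dec_card hG hM h
    rw [← L.card_mul_relIndex hle, dec_card_UMs hG hM h] at e
    have e' : Nat.card U * Nat.card (sigmaCore M) * Nat.card K
        = Nat.card U * Nat.card (sigmaCore M) * (U ⊔ sigmaCore M).relIndex M := by
      rw [← e]; ring
    have h3 := Nat.eq_of_mul_eq_mul_left (Nat.mul_pos Nat.card_pos Nat.card_pos) e'
    rw [← h3] at hd
    exact hs (h.hall.2.1 p hp hd)

theorem dec_compl_K (hM : IsCoatom M) (h : IsSigmaDecomposition M K U) :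
    IsComplIn K (U ⊔ sigmaCore M) M :=
  (OOT.IsPiHallOf.isComplIn (π := kappa M) (fun _ _ => Iff.rfl) h.hall (dec_UMs_hall hG hM h)).1

end Decomp

/-- `M_F ≤ M_σ` -/
theorem fhOf_le_ms {M : Subgroup G} (hM : IsCoatom M) : fittingHallOf M ≤ sigmaCore M := by
  apply le_ms hG hM (fhOf_le M)
  intro p hp hd
  have : Fact p.Prime := ⟨hp⟩
  have hn : Group.IsNilpotent (fittingHallOf M) := fhOf_nilpotent M
  have h1 : H1.part p (fittingHallOf M) ≠ ⊥ := H1.part_ne_bot hn hd
  rw [mem_sigma_iff']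
  refine ⟨hp, hd.trans (card_dvd_of_le (fhOf_le M)), fun P hP => ?_⟩
  have hPle : H1.part p (fittingHallOf M) ≤ M := (H1.part_le _ _).trans (fhOf_le M)
  have hMn : M ≤ nz (H1.part p (fittingHallOf M)) :=
    (le_normalizer_fhOf M).trans (H1.normalizer_le_normalizer_part p _)
  have hS : SylIn p (H1.part p (fittingHallOf M)) M := by
    refine ⟨hPle, H1.part_isPGroup _ _, ?_⟩
    rw [← Subgroup.relIndex_mul_relIndex _ _ _ (H1.part_le p (fittingHallOf M)) (fhOf_le M)]
    intro h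
    rcases hp.dvd_mul.1 h with h | h
    · exact H1.not_dvd_relIndex_part hn h
    · exact hp.one_lt.ne' (Nat.eq_one_of_dvd_coprimes (fhOf_coprime M) hd h)
  obtain ⟨g, hg, e⟩ := hS.exists_conj_eq hP
  have h2 : cj g (H1.part p (fittingHallOf M)) = H1.part p (fittingHallOf M) :=
    L.mem_nz_iff.1 (hMn hg)
  rw [← e, h2]
  exact (coatom_normalizer_eq hG hM h1 hPle hMn).le

theorem fhOf_eq_ms {M : Subgroup G} (hM : IsCoatom M) (hn : Group.IsNilpotent (sigmaCore M)) :
    fittingHallOf M = sigmaCore M := by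
  refine le_antisymm (fhOf_le_ms hG hM) (le_fhOf (ms_le M) (le_nz_ms M) hn ?_)
  exact OOT.IsPiHallOf.coprime (ms_hall hG hM)

end Cfsg.Agent.H21
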