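import Cfsg.Agent.H21.OT14c

set_option autoImplicit false

/-! Theorem 14.4 of Bender-Glauberman. -/

namespace Cfsg.Agent.H21

open Subgroup
open Cfsg.Agent.L (cj nz SylIn)
open Cfsg.Agent.H14 (IsPiSub)
open Cfsg.Agent.OOT
open scoped Pointwise

universe u
variable {G : Type u} [Group G]

/-- the conclusions of Theorem 14.4 about `x ∈ M_σ`, `C_G(x) ⊄ M` and `N = N(x)` -/
structure Sup (M : Subgroup G) (x : G) (N : Subgroup G) : Prop where
  coatom : IsCoatom N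
  uniq : UniqIn (centralizer ({x} : Set G)) N
  ne : N ≠ M
  not_conj : ∀ g : G, N ≠ cj g M
  nil : Group.IsNilpotent (sigmaCore N)
  compl : IsComplIn (M ⊓ N) (sigmaCore N) N
  tau2 : PiElt (tau2 N) x
  tau2_sub : ∀ q ∈ Cfsg.tau2 N, q ∈ sigma M
  cent_ne : sigmaCore N ⊓ centralizer ({x} : Set G) ≠ ⊥

variable [Finite G] (hG : IsMinSimpleOddOrder G)
include hG

theorem sigma_not_of_not_conj {M N : Subgroup G} (hM : IsCoatom M) (hN : IsCoatom N)
    (h : ∀ g : G, N ≠ cj g M) {p : ℕ} (hp : p ∈ sigma M) : p ∉ sigma N := by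
  intro h2
  obtain ⟨g, hg⟩ := sigma_conj hG hM hN hp h2
  exact h g hg

/-- 14.4 for elements of prime order -/
theorem sup_prime {M : Subgroup G} (hM : IsCoatom M) {x : G} (hx : x ∈ sigmaCore M)
    {p : ℕ} (hp : p.Prime) (hxp : orderOf x = p)
    (hc : ¬ centralizer ({x} : Set G) ≤ M) : ∃ N : Subgroup G, Sup M x N := by
  have hpF : Fact p.Prime := ⟨hp⟩
  have hx1 : x ≠ 1 := ne_one_of_orderOf hG hp hxp
  have hxM : x ∈ M := ms_le M hx
  have hpM : p ∈ sigma M := ms_pi hG hM hx p hp (by rw [hxp])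
  set X : Subgroup G := zpowers x with hXdef
  have hXcard : Nat.card X = p := card_zpowers_eq hxp
  have hXp : IsPGroup p X := IsPGroup.of_card (n := 1) (by rw [hXcard, pow_one])
  have hX1 : X ≠ ⊥ := by rw [Ne, hXdef, Subgroup.zpowers_eq_bot]; exact hx1
  obtain ⟨N, hN, hXN⟩ := exists_coatom_of_nz hG hX1 (pgroup_ne_top hG hXp)
  have hCN : centralizer ({x} : Set G) ≤ N := by
    rw [← cent_zpowers]; exact (cent_le_nz X).trans hXN
  have hNM : N ≠ M := by rintro rfl; exact hc hCN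
  have hXle : X ≤ M := by rw [hXdef, zpowers_le]; exact hxM
  have hXN' : X ≤ N := (L.le_nz X).trans hXN
  obtain ⟨S, hS, hXS⟩ := L.exists_sylIn_ge (p := p) hXp (le_inf hXle hXN')
  obtain ⟨c1, c2, c3⟩ := BB.S1424 hG M hM p hpM X hXp hX1 hXle N hN hNM hXN
    hS.toSylow (by rw [hS.map_toSylow]; exact hXS)
  rw [hS.map_toSylow] at c2 c3
  have hpN : p ∉ sigma N := sigma_not_of_not_conj hG hM hN c1 hpM
  obtain ⟨⟨d1, d1'⟩, d2, -⟩ := BB.S1409 hG N hN p hpN X hXcard hXN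
  have hp2 : p ∈ tau2 N := ⟨hp, hpN, d1, d1'⟩
  have hSN : SylIn p S N := ⟨hS.le.trans inf_le_right, hS.isPGroup, c3⟩
  have hSr : ¬ PRankLE p 1 S := by rw [pRankLE_sylIn hSN]; exact d1'
  obtain ⟨A, hAS, hA1, hA2⟩ := exists_ea_of_not_pRankLE (k := 1) hSr
  have hAN : A ≤ N := hAS.trans hSN.le
  have hAM : A ≤ M := hAS.trans (hS.le.trans inf_le_left)
  obtain ⟨e1, e2, e3, e4, e5, e6⟩ := BB.S1417 hG N hN p hp2 A ⟨hAN, hA1, hA2⟩
  have hxA : x ∈ A := by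
    have := (e2 hSN.toSylow).2 (by rw [hSN.map_toSylow]; exact hAS)
    rw [hSN.map_toSylow] at this
    exact (this.1 x (hXS (mem_zpowers x))).1 (by rw [← hxp]; exact pow_orderOf_eq_one x)
  obtain ⟨E, hE, hAE⟩ := exists_compl_ge hG hN hAN
    (isPiSub_of_isPGroup (π := {p | p ∉ sigma N}) hpN (isEA_isPGroup hA1))
  obtain ⟨⟨f1, f1'⟩, ⟨f2, f3, f4⟩, f5⟩ := BB.S1418 hG N hN E hE p hp2 A ⟨hAE, hA1, hA2⟩
  obtain ⟨E', hE'⟩ := exists_compl hG hM
  have hNA : nz A ≤ M := (BB.S1420 hG M hM E' hE').2.2.1 p A hpM (isEA_isPGroup hA1)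
    hAM (not_cyclic_of_ea_sq hp hA1 hA2)
  have hEM : E ≤ M := f1.trans hNA
  have hNs : sigmaCore N ⊓ M = ⊥ := e5 M hM (Ne.symm hNM) hAM
  have hMN : M ⊓ N = E := by
    refine le_antisymm ?_ (le_inf hEM hE.1)
    rintro y ⟨hyM, hyN⟩
    obtain ⟨a, ha, b, hb, e⟩ := hE.2.2.2 y hyN
    have hb' : b ∈ sigmaCore N ⊓ M := by
      refine ⟨hb, ?_⟩
      have : b = a⁻¹ * y := by rw [e]; group
      rw [this]
      exact M.mul_mem (M.inv_mem (hEM ha)) hyM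
    rw [hNs, Subgroup.mem_bot] at hb'
    rw [e, hb', mul_one]
    exact ha
  have hcompl : IsComplIn (M ⊓ N) (sigmaCore N) N := by rw [hMN]; exact hE
  -- an element of N_σ centralizing x
  obtain ⟨c, hcx, hcM⟩ := Set.not_subset.1 hc
  have hcx' : c * x = x * c := mem_cent_singleton.1 hcx
  obtain ⟨e, he, s, hs, hes, -, hsx⟩ := compl_cent_exists hE (le_nz_ms N) (hAE hxA) (hCN hcx) hcx'
  have hs1 : s ≠ 1 := by
    rintro rfl
    rw [mul_one] at hes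
    exact hcM (hes ▸ hEM he)
  have hxs : PiElt {q | q ∉ sigma N} x := by
    intro q hq hqd
    rw [hxp] at hqd
    rw [(Nat.prime_dvd_prime_iff_eq hq hp).1 hqd]
    exact hpN
  have hxN : x ∈ N := hXN' (mem_zpowers x)
  rcases cor_14_3 hG hN hs hs1 hxN hsx.symm hx1 hxs with ⟨h, -⟩ | ⟨h1, h2, h3⟩
  · exact absurd hp2 (kappa_not_tau2 (h p hp (by rw [hxp])))
  refine ⟨N, hN, h3, hNM, c1, e1, hcompl, h1, ?_, ?_⟩
  · intro q hq
    by_contra hqM
    have hqF : Fact q.Prime := ⟨hq.1⟩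
    obtain ⟨B, hB, hB1, hB2⟩ := exists_ea_sq hG hN hcompl hq
    have hBM : B ≤ M := hB.trans inf_le_left
    have hq2 := mem_tau2_of_ea hG hM hq.1 hBM hB1 hB2 hqM
    have := (BB.S1417 hG M hM q hq2 B ⟨hBM, hB1, hB2⟩).2.2.2.2.1 N hN hNM
      (hB.trans inf_le_right)
    have hxx : x ∈ sigmaCore M ⊓ N := ⟨hx, hxN⟩
    rw [this, Subgroup.mem_bot] at hxx
    exact hx1 hxx
  · intro hbot
    have : s ∈ sigmaCore N ⊓ centralizer ({x} : Set G) := ⟨hs, mem_cent_singleton.2 hsx⟩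
    rw [hbot, Subgroup.mem_bot] at this
    exact hs1 this

omit hG in
theorem cent_le_of_mem_zpowers {x z : G} (h : z ∈ zpowers x) :
    centralizer ({x} : Set G) ≤ centralizer ({z} : Set G) := by
  intro g hg
  rw [mem_cent_singleton] at hg ⊢
  exact (commute_of_mem_zpowers h hg.symm).symm

theorem mem_inf_of_sup {M N : Subgroup G} {x z : G} (h : Sup M z N) (hxM : x ∈ M)
    (hz : z ∈ zpowers x) : x ∈ M ⊓ N := by
  refine ⟨hxM, h.uniq.1 ?_⟩
  rw [mem_cent_singleton]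
  exact (commute_of_mem_zpowers hz rfl).symm

/-- Theorem 14.4, general form: `x ∈ M_σ`, `C_G(x) ⊄ M`. -/
theorem thm_14_4 {M : Subgroup G} (hM : IsCoatom M) {x : G} (hx : x ∈ sigmaCore M) (hx1 : x ≠ 1)
    (hc : ¬ centralizer ({x} : Set G) ≤ M) : ∃ N : Subgroup G, Sup M x N := by
  obtain ⟨p, hp, hd⟩ := Nat.exists_prime_and_dvd (n := orderOf x)
    (fun h => hx1 (orderOf_eq_one_iff.1 h))
  obtain ⟨z, hz, hzp⟩ := exists_prime_power_elt hp hd
  have hzle : zpowers x ≤ sigmaCore M := by rwa [zpowers_le]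
  have hzc : ¬ centralizer ({z} : Set G) ≤ M := fun h => hc ((cent_le_of_mem_zpowers hz).trans h)
  obtain ⟨N, hN⟩ := sup_prime hG hM (hzle hz) hp hzp hzc
  have hxMN := mem_inf_of_sup hG hN (ms_le M hx) hz
  obtain ⟨c, hcx, hcM⟩ := Set.not_subset.1 hc
  have hcx' : c * x = x * c := mem_cent_singleton.1 hcx
  have hcN : c ∈ N := hN.uniq.1 (cent_le_of_mem_zpowers hz hcx)
  obtain ⟨e, he, s, hs, hes, -, hsx⟩ := compl_cent_exists hN.compl (le_nz_ms N) hxMN hcN hcx'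
  have hs1 : s ≠ 1 := by
    rintro rfl
    rw [mul_one] at hes
    exact hcM (hes ▸ he.1)
  have hxs : PiElt {q | q ∉ sigma N} x :=
    (ms_pi hG hM hx).mono (fun q hq => sigma_not_of_not_conj hG hM hN.coatom hN.not_conj hq)
  rcases cor_14_3 hG hN.coatom hs hs1 hxMN.2 hsx.symm hx1 hxs with ⟨h, -⟩ | ⟨h1, h2, h3⟩
  · exact absurd (hN.tau2 p hp (by rw [hzp])) (kappa_not_tau2 (h p hp hd))
  refine ⟨N, hN.coatom, h3, hN.ne, hN.not_conj, hN.nil, hN.compl, h1, hN.tau2_sub, ?_⟩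
  intro hbot
  have : s ∈ sigmaCore N ⊓ centralizer ({x} : Set G) := ⟨hs, mem_cent_singleton.2 hsx⟩
  rw [hbot, Subgroup.mem_bot] at this
  exact hs1 this

/-- conjugates of `M` containing `x ∈ M_σ` are conjugate under `C_G(x)` -/
theorem conj_trans {M : Subgroup G} (hM : IsCoatom M) {x : G} (hx : x ∈ sigmaCore M) (hx1 : x ≠ 1)
    {g : G} (hg : x ∈ cj g M) : ∃ c ∈ centralizer ({x} : Set G), cj c M = cj g M := by
  by_cases hgM : cj g M = M
  · exact ⟨1, Subgroup.one_mem _, by rw [hgM]; exact L.cj_eq_self_of_mem (Subgroup.one_mem _)⟩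
  obtain ⟨p, hp, hd⟩ := Nat.exists_prime_and_dvd (n := orderOf x)
    (fun h => hx1 (orderOf_eq_one_iff.1 h))
  have hpF : Fact p.Prime := ⟨hp⟩
  have hpM : p ∈ sigma M := ms_pi hG hM hx p hp hd
  obtain ⟨z, hz, hzp⟩ := exists_prime_power_elt hp hd
  have hz1 := ne_one_of_orderOf hG hp hzp
  have hzle : zpowers x ≤ sigmaCore M := by rwa [zpowers_le]
  have hzg : z ∈ cj g M := (by rwa [zpowers_le] : zpowers x ≤ cj g M) hz
  have hX : cj g⁻¹ (zpowers z) ≤ M := by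
    rw [L.cj_le_iff, inv_inv]; rwa [zpowers_le]
  have hXM : zpowers z ≤ M := by rw [zpowers_le]; exact ms_le M (hzle hz)
  obtain ⟨m, hm, c, hcz, e⟩ := (BB.S1404 hG M hM p hpM (zpowers z)
    (IsPGroup.of_card (n := 1) (by rw [card_zpowers_eq hzp, pow_one]))
    (by rw [Ne, Subgroup.zpowers_eq_bot]; exact hz1) hXM).1 g⁻¹ hX
  rw [cent_zpowers] at hcz
  have e' : g = c⁻¹ * m⁻¹ := by rw [← inv_inv g, e, mul_inv_rev]
  have h1 : cj g M = cj c⁻¹ M := by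
    rw [e', ← L.cj_cj, L.cj_eq_self_of_mem (M.inv_mem hm)]
  have hcM : c⁻¹ ∉ M := by
    intro h
    apply hgM
    rw [h1, L.cj_eq_self_of_mem h]
  have hzc : ¬ centralizer ({z} : Set G) ≤ M := fun h => hcM (h (Subgroup.inv_mem _ hcz))
  obtain ⟨N, hN⟩ := sup_prime hG hM (hzle hz) hp hzp hzc
  have hxMN := mem_inf_of_sup hG hN (ms_le M hx) hz
  have hcN : c⁻¹ ∈ N := hN.uniq.1 (Subgroup.inv_mem _ hcz)
  obtain ⟨s, hs, e1, he1, hse⟩ := (complIn_symm hN.compl).2.2.2 _ hcN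
  have h2 : cj g M = cj s M := by
    rw [h1, hse, ← L.cj_cj, L.cj_eq_self_of_mem he1.1]
  refine ⟨s, ?_, h2.symm⟩
  -- s commutes with x
  rw [h2, L.mem_cj] at hg
  have hsN : s ∈ N := ms_le N hs
  have h3 : s⁻¹ * x * s ∈ M ⊓ N :=
    ⟨hg, N.mul_mem (N.mul_mem (N.inv_mem hsN) hxMN.2) hsN⟩
  have h4 : s⁻¹ * x * s * x⁻¹ ∈ (M ⊓ N) ⊓ sigmaCore N := by
    refine ⟨Subgroup.mul_mem _ h3 (Subgroup.inv_mem _ hxMN), ?_⟩
    have : x * s * x⁻¹ ∈ sigmaCore N := (Subgroup.mem_normalizer_iff.1 (le_nz_ms N hxMN.2) _).1 hs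
    have := (sigmaCore N).mul_mem ((sigmaCore N).inv_mem hs) this
    simpa [mul_assoc] using this
  rw [hN.compl.2.2.1, Subgroup.mem_bot] at h4
  have h5 : s⁻¹ * x * s = x := mul_inv_eq_one.1 h4
  rw [mem_cent_singleton]
  calc s * x = s * (s⁻¹ * x * s) := by rw [h5]
    _ = x * s := by group

end Cfsg.Agent.H21
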