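import Cfsg.Agent.H21.OT14d

set_option autoImplicit false

/-! Consequences of Theorem 14.4: the subgroups `R(x)`, disjointness of the cosets `x R(x)`, the
dichotomy 14.6. -/

namespace Cfsg.Agent.H21

open Subgroup
open Cfsg.Agent.L (cj nz SylIn)
open Cfsg.Agent.H14 (IsPiSub)
open Cfsg.Agent.OOT
open scoped Pointwise

universe u
variable {G : Type u} [Group G]

variable [Finite G] (hG : IsMinSimpleOddOrder G)
include hG

omit [Finite G] hG in
theorem supportR_bot {M : Subgroup G} {x : G} (h : centralizer ({x} : Set G) ≤ M) :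
    supportR M x = ⊥ := by
  rw [supportR, dif_neg]
  rintro ⟨h1, -⟩
  exact h1 h

theorem supportR_eq {M N : Subgroup G} {x : G} (h : Sup M x N)
    (hc : ¬ centralizer ({x} : Set G) ≤ M) :
    supportR M x = sigmaCore N ⊓ centralizer ({x} : Set G) := by
  have h1 : ¬ centralizer ({x} : Set G) ≤ M ∧
      ∃! L : Subgroup G, IsCoatom L ∧ centralizer ({x} : Set G) ≤ L :=
    ⟨hc, N, ⟨h.coatom, h.uniq.1⟩, fun L hL => h.uniq.2 L hL.1 hL.2⟩
  rw [supportR, dif_pos h1]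
  have h2 := Classical.choose_spec h1.2.exists
  rw [h.uniq.2 _ h2.1 h2.2, fhOf_eq_ms hG h.coatom h.nil]

/-- the two cases for `R(x)` -/
theorem supportR_cases {M : Subgroup G} (hM : IsCoatom M) {x : G} (hx : x ∈ sigmaCore M)
    (hx1 : x ≠ 1) :
    (centralizer ({x} : Set G) ≤ M ∧ supportR M x = ⊥) ∨
    (¬ centralizer ({x} : Set G) ≤ M ∧ ∃ N, Sup M x N ∧
      supportR M x = sigmaCore N ⊓ centralizer ({x} : Set G)) := by
  by_cases hc : centralizer ({x} : Set G) ≤ M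
  · exact Or.inl ⟨hc, supportR_bot hc⟩
  · obtain ⟨N, hN⟩ := thm_14_4 hG hM hx hx1 hc
    exact Or.inr ⟨hc, N, hN, supportR_eq hG hN hc⟩

/-- `R(x)` does not depend on `M` -/
theorem supportR_indep {M M' : Subgroup G} (hM : IsCoatom M) {x : G} (hx : x ∈ sigmaCore M)
    (hx1 : x ≠ 1) {g : G} (hg : M' = cj g M) (hx' : x ∈ sigmaCore M') :
    supportR M' x = supportR M x := by
  have hM' : IsCoatom M' := by rw [hg]; exact coatom_cj hM g
  rcases supportR_cases hG hM hx hx1 with ⟨h1, h2⟩ | ⟨h1, N, h2, h3⟩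
  · have hxg : x ∈ cj g M := hg ▸ ms_le _ hx'
    obtain ⟨c, hc, e⟩ := conj_trans hG hM hx hx1 hxg
    have : M' = M := by rw [hg, ← e, L.cj_eq_self_of_mem (h1 hc)]
    rw [this]
  · rcases supportR_cases hG hM' hx' hx1 with ⟨h4, h5⟩ | ⟨h4, N', h5, h6⟩
    · exfalso
      exact h2.not_conj g (by rw [← hg]; exact (h2.uniq.2 M' hM' h4).symm)
    · rw [h3, h6, h2.uniq.2 N' h5.coatom h5.uniq.1]

theorem piElt_sigma_disj {M N : Subgroup G} (hM : IsCoatom M) (hN : IsCoatom N)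
    (h : ∀ g : G, N ≠ cj g M) {x : G} (hx : PiElt (sigma M) x) : PiElt {p | p ∉ sigma N} x :=
  hx.mono (fun _ hp => sigma_not_of_not_conj hG hM hN h hp)

/-- two maximal subgroups containing a common nontrivial `σ`-element -/
theorem conj_of_piElt {M N : Subgroup G} (hM : IsCoatom M) (hN : IsCoatom N)
    {x : G} (hx1 : x ≠ 1) (hx : PiElt (sigma M) x) (hx' : PiElt (sigma N) x) :
    ∃ g : G, N = cj g M := by
  obtain ⟨p, hp, hd, hpM⟩ := hx.prime_mem hx1
  exact sigma_conj hG hM hN hpM (hx' p hp hd)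

omit [Finite G] hG in
theorem not_conj_symm {M N : Subgroup G} (h : ∀ g : G, N ≠ cj g M) : ∀ g : G, M ≠ cj g N := by
  rintro g rfl
  apply h g⁻¹
  rw [L.cj_inv_cj]

omit [Finite G] hG in
theorem conj_symm {M N : Subgroup G} (h : ∃ g : G, N = cj g M) : ∃ g : G, M = cj g N := by
  obtain ⟨g, rfl⟩ := h
  exact ⟨g⁻¹, by rw [L.cj_inv_cj]⟩

omit [Finite G] hG in
theorem conj_trans' {M N P : Subgroup G} (h : ∃ g : G, N = cj g M) (h' : ∃ g : G, P = cj g N) :
    ∃ g : G, P = cj g M := by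
  obtain ⟨g, rfl⟩ := h
  obtain ⟨k, rfl⟩ := h'
  exact ⟨k * g, by rw [L.cj_cj]⟩

theorem sigma_eq_of_conj {M N : Subgroup G} (h : ∃ g : G, N = cj g M) : sigma N = sigma M := by
  obtain ⟨g, rfl⟩ := h
  exact sigma_cj g M

omit hG in
/-- if `x r = y s` with commuting factors, each `π(x)`, `π(y)` etc. -/
theorem comm_of_mul_eq {x r : G} (h : r * x = x * r) : x * r = r * x := h.symm

/-- S1433 -/
theorem cosets_disjoint {M N : Subgroup G} (hM : IsCoatom M) (hN : IsCoatom N) {x y : G}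
    (hx : x ∈ sigmaCore M) (hy : y ∈ sigmaCore N) (hx1 : x ≠ 1) (hy1 : y ≠ 1) (hxy : x ≠ y)
    {r s : G} (hr : r ∈ supportR M x) (hs : s ∈ supportR N y) : x * r ≠ y * s := by
  -- case `s = 1`
  have key : ∀ {M N : Subgroup G}, IsCoatom M → IsCoatom N → ∀ {x y : G},
      x ∈ sigmaCore M → y ∈ sigmaCore N → x ≠ 1 → y ≠ 1 → x ≠ y →
      ∀ {r : G}, r ∈ supportR M x → x * r ≠ y := by
    intro M N hM hN x y hx hy hx1 hy1 hxy r hr e
    rcases supportR_cases hG hM hx hx1 with ⟨h1, h2⟩ | ⟨h1, L1, h2, h3⟩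
    · rw [h2, Subgroup.mem_bot] at hr
      rw [hr, mul_one] at e
      exact hxy e
    rw [h3] at hr
    have hrx : r * x = x * r := mem_cent_singleton.1 hr.2
    have hrL : PiElt (sigma L1) r := ms_pi hG h2.coatom hr.1
    have hr1 : r ≠ 1 := by rintro rfl; rw [mul_one] at e; exact hxy e
    have hxL : PiElt {p | p ∉ sigma L1} x :=
      piElt_sigma_disj hG hM h2.coatom h2.not_conj (ms_pi hG hM hx)
    have hyN := ms_pi hG hN hy
    have hcop := coprime_orderOf (π := sigma L1) hrL hxL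
    have hr' : r ∈ zpowers y := by
      rw [← e, ← hrx]; exact mem_zpowers_of_coprime hrx hcop
    have hx' : x ∈ zpowers y := by
      rw [← e, ← hrx]; exact mem_zpowers_of_coprime' hrx hcop
    obtain ⟨a, ha⟩ := conj_of_piElt hG hM hN hx1 (ms_pi hG hM hx) (hyN.of_mem_zpowers hx')
    obtain ⟨b, hb⟩ := conj_symm (conj_of_piElt hG h2.coatom hN hr1 hrL (hyN.of_mem_zpowers hr'))
    obtain ⟨c, hc⟩ := conj_trans' ⟨a, ha⟩ ⟨b, hb⟩
    exact h2.not_conj c hc
  intro e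
  by_cases hs1 : s = 1
  · rw [hs1, mul_one] at e
    exact key hM hN hx hy hx1 hy1 hxy hr e
  by_cases hr1 : r = 1
  · rw [hr1, mul_one] at e
    exact key hN hM hy hx hy1 hx1 (Ne.symm hxy) hs e.symm
  rcases supportR_cases hG hM hx hx1 with ⟨h1, h2⟩ | ⟨h1, L1, h2, h3⟩
  · rw [h2, Subgroup.mem_bot] at hr; exact hr1 hr
  rcases supportR_cases hG hN hy hy1 with ⟨k1, k2⟩ | ⟨k1, L2, k2, k3⟩
  · rw [k2, Subgroup.mem_bot] at hs; exact hs1 hs
  rw [h3] at hr
  rw [k3] at hs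
  have hrx : r * x = x * r := mem_cent_singleton.1 hr.2
  have hsy : s * y = y * s := mem_cent_singleton.1 hs.2
  have hrL : PiElt (sigma L1) r := ms_pi hG h2.coatom hr.1
  have hsL : PiElt (sigma L2) s := ms_pi hG k2.coatom hs.1
  have hxM := ms_pi hG hM hx
  have hyN := ms_pi hG hN hy
  have hrM : PiElt {p | p ∉ sigma M} r :=
    piElt_sigma_disj hG h2.coatom hM (not_conj_symm h2.not_conj) hrL
  have hsN : PiElt {p | p ∉ sigma N} s :=
    piElt_sigma_disj hG k2.coatom hN (not_conj_symm k2.not_conj) hsL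
  by_cases hc : ∃ g : G, N = cj g M
  · rw [← sigma_eq_of_conj hG hc] at hxM hrM
    exact hxy (piPart_unique e hrx.symm hsy.symm hxM hrM hyN hsN).1
  have hc' : ∀ g : G, N ≠ cj g M := fun g hg => hc ⟨g, hg⟩
  -- all primes of `y` lie in `σ(L1)`
  have hyM : PiElt {p | p ∉ sigma M} y := piElt_sigma_disj hG hN hM (not_conj_symm hc') hyN
  have hyg : y ∈ zpowers (x * r) := by
    rw [e]; exact mem_zpowers_of_coprime hsy.symm (coprime_orderOf hyN hsN)
  have hxg : x ∈ zpowers (y * s) := by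
    rw [← e]; exact mem_zpowers_of_coprime hrx.symm (coprime_orderOf hxM hrM)
  have hxN : PiElt {p | p ∉ sigma N} x := piElt_sigma_disj hG hM hN hc' hxM
  -- `y ∈ ⟨r⟩`
  have mem_of : ∀ {a b c : G} {π : Set ℕ}, c ∈ zpowers (a * b) → a * b = b * a →
      PiElt π a → PiElt {p | p ∉ π} b → PiElt {p | p ∉ π} c → c ∈ zpowers b := by
    intro a b c π hc hab ha hb hcc
    obtain ⟨n, hn⟩ := hc
    have h1 : c = a ^ n * b ^ n := by
      rw [← hn]; exact (show Commute a b from hab).mul_zpow n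
    have h2 : a ^ n * b ^ n = b ^ n * a ^ n :=
      ((show Commute a b from hab).zpow_zpow n n)
    have h3 := (piPart_unique (π := π) (a := a ^ n) (b := b ^ n) (c := 1) (d := c)
      (by rw [one_mul, h1]) h2 (by simp)
      (ha.of_mem_zpowers (Subgroup.zpow_mem _ (mem_zpowers a) n))
      (hb.of_mem_zpowers (Subgroup.zpow_mem _ (mem_zpowers b) n)) (piElt_one _) hcc).2
    rw [← h3]; exact Subgroup.zpow_mem _ (mem_zpowers b) n
  have hyr : y ∈ zpowers r := mem_of (π := sigma M) hyg hrx.symm hxM hrM hyM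
  have hxs : x ∈ zpowers s := mem_of (π := sigma N) hxg hsy.symm hyN hsN hxN
  have hyL1 : y ∈ sigmaCore L1 := (by rw [zpowers_le]; exact hr.1 : zpowers r ≤ sigmaCore L1) hyr
  have hxL2 : x ∈ sigmaCore L2 := (by rw [zpowers_le]; exact hs.1 : zpowers s ≤ sigmaCore L2) hxs
  -- `L2` is conjugate to `M`
  obtain ⟨g, hg⟩ := conj_of_piElt hG hM k2.coatom hx1 hxM (ms_pi hG k2.coatom hxL2)
  have hcL2 : ¬ centralizer ({x} : Set G) ≤ L2 := by
    intro h
    exact h2.not_conj g (by rw [← hg]; exact (h2.uniq.2 L2 k2.coatom h).symm)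
  obtain ⟨N', hN'⟩ := thm_14_4 hG k2.coatom hxL2 hx1 hcL2
  have hN'L : N' = L1 := h2.uniq.2 N' hN'.coatom hN'.uniq.1
  rw [hN'L] at hN'
  have hyL2 : y ∈ L2 := k2.uniq.1 (mem_cent_singleton.2 rfl)
  have : y ∈ (L2 ⊓ L1) ⊓ sigmaCore L1 := ⟨⟨hyL2, ms_le L1 hyL1⟩, hyL1⟩
  rw [hN'.compl.2.2.1, Subgroup.mem_bot] at this
  exact hy1 this

/-- S1375 without the last clause, S1374 -/
theorem cent_compl {M N : Subgroup G} (hM : IsCoatom M) {x : G} (hx : x ∈ sigmaCore M)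
    (hx1 : x ≠ 1) (hN : Sup M x N) :
    IsComplIn (M ⊓ centralizer ({x} : Set G)) (sigmaCore N ⊓ centralizer ({x} : Set G))
      (centralizer ({x} : Set G)) := by
  refine ⟨inf_le_right, inf_le_right, ?_, ?_⟩
  · rw [eq_bot_iff, ← hN.compl.2.2.1]
    rintro g ⟨⟨h1, h2⟩, h3, h4⟩
    exact ⟨⟨h1, ms_le N h3⟩, h3⟩
  · intro g hg
    have hxN : x ∈ N := hN.uniq.1 (mem_cent_singleton.2 rfl)
    obtain ⟨e, he, s, hs, hes, h1, h2⟩ := compl_cent_exists hN.compl (le_nz_ms N)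
      (z := x) ⟨ms_le M hx, hxN⟩ (hN.uniq.1 hg) (mem_cent_singleton.1 hg)
    exact ⟨e, ⟨he.1, mem_cent_singleton.2 h1⟩, s, ⟨hs, mem_cent_singleton.2 h2⟩, hes⟩

theorem cent_nz {N : Subgroup G} {x : G} (h : centralizer ({x} : Set G) ≤ N) :
    centralizer ({x} : Set G) ≤ nz (sigmaCore N ⊓ centralizer ({x} : Set G)) := by
  intro g hg
  refine L.mem_nz_iff.2 ?_
  rw [L.cj_inf, L.mem_nz_iff.1 (le_nz_ms N (h hg)), L.mem_nz_iff.1 (L.le_nz _ hg)]

end Cfsg.Agent.H21
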