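import Cfsg.Agent.H21.OT14e

set_option autoImplicit false

/-! Rows S1374, S1375, 14.4(d), the dichotomy 14.6. -/

namespace Cfsg.Agent.H21

open Subgroup
open Cfsg.Agent.L (cj nz SylIn)
open Cfsg.Agent.H14 (IsPiSub)
open Cfsg.Agent.OOT
open scoped Pointwise

universe u
variable {G : Type u} [Group G]

variable [Finite G] (hG : IsMinSimpleOddOrder G)
include hG

omit [Finite G] hG in
/-- `[A, Q] ≤ N ∩ Q = 1` -/
theorem le_cent_of_inf {A N Q : Subgroup G} (h1 : A ≤ N) (h2 : Q ≤ nz N) (h3 : A ≤ nz Q)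
    (h4 : N ⊓ Q = ⊥) : A ≤ centralizer (Q : Set G) := by
  intro a ha
  rw [mem_cent_iff]
  intro q hq
  have e1 : a * q * a⁻¹ * q⁻¹ ∈ Q :=
    Q.mul_mem ((Subgroup.mem_normalizer_iff.1 (h3 ha) q).1 hq) (Q.inv_mem hq)
  have e2 : a * q * a⁻¹ * q⁻¹ ∈ N := by
    have := (Subgroup.mem_normalizer_iff.1 (h2 hq) a⁻¹).1 (N.inv_mem (h1 ha))
    have := N.mul_mem (h1 ha) this
    simpa [mul_assoc] using this
  have e3 : a * q * a⁻¹ * q⁻¹ ∈ N ⊓ Q := ⟨e2, e1⟩
  rw [h4, Subgroup.mem_bot] at e3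
  have e4 := mul_inv_eq_one.1 e3
  rw [mul_inv_eq_iff_eq_mul] at e4
  exact e4

theorem sup_not_cent_le {M N : Subgroup G} (hM : IsCoatom M) {x : G} (h : Sup M x N) :
    ¬ centralizer ({x} : Set G) ≤ M := fun hc => h.ne (h.uniq.2 M hM hc).symm

/-- `C_G(x)` and `N_σ` -/
theorem cent_coprime {M N : Subgroup G} (hM : IsCoatom M) {x : G} (hx : x ∈ sigmaCore M)
    (hx1 : x ≠ 1) (hN : Sup M x N) :
    (Nat.card ↥(M ⊓ centralizer ({x} : Set G))).Coprime
      ((M ⊓ centralizer ({x} : Set G)).relIndex (centralizer ({x} : Set G))) := by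
  rw [complIn_relIndex_left (cent_compl hG hM hx hx1 hN)]
  refine Nat.coprime_of_dvd fun p hp h1 h2 => ?_
  have h3 : p ∈ sigma N :=
    (ms_hall hG hN.coatom).2.1 p hp (h2.trans (card_dvd_of_le inf_le_left))
  have h4 : M ⊓ centralizer ({x} : Set G) ≤ M ⊓ N := inf_le_inf_left _ hN.uniq.1
  exact (compl_hall hG hN.coatom hN.compl).2.1 p hp (h1.trans (card_dvd_of_le h4)) h3

theorem cj_cancel {M : Subgroup G} (hM : IsCoatom M) {r s : G} (h : cj r M = cj s M) :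
    s⁻¹ * r ∈ M := by
  have h1 : cj (s⁻¹ * r) M = M := by
    rw [← L.cj_cj, h, L.cj_inv_cj]
  have h2 : s⁻¹ * r ∈ normalizer (M : Set G) := L.mem_nz_iff.2 h1
  rwa [coatom_normalizer_self hG hM] at h2

/-- sharp transitivity of `R(x)` on the conjugates of `M` containing `x` -/
theorem sharp {M : Subgroup G} (hM : IsCoatom M) {x : G} (hx : x ∈ sigmaCore M)
    (hx1 : x ≠ 1) {g : G} (hg : x ∈ cj g M) :
    ∃! r : G, r ∈ supportR M x ∧ cj r M = cj g M := by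
  obtain ⟨c, hc, hcg⟩ := conj_trans hG hM hx hx1 hg
  rcases supportR_cases hG hM hx hx1 with ⟨h1, h2⟩ | ⟨h1, N, h2, h3⟩
  · refine ⟨1, ⟨by rw [h2]; exact Subgroup.one_mem _, ?_⟩, ?_⟩
    · rw [← hcg, L.cj_eq_self_of_mem (h1 hc), L.cj_eq_self_of_mem (Subgroup.one_mem _)]
    · rintro y ⟨hy, -⟩
      rwa [h2, Subgroup.mem_bot] at hy
  · have hcompl := cent_compl hG hM hx hx1 h2
    obtain ⟨r, hr, e, he, hre⟩ := (complIn_symm hcompl).2.2.2 c hc
    refine ⟨r, ⟨by rw [h3]; exact hr, ?_⟩, ?_⟩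
    · rw [← hcg, hre, ← L.cj_cj, L.cj_eq_self_of_mem he.1]
    · rintro s ⟨hs, hs'⟩
      rw [h3] at hs
      have h4 : cj s M = cj r M := by
        rw [hs', ← hcg, hre, ← L.cj_cj, L.cj_eq_self_of_mem he.1]
      have h5 : r⁻¹ * s ∈ M := cj_cancel hG hM h4
      have h6 : r⁻¹ * s ∈ sigmaCore N ⊓ centralizer ({x} : Set G) :=
        Subgroup.mul_mem _ (Subgroup.inv_mem _ hr) hs
      have h7 : r⁻¹ * s ∈ (M ⊓ N) ⊓ sigmaCore N := ⟨⟨h5, ms_le N h6.1⟩, h6.1⟩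
      rw [h2.compl.2.2.1, Subgroup.mem_bot] at h7
      exact (inv_mul_eq_one.1 h7).symm

/-- S1374 -/
theorem row1374 {M : Subgroup G} (hM : IsCoatom M) {x : G} (hx : x ∈ sigmaCore M)
    (hx1 : x ≠ 1) :
    (Nat.card ↥(M ⊓ Subgroup.centralizer ({x} : Set G))).Coprime ((M ⊓ Subgroup.centralizer ({x} : Set G)).relIndex (Subgroup.centralizer ({x} : Set G))) ∧
      ∃ R : Subgroup G, Subgroup.centralizer ({x} : Set G) ≤ Subgroup.normalizer (R : Set G) ∧ Cfsg.IsComplIn (M ⊓ Subgroup.centralizer ({x} : Set G)) R (Subgroup.centralizer ({x} : Set G)) ∧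
        ∀ g : G, x ∈ M.map (MulAut.conj g).toMonoidHom → ∃! r : G, r ∈ R ∧ M.map (MulAut.conj r).toMonoidHom = M.map (MulAut.conj g).toMonoidHom := by
  rcases supportR_cases hG hM hx hx1 with ⟨h1, h2⟩ | ⟨h1, N, h2, h3⟩
  · have h4 : M ⊓ centralizer ({x} : Set G) = centralizer ({x} : Set G) := inf_eq_right.2 h1
    refine ⟨by rw [h4, Subgroup.relIndex_self]; exact Nat.coprime_one_right _,
      supportR M x, ?_, ?_, fun g hg => sharp hG hM hx hx1 hg⟩
    · intro g hg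
      rw [h2]
      refine L.mem_nz_iff.2 ?_
      exact L.cj_bot g
    · rw [h4, h2]
      refine ⟨le_rfl, bot_le, inf_bot_eq _, fun g hg => ⟨g, hg, 1, Subgroup.one_mem _, ?_⟩⟩
      rw [mul_one]
  · refine ⟨cent_coprime hG hM hx hx1 h2, supportR M x, ?_, ?_, fun g hg => sharp hG hM hx hx1 hg⟩
    · rw [h3]; exact cent_nz hG h2.uniq.1
    · rw [h3]; exact cent_compl hG hM hx hx1 h2

/-- S1375 -/
theorem row1375 {M : Subgroup G} (hM : IsCoatom M) {x : G} (hx : x ∈ sigmaCore M)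
    (hx1 : x ≠ 1) (hxM : ¬ Subgroup.centralizer ({x} : Set G) ≤ M) :
    ∃ N : Subgroup G, (IsCoatom N ∧ Subgroup.centralizer ({x} : Set G) ≤ N) ∧ (∀ L : Subgroup G, IsCoatom L → Subgroup.centralizer ({x} : Set G) ≤ L → L = N) ∧
        Cfsg.sigmaCore N = Cfsg.fittingHallOf N ∧
        Subgroup.centralizer ({x} : Set G) ≤ Subgroup.normalizer ((Cfsg.sigmaCore N ⊓ Subgroup.centralizer ({x} : Set G) : Subgroup G) : Set G) ∧
        Cfsg.IsComplIn (M ⊓ Subgroup.centralizer ({x} : Set G)) (Cfsg.sigmaCore N ⊓ Subgroup.centralizer ({x} : Set G)) (Subgroup.centralizer ({x} : Set G)) ∧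
        Cfsg.IsComplIn (M ⊓ N) (Cfsg.sigmaCore N) N ∧
        ∀ K' U' : Subgroup G, Cfsg.IsSigmaDecomposition N K' U' → U' ≠ ⊥ ∧ x ∈ Cfsg.sigmaA N U' ∧ x ∉ Cfsg.sigmaCore N := by
  obtain ⟨N, hN⟩ := thm_14_4 hG hM hx hx1 hxM
  have hxN : x ∈ N := hN.uniq.1 (mem_cent_singleton.2 rfl)
  have hxs : x ∉ sigmaCore N := by
    intro h
    have : x ∈ (M ⊓ N) ⊓ sigmaCore N := ⟨⟨ms_le M hx, hxN⟩, h⟩
    rw [hN.compl.2.2.1, Subgroup.mem_bot] at this
    exact hx1 this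
  refine ⟨N, ⟨hN.coatom, hN.uniq.1⟩, hN.uniq.2, (fhOf_eq_ms hG hN.coatom hN.nil).symm,
    cent_nz hG hN.uniq.1, cent_compl hG hM hx hx1 hN, hN.compl, fun K' U' hKU => ?_⟩
  have hxU : x ∈ U' ⊔ sigmaCore N :=
    piElt_mem_normal_hall (dec_UMs_hall hG hN.coatom hKU) (dec_UMs_nz hG hN.coatom hKU) hxN
      (hN.tau2.mono fun p hp hk => kappa_not_tau2 hk hp)
  refine ⟨?_, ⟨⟨hxN, ?_⟩, hxU⟩, hxs⟩
  · rintro rfl
    rw [bot_sup_eq] at hxU
    exact hxs hxU
  · obtain ⟨y, hy, hy1⟩ := exists_ne_one hN.cent_ne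
    exact ⟨y, hy.1, hy1, (mem_cent_singleton.1 hy.2).symm⟩

/-- 14.4(d) -/
theorem sup_beta {M N : Subgroup G} (hM : IsCoatom M) {x : G} (hx : x ∈ sigmaCore M)
    (hx1 : x ≠ 1) (hN : Sup M x N) {q : ℕ} (hqM : q ∣ Nat.card M) (hqN : q ∈ sigma N) :
    q ∈ beta N := by
  by_contra hqb
  have hq : q.Prime := hqN.1
  have hqF : Fact q.Prime := ⟨hq⟩
  obtain ⟨p, hp, hpx, hp2⟩ := hN.tau2.prime_mem hx1
  have hpF : Fact p.Prime := ⟨hp⟩
  have hpM : p ∈ sigma M := ms_pi hG hM hx p hp hpx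
  obtain ⟨A, hA, hA1, hA2⟩ := exists_ea_sq hG hN.coatom hN.compl hp2
  have hAp := isEA_isPGroup hA1
  have hAN : A ≤ N := hA.trans inf_le_right
  have hAM : A ≤ M := hA.trans inf_le_left
  have hAMs : A ≤ sigmaCore M := le_ms hG hM hAM (isPiSub_of_isPGroup hpM hAp)
  have e4 := (BB.S1417 hG N hN.coatom p hp2 A ⟨hAN, hA1, hA2⟩).2.2.2.1
  have f2 := (BB.S1418 hG N hN.coatom _ hN.compl p hp2 A ⟨hA, hA1, hA2⟩).2.1.1
  have hpq : p ≠ q := by rintro rfl; exact hp2.2.1 hqN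
  -- `p ≤ q`
  have h1 : p ∣ (ppc q N).relIndex N := by
    by_contra hc
    have hAle : A ≤ ppc q N := le_of_not_dvd_relIndex (ppc_le q N) (le_nz_ppc q N) hAN hAp hc
    have hQn : N ≤ nz (H1.part q (sigmaCore N)) :=
      (le_nz_ms N).trans (H1.normalizer_le_normalizer_part q _)
    have hQle : H1.part q (sigmaCore N) ≤ N := (H1.part_le _ _).trans (ms_le N)
    have hdis : H1.part q (sigmaCore N) ⊓ ppc q N = ⊥ := by
      refine inf_bot_of_pi (π := {q}) (isPiSub_of_isPGroup (Set.mem_singleton q) (H1.part_isPGroup _ _)) ?_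
      intro r hr hd hrq
      rw [Set.mem_singleton_iff] at hrq
      subst hrq
      exact (Nat.Prime.coprime_iff_not_dvd hr).1 (ppc_coprime r N).symm hd
    have hcent : H1.part q (sigmaCore N) ≤ centralizer (ppc q N : Set G) :=
      le_cent_of_coprime (hQle.trans (le_nz_ppc q N)) ((ppc_le q N).trans hQn) hdis
    have : H1.part q (sigmaCore N) ≤ sigmaCore N ⊓ centralizer (A : Set G) :=
      le_inf (H1.part_le _ _) (hcent.trans (centralizer_le hAle))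
    rw [e4, le_bot_iff] at this
    have hd : q ∣ Nat.card (sigmaCore N) := by
      by_contra hnd
      have h5 := L.card_mul_relIndex (ms_le N)
      have h6 := hqN.2.1
      rw [← h5] at h6
      rcases hq.dvd_mul.1 h6 with h | h
      · exact hnd h
      · exact (ms_hall hG hN.coatom).2.2 q hq hqN h
    exact H1.part_ne_bot hN.nil hd this
  rw [ppc_relIndex] at h1
  have hle : p ≤ q := (BB.S1414 hG N hN.coatom).2.2.2.2 q hq hqN.2.1 hqb |>.2.2 p hp h1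
  -- `q ∤ [M : O_{p'}(M)]`
  have hpb : p ∉ beta M := tau2_not_beta hG hN.coatom hp2
  have h2 : ¬ q ∣ (ppc p M).relIndex M := by
    intro h
    rw [ppc_relIndex] at h
    have := ((BB.S1414 hG M hM).2.2.2.2 p hp hpM.2.1 hpb).2.2 q hq h
    omega
  have hqM' : q ∉ sigma M := sigma_not_of_not_conj hG hN.coatom hM (not_conj_symm hN.not_conj) hqN
  have hcop : (Nat.card A).Coprime (Nat.card (ppc p M)) := by
    rw [hA2]; exact Nat.Coprime.pow_left _ (ppc_coprime p M).symm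
  have hAn : A ≤ nz (ppc p M) := hAM.trans (le_nz_ppc p M)
  obtain ⟨Q', hQ'⟩ := H1.exists_invariant_sylow A (ppc p M) hAn hcop
    (Or.inr (H1.isSolvable_of_le (ppc_le p M) (coatom_sol hG hM))) q
  set Q : Subgroup G := (Q' : Subgroup (ppc p M)).map (ppc p M).subtype with hQdef
  have hQS : SylIn q Q (ppc p M) := L.sylIn_of_sylow Q'
  have hQM : Q ≤ M := hQS.le.trans (ppc_le p M)
  have hQ1 : Q ≠ ⊥ := by
    intro hb
    have h3 := hQS.3
    rw [hb, Subgroup.relIndex_bot_left] at h3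
    have h4 := L.card_mul_relIndex (ppc_le p M)
    rw [← h4] at hqM
    rcases hq.dvd_mul.1 hqM with h | h
    · exact h3 h
    · exact h2 h
  have hdis' : sigmaCore M ⊓ Q = ⊥ :=
    inf_bot_of_pi (ms_hall hG hM).2.1
      (isPiSub_of_isPGroup (π := {r | r ∉ sigma M}) hqM' hQS.isPGroup)
  have hAQ : A ≤ centralizer (Q : Set G) :=
    le_cent_of_inf hAMs (hQM.trans (le_nz_ms M)) hQ' hdis'
  have hQN : Q ≤ M ⊓ N := le_inf hQM ((le_cent_comm.1 hAQ).trans (f2.trans inf_le_left))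
  obtain ⟨n, hn⟩ := IsPGroup.iff_card.1 hQS.isPGroup
  have hn0 : n ≠ 0 := by
    rintro rfl
    rw [pow_zero] at hn
    exact hQ1 (Subgroup.card_eq_one.1 hn)
  have hqQ : q ∣ Nat.card Q := by rw [hn]; exact dvd_pow_self q hn0
  exact (compl_hall hG hN.coatom hN.compl).2.1 q hq (hqQ.trans (card_dvd_of_le hQN)) hqN

end Cfsg.Agent.H21
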