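import Cfsg.Agent.H21.OT14f

set_option autoImplicit false

/-! The dichotomy 14.6. -/

namespace Cfsg.Agent.H21

open Subgroup
open Cfsg.Agent.L (cj nz SylIn)
open Cfsg.Agent.H14 (IsPiSub)
open Cfsg.Agent.OOT
open scoped Pointwise

universe u
variable {G : Type u} [Group G]

/-- alternative (1) of 14.6 -/
def InTilde (g : G) : Prop :=
  ∃ M : Subgroup G, IsCoatom M ∧ ∃ x ∈ sigmaCore M, x ≠ 1 ∧ ∃ r ∈ supportR M x, g = x * r

/-- alternative (2) of 14.6 -/
def InHat (g : G) : Prop :=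
  ∃ M : Subgroup G, IsCoatom M ∧ ∃ y ∈ sigmaCore M, y ≠ 1 ∧ ∃ k ∈ M, k ≠ 1 ∧
    PiElt (kappa M) k ∧ k * y = y * k ∧ g = y * k

/-- `z` is a power of the `π`-part -/
theorem mem_zpowers_part [Finite G] {a b c : G} {π : Set ℕ} (hc : c ∈ zpowers (a * b)) (hab : a * b = b * a)
    (ha : PiElt π a) (hb : PiElt {p | p ∉ π} b) (hcc : PiElt {p | p ∉ π} c) : c ∈ zpowers b := by
  obtain ⟨n, hn⟩ := hc
  have h1 : c = a ^ n * b ^ n := by
    rw [← hn]; exact (show Commute a b from hab).mul_zpow n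
  have h2 : a ^ n * b ^ n = b ^ n * a ^ n :=
    ((show Commute a b from hab).zpow_zpow n n)
  have h3 := (piPart_unique (π := π) (a := a ^ n) (b := b ^ n) (c := 1) (d := c)
    (by rw [one_mul, h1]) h2 (by simp)
    (ha.of_mem_zpowers (Subgroup.zpow_mem _ (mem_zpowers a) n))
    (hb.of_mem_zpowers (Subgroup.zpow_mem _ (mem_zpowers b) n)) (piElt_one _) hcc).2
  rw [← h3]; exact Subgroup.zpow_mem _ (mem_zpowers b) n

theorem mem_zpowers_part' [Finite G] {a b c : G} {π : Set ℕ} (hc : c ∈ zpowers (a * b)) (hab : a * b = b * a)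
    (ha : PiElt π a) (hb : PiElt {p | p ∉ π} b) (hcc : PiElt π c) : c ∈ zpowers a := by
  obtain ⟨n, hn⟩ := hc
  have h1 : c = a ^ n * b ^ n := by
    rw [← hn]; exact (show Commute a b from hab).mul_zpow n
  have h2 : a ^ n * b ^ n = b ^ n * a ^ n :=
    ((show Commute a b from hab).zpow_zpow n n)
  have h3 := (piPart_unique (π := π) (a := a ^ n) (b := b ^ n) (c := c) (d := 1)
    (by rw [mul_one, h1]) h2 (by simp)
    (ha.of_mem_zpowers (Subgroup.zpow_mem _ (mem_zpowers a) n))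
    (hb.of_mem_zpowers (Subgroup.zpow_mem _ (mem_zpowers b) n)) hcc (piElt_one _)).1
  rw [← h3]; exact Subgroup.zpow_mem _ (mem_zpowers a) n

variable [Finite G] (hG : IsMinSimpleOddOrder G)
include hG

/-- a `σ(L)`-element lies in a conjugate of `L_σ` -/
theorem exists_conj_mem_ms {N : Subgroup G} (hL : IsCoatom N) {x : G} (hx1 : x ≠ 1)
    (hx : PiElt (sigma N) x) : ∃ L' : Subgroup G, IsCoatom L' ∧ (∃ g : G, L' = cj g N) ∧
      x ∈ sigmaCore L' := by
  obtain ⟨g, hg⟩ := BB.S1425 hG N hL (zpowers x) (by rwa [Ne, Subgroup.zpowers_eq_bot])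
    (piSub_zpowers.2 hx)
  refine ⟨cj g⁻¹ N, coatom_cj hL _, ⟨g⁻¹, rfl⟩, ?_⟩
  rw [sigmaCore_cj, L.mem_cj, inv_inv]
  exact hg (L.conj_mem_cj (mem_zpowers x))

/-- Claim A -/
theorem dich_aux {M : Subgroup G} (hM : IsCoatom M) {x : G} (hx : x ∈ sigmaCore M) (hx1 : x ≠ 1)
    {x' : G} (hx'M : x' ∈ M) (hxx : x' * x = x * x')
    (hσ : PiElt {p | p ∉ sigma M} x') : InTilde (x * x') ∨ InHat (x * x') := by
  by_cases hx'1 : x' = 1
  · left
    exact ⟨M, hM, x, hx, hx1, 1, Subgroup.one_mem _, by rw [hx'1]⟩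
  rcases cor_14_3 hG hM hx hx1 hx'M hxx hx'1 hσ with ⟨h1, -⟩ | ⟨-, ⟨L, hL, hxL⟩, h3⟩
  · right
    exact ⟨M, hM, x, hx, hx1, x', hx'M, hx'1, h1, hxx, rfl⟩
  · left
    obtain ⟨L', hL', ⟨g, hg⟩, hxL'⟩ := exists_conj_mem_ms hG hL hx'1 hxL
    have hc : ¬ centralizer ({x'} : Set G) ≤ L' := by
      intro h
      have := h3.2 L' hL' h
      rw [this] at hxL'
      exact hx'1 (ms_cap hG hM hxL' hσ)
    obtain ⟨N, hN⟩ := thm_14_4 hG hL' hxL' hx'1 hc
    have hNM : N = M := h3.2 N hN.coatom hN.uniq.1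
    subst hNM
    refine ⟨L', hL', x', hxL', hx'1, x, ?_, hxx.symm⟩
    rw [supportR_eq hG hN hc]
    exact ⟨hx, mem_cent_singleton.2 hxx.symm⟩

/-- 14.6, existence -/
theorem dich {g : G} (hg : g ≠ 1) : InTilde g ∨ InHat g := by
  obtain ⟨p, hp, hd⟩ := Nat.exists_prime_and_dvd (n := orderOf g)
    (fun h => hg (orderOf_eq_one_iff.1 h))
  obtain ⟨M₀, hM₀, hpM₀⟩ := exists_sigma hG hp (hd.trans (orderOf_dvd_natCard g))
  obtain ⟨x, hxg, x', hx'g, e, hc, hx, hx'⟩ := exists_piPart (sigma M₀) g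
  have hx1 : x ≠ 1 := by
    rintro rfl
    rw [one_mul] at e
    exact hx' p hp (e ▸ hd) hpM₀
  obtain ⟨M, hM, ⟨a, ha⟩, hxM⟩ := exists_conj_mem_ms hG hM₀ hx1 hx
  have hs : sigma M = sigma M₀ := by rw [ha, sigma_cj]
  rw [← hs] at hx hx'
  -- the good case
  have good : ∀ M₁ : Subgroup G, IsCoatom M₁ → sigma M₁ = sigma M → x' ∈ M₁ → x ∈ sigmaCore M₁ →
      InTilde g ∨ InHat g := by
    intro M₁ hM₁ hs₁ hx'₁ hx₁
    rw [e]
    exact dich_aux hG hM₁ hx₁ hx1 hx'₁ hc.symm (by rw [hs₁]; exact hx')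
  by_cases hcM : centralizer ({x} : Set G) ≤ M
  · exact good M hM rfl (hcM (mem_cent_singleton.2 hc.symm)) hxM
  obtain ⟨N, hN⟩ := thm_14_4 hG hM hxM hx1 hcM
  have hxN' : PiElt {p | p ∉ sigma N} x := piElt_sigma_disj hG hM hN.coatom hN.not_conj hx
  have hgx : g * x = x * g := by
    rw [e, mul_assoc, ← hc]
  have hgN : g ∈ N := hN.uniq.1 (mem_cent_singleton.2 hgx)
  obtain ⟨y, hyg, y', hy'g, f, fc, hy, hy'⟩ := exists_piPart (sigma N) g
  have hxy' : x ∈ zpowers y' := by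
    rw [f] at hxg
    exact mem_zpowers_part hxg fc hy hy' hxN'
  have hzle : zpowers g ≤ N := by rwa [zpowers_le]
  by_cases hy1 : y = 1
  · -- `g` is a `σ(N)'`-element
    have hgs : PiElt {p | p ∉ sigma N} g := by rw [f, hy1, one_mul]; exact hy'
    obtain ⟨n, hn, hle⟩ := OOT.IsPiHallOf.exists_conj_le (coatom_sol hG hN.coatom)
      (compl_hall hG hN.coatom hN.compl) hzle (piSub_zpowers.2 hgs)
    have hgM : g ∈ cj n⁻¹ M := by
      rw [L.mem_cj, inv_inv]
      exact (hle (L.conj_mem_cj (mem_zpowers g))).1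
    have hzM : zpowers g ≤ cj n⁻¹ M := by rwa [zpowers_le]
    refine good (cj n⁻¹ M) (coatom_cj hM _) (sigma_cj _ _) (hzM hx'g)
      (mem_ms hG (coatom_cj hM _) (hzM hxg) (by rw [sigma_cj]; exact hx))
  · have hyN : y ∈ sigmaCore N := mem_ms hG hN.coatom (hzle hyg) hy
    have hy'1 : y' ≠ 1 := by
      rintro rfl
      rw [zpowers_one_eq_bot, Subgroup.mem_bot] at hxy'
      exact hx1 hxy'
    rcases cor_14_3 hG hN.coatom hyN hy1 (hzle hy'g) fc.symm hy'1 hy' with ⟨h1, -⟩ | ⟨h1, -, -⟩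
    · exfalso
      have h2 : PiElt (kappa N) x := h1.of_mem_zpowers hxy'
      exact hx1 (eq_one_of_piElt (fun q _ hq hq' => kappa_not_tau2 hq hq') h2 hN.tau2)
    · left
      have h2 : PiElt (sigma M) y' := h1.mono (fun q hq => hN.tau2_sub q hq)
      have h3 : PiElt {p | p ∉ sigma M} y :=
        piElt_sigma_disj hG hN.coatom hM (not_conj_symm hN.not_conj) hy
      have h4 := piPart_unique (π := sigma M) (a := x) (b := x') (c := y') (d := y)
        (by rw [← e, f, fc]) hc fc.symm hx hx' h2 h3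
      refine ⟨M, hM, x, hxM, hx1, x', ?_, e⟩
      rw [supportR_eq hG hN hcM, h4.2]
      refine ⟨hyN, mem_cent_singleton.2 ?_⟩
      rw [h4.1]; exact fc

/-- 14.6, exclusiveness -/
theorem not_tilde_hat {g : G} (h1 : InTilde g) (h2 : InHat g) : False := by
  obtain ⟨N, hN, a, ha, ha1, r, hr, e⟩ := h1
  obtain ⟨M, hM, y, hy, hy1, k, hk, hk1, hkk, hky, e2⟩ := h2
  have hkM : PiElt {p | p ∉ sigma M} k := hkk.mono fun p hp => kappa_not_sigma hp
  have hyM := ms_pi hG hM hy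
  have haN := ms_pi hG hN ha
  have hyg : y ∈ zpowers g := by
    rw [e2]; exact mem_zpowers_of_coprime hky.symm (coprime_orderOf hyM hkM)
  have hkg : k ∈ zpowers g := by
    rw [e2]; exact mem_zpowers_of_coprime' hky.symm (coprime_orderOf hyM hkM)
  have hCy : centralizer ({y} : Set G) ≤ M := by
    rcases cor_14_3 hG hM hy hy1 hk hky hk1 hkM with ⟨-, h⟩ | ⟨h, -⟩
    · exact h
    · exact absurd (eq_one_of_piElt (fun q _ hq hq' => kappa_not_tau2 hq hq') hkk h) hk1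
  by_cases hr1 : r = 1
  · rw [hr1, mul_one] at e
    obtain ⟨c, hc⟩ := conj_of_piElt hG hM hN hy1 hyM ((e ▸ haN : PiElt (sigma N) g).of_mem_zpowers hyg)
    have : PiElt (sigma M) k := by
      rw [← sigma_eq_of_conj hG ⟨c, hc⟩]
      exact (e ▸ haN : PiElt (sigma N) g).of_mem_zpowers hkg
    exact hk1 (eq_one_of_piElt (π := sigma M) (π' := {p | p ∉ sigma M}) (fun q _ hq hq' => hq' hq) this hkM)
  rcases supportR_cases hG hN ha ha1 with ⟨k1, k2⟩ | ⟨k1, L1, k2, k3⟩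
  · rw [k2, Subgroup.mem_bot] at hr; exact hr1 hr
  rw [k3] at hr
  have hra : r * a = a * r := mem_cent_singleton.1 hr.2
  have hrL : PiElt (sigma L1) r := ms_pi hG k2.coatom hr.1
  have hrN : PiElt {p | p ∉ sigma N} r :=
    piElt_sigma_disj hG k2.coatom hN (not_conj_symm k2.not_conj) hrL
  have e3 : a * r = y * k := by rw [← e, e2]
  by_cases hc : ∃ c : G, N = cj c M
  · have hs := sigma_eq_of_conj hG hc
    rw [hs] at haN hrN
    have h5 := piPart_unique e3 hra.symm hky.symm haN hrN hyM hkM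
    have h6 : M = L1 := k2.uniq.2 M hM (by rw [h5.1]; exact hCy)
    obtain ⟨c, hc⟩ := conj_symm hc
    exact k2.not_conj c (by rw [← h6, hc])
  · have hc' : ∀ c : G, N ≠ cj c M := fun c h => hc ⟨c, h⟩
    have hyN : PiElt {p | p ∉ sigma N} y := piElt_sigma_disj hG hM hN hc' hyM
    have hyr : y ∈ zpowers r := by
      rw [e] at hyg
      exact mem_zpowers_part hyg hra.symm haN hrN hyN
    obtain ⟨c, hc⟩ := conj_of_piElt hG hM k2.coatom hy1 hyM (hrL.of_mem_zpowers hyr)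
    have hs := sigma_eq_of_conj hG ⟨c, hc⟩
    rw [hs] at hrL
    have haM : PiElt {p | p ∉ sigma M} a := piElt_sigma_disj hG hN hM (not_conj_symm hc') haN
    have h5 := piPart_unique (by rw [hra, e3] : r * a = y * k) hra hky.symm hrL haM hyM hkM
    have h6 := k2.tau2
    rw [hc, tau2_cj, h5.2] at h6
    exact hk1 (eq_one_of_piElt (fun q _ hq hq' => kappa_not_tau2 hq hq') hkk h6)

end Cfsg.Agent.H21
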