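import Cfsg.Agent.H21.OT14g

set_option autoImplicit false

/-! The count of `M̃` (S1377). -/

namespace Cfsg.Agent.H21

open Subgroup
open Cfsg.Agent.L (cj nz SylIn)
open Cfsg.Agent.H14 (IsPiSub)
open Cfsg.Agent.OOT
open scoped Pointwise

universe u
variable {G : Type u} [Group G]

theorem cj_cent (g x : G) : cj g (centralizer ({x} : Set G)) = centralizer ({g * x * g⁻¹} : Set G) := by
  ext z
  rw [L.mem_cj, mem_cent_singleton, mem_cent_singleton]
  constructor
  · intro h
    have : g * (g⁻¹ * z * g * x) * g⁻¹ = g * (x * (g⁻¹ * z * g)) * g⁻¹ := by rw [h]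
    simpa [mul_assoc] using this
  · intro h
    have : g⁻¹ * (z * (g * x * g⁻¹)) * g = g⁻¹ * (g * x * g⁻¹ * z) * g := by rw [h]
    simpa [mul_assoc] using this

variable [Finite G] (hG : IsMinSimpleOddOrder G)
include hG

theorem supportR_cj {M : Subgroup G} (hM : IsCoatom M) {x : G} (hx : x ∈ sigmaCore M)
    (hx1 : x ≠ 1) (y : G) : supportR (cj y M) (y * x * y⁻¹) = cj y (supportR M x) := by
  have hM' := coatom_cj hM y
  have hx' : y * x * y⁻¹ ∈ sigmaCore (cj y M) := by
    rw [sigmaCore_cj]; exact L.conj_mem_cj hx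
  have hx'1 : y * x * y⁻¹ ≠ 1 := fun h => hx1 (by simpa using h)
  rcases supportR_cases hG hM hx hx1 with ⟨h1, h2⟩ | ⟨h1, N, h2, h3⟩
  · rw [h2, L.cj_bot, supportR_bot]
    rw [← cj_cent]; exact L.cj_mono h1
  · have hc : ¬ centralizer ({y * x * y⁻¹} : Set G) ≤ cj y M := by
      rw [← cj_cent]
      intro h
      exact h1 (L.cj_le_cj.1 h)
    obtain ⟨N', hN'⟩ := thm_14_4 hG hM' hx' hx'1 hc
    have : cj y N = N' := hN'.uniq.2 _ (coatom_cj h2.coatom y)
      (by rw [← cj_cent]; exact L.cj_mono h2.uniq.1)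
    rw [supportR_eq hG hN' hc, h3, ← this, sigmaCore_cj, L.cj_inf, cj_cent]

/-- `M̃` in terms of all conjugates of `M` -/
theorem mem_tilde_iff {M : Subgroup G} (hM : IsCoatom M) {z : G} :
    z ∈ tildeOf M ((sigmaCore M : Set G) \ {1}) ↔
      ∃ g : G, ∃ x ∈ sigmaCore (cj g M), x ≠ 1 ∧ ∃ r ∈ supportR (cj g M) x, z = x * r := by
  constructor
  · rintro ⟨a, ⟨ha, ha1⟩, r, hr, y, rfl⟩
    have ha1' : a ≠ 1 := ha1
    refine ⟨y, y * a * y⁻¹, ?_, fun h => ha1' (by simpa using h), y * r * y⁻¹, ?_, by group⟩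
    · rw [sigmaCore_cj]; exact L.conj_mem_cj ha
    · rw [supportR_cj hG hM ha ha1']; exact L.conj_mem_cj hr
  · rintro ⟨g, x, hx, hx1, r, hr, rfl⟩
    rw [sigmaCore_cj] at hx
    obtain ⟨a, ha, rfl⟩ := mem_of_cj hx
    have ha1 : a ≠ 1 := by rintro rfl; exact hx1 (by group)
    rw [supportR_cj hG hM ha ha1] at hr
    obtain ⟨s, hs, rfl⟩ := mem_of_cj hr
    exact ⟨a, ⟨ha, ha1⟩, s, hs, g, by group⟩

theorem mem_ms_cj {M : Subgroup G} (hM : IsCoatom M) {x g h : G} (hx : x ∈ cj g (sigmaCore M))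
    (hxh : x ∈ cj h M) : x ∈ cj h (sigmaCore M) := by
  rw [← sigmaCore_cj] at hx ⊢
  apply mem_ms hG (coatom_cj hM h) hxh
  have := ms_pi hG (coatom_cj hM g) hx
  rwa [sigma_cj] at this ⊢

/-- S1377 -/
theorem card_tilde {M : Subgroup G} (hM : IsCoatom M) :
    Set.ncard (tildeOf M ((sigmaCore M : Set G) \ {1})) =
      (Nat.card (sigmaCore M) - 1) * M.index := by
  classical
  let _ : Fintype (G ⧸ M) := Fintype.ofFinite _
  -- the base point
  have hbase : ∀ x : {x : G // x ≠ 1 ∧ ∃ g : G, x ∈ cj g (sigmaCore M)},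
      ∃ g : G, (x : G) ∈ cj g (sigmaCore M) := fun x => x.2.2
  choose b hb using hbase
  let P := Σ c : G ⧸ M, {x : G // x ≠ 1 ∧ x ∈ cj c.out (sigmaCore M)}
  let X : P → {x : G // x ≠ 1 ∧ ∃ g : G, x ∈ cj g (sigmaCore M)} :=
    fun q => ⟨q.2.1, q.2.2.1, _, q.2.2.2⟩
  have hx : ∀ x : {x : G // x ≠ 1 ∧ ∃ g : G, x ∈ cj g (sigmaCore M)},
      (x : G) ∈ sigmaCore (cj (b x) M) := fun x => by rw [sigmaCore_cj]; exact hb x
  have hex : ∀ q : P, ∃ r : G, r ∈ supportR (cj (b (X q)) M) (X q : G) ∧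
      cj r (cj (b (X q)) M) = cj q.1.out M := by
    intro q
    have hq : ((X q : {x : G // x ≠ 1 ∧ ∃ g : G, x ∈ cj g (sigmaCore M)}) : G) ∈
        cj (q.1.out * (b (X q))⁻¹) (cj (b (X q)) M) := by
      rw [L.cj_cj, inv_mul_cancel_right]
      exact L.cj_mono (ms_le M) q.2.2.2
    obtain ⟨r, ⟨h1, h2⟩, -⟩ := sharp hG (coatom_cj hM _) (hx (X q)) q.2.2.1 hq
    refine ⟨r, h1, ?_⟩
    rw [h2, L.cj_cj, inv_mul_cancel_right]
  choose r hr hr' using hex
  let f : P → tildeOf M ((sigmaCore M : Set G) \ {1}) := fun q =>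
    ⟨(X q : G) * r q, by
      rw [mem_tilde_iff hG hM]
      exact ⟨b (X q), _, hx _, q.2.2.1, r q, hr q, rfl⟩⟩
  have hf : Function.Bijective f := by
    constructor
    · intro q q' h
      have h1 : (X q : G) * r q = (X q' : G) * r q' := congrArg Subtype.val h
      have h2 : (X q : G) = (X q' : G) := by
        by_contra hne
        exact cosets_disjoint hG (coatom_cj hM _) (coatom_cj hM _) (hx (X q)) (hx (X q')) q.2.2.1
          q'.2.2.1 hne (hr q) (hr q') h1
      have h3 : X q = X q' := Subtype.ext h2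
      have h4 : r q = r q' := by rw [h2] at h1; exact mul_left_cancel h1
      have h5 : cj q.1.out M = cj q'.1.out M := by
        rw [← hr' q, ← hr' q', h3, h4]
      have h6 := cj_cancel hG hM h5
      have h7 : q.1 = q'.1 := by
        have := (QuotientGroup.eq (s := M)).2 h6
        rw [← QuotientGroup.out_eq' q.1, ← QuotientGroup.out_eq' q'.1]
        exact this.symm
      obtain ⟨c, x, hx1⟩ := q
      obtain ⟨c', x', hx1'⟩ := q'
      have h7' : c = c' := h7
      subst h7'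
      have h2' : x = x' := h2
      subst h2'
      rfl
    · rintro ⟨z, hz⟩
      have hz' := hz
      rw [mem_tilde_iff hG hM] at hz'
      obtain ⟨g, x, hxg, hx1, s, hs, e⟩ := hz'
      have hxg' : x ∈ cj g (sigmaCore M) := by rwa [← sigmaCore_cj]
      set x₀ : {x : G // x ≠ 1 ∧ ∃ g : G, x ∈ cj g (sigmaCore M)} := ⟨x, hx1, g, hxg'⟩ with hx₀
      have hs' : s ∈ supportR (cj (b x₀) M) x := by
        rw [← supportR_indep hG (coatom_cj hM (b x₀)) (hx x₀) hx1 (M' := cj g M)
          (g := g * (b x₀)⁻¹) (by rw [L.cj_cj, inv_mul_cancel_right]) hxg]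
        exact hs
      have hsx : s * x = x * s := by
        rcases supportR_cases hG (coatom_cj hM (b x₀)) (hx x₀) hx1 with ⟨h1, h2⟩ | ⟨h1, N, h2, h3⟩
        · have : s = 1 := by
            have hs'' := hs'
            rw [show x = (x₀ : G) from rfl, h2, Subgroup.mem_bot] at hs''
            exact hs''
          rw [this]; simp
        · rw [show x = (x₀ : G) from rfl, h3] at hs'
          exact mem_cent_singleton.1 hs'.2
      -- the coset
      set c : G ⧸ M := QuotientGroup.mk (s * b x₀) with hc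
      obtain ⟨m, hm⟩ := QuotientGroup.mk_out_eq_mul M (s * b x₀)
      have hcout : ∀ H : Subgroup G, M ≤ nz H → cj c.out H = cj s (cj (b x₀) H) := by
        intro H hH
        rw [hc, hm, L.cj_cj, ← L.cj_cj (s * b x₀), L.mem_nz_iff.1 (hH m.2)]
      have hxs : x ∈ cj s (cj (b x₀) (sigmaCore M)) := by
        rw [L.mem_cj]
        have : s⁻¹ * x * s = x := by
          rw [mul_assoc, ← hsx, inv_mul_cancel_left]
        rw [this]; exact hb x₀
      have hxc : x ∈ cj c.out (sigmaCore M) := by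
        rw [hcout _ (le_nz_ms M)]; exact hxs
      let q : P := ⟨c, x, hx1, hxc⟩
      refine ⟨q, Subtype.ext ?_⟩
      show x * r q = z
      have hXq : X q = x₀ := rfl
      have h1 := hr q
      have h2 := hr' q
      rw [hXq] at h1 h2
      have h3 : cj c.out M = cj s (cj (b x₀) M) := hcout _ (L.le_nz M)
      have hmem : x ∈ cj s (cj (b x₀) M) := L.cj_mono (L.cj_mono (ms_le M)) hxs
      obtain ⟨w, -, hw⟩ := sharp hG (coatom_cj hM (b x₀)) (hx x₀) hx1 hmem
      have h4 : r q = w := hw _ ⟨h1, by rw [h2, ← h3]⟩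
      have h5 : s = w := hw _ ⟨hs', rfl⟩
      rw [h4, ← h5, e]
  rw [← Nat.card_coe_set_eq, ← Nat.card_congr (Equiv.ofBijective f hf), Nat.card_sigma]
  have hcount : ∀ c : G ⧸ M, Nat.card {x : G // x ≠ 1 ∧ x ∈ cj c.out (sigmaCore M)} =
      Nat.card (sigmaCore M) - 1 := by
    intro c
    have h1 : Nat.card {x : G // x ≠ 1 ∧ x ∈ cj c.out (sigmaCore M)} =
        Set.ncard ((cj c.out (sigmaCore M) : Set G) \ {1}) := by
      rw [← Nat.card_coe_set_eq]
      apply Nat.card_congr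
      exact Equiv.subtypeEquivRight (fun x => by
        rw [Set.mem_sdiff, Set.mem_singleton_iff]; exact And.comm)
    rw [h1, Set.ncard_sdiff_singleton_of_mem (Subgroup.one_mem _)]
    congr 1
    rw [← L.card_cj c.out (sigmaCore M)]
    exact Nat.card_coe_set_eq _
  rw [Finset.sum_congr rfl (fun c _ => hcount c), Finset.sum_const, smul_eq_mul, mul_comm]
  congr 1
  rw [Finset.card_univ, ← Nat.card_eq_fintype_card]
  rfl

end Cfsg.Agent.H21
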