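import Cfsg.Agent.H21.OT14h
import Cfsg.Agent.OOT.TenF

set_option autoImplicit false

/-! Theorem 14.7 of Bender-Glauberman, first part: the pairs `(M, K)`. -/

namespace Cfsg.Agent.H21

open Subgroup
open Cfsg.Agent.L (cj nz SylIn)
open Cfsg.Agent.H14 (IsPiSub)
open Cfsg.Agent.OOT
open scoped Pointwise

universe u
variable {G : Type u} [Group G]

/-- `M ∈ M_P` with a Hall `κ(M)`-subgroup `K` -/
structure PM (M K : Subgroup G) : Prop where
  coatom : IsCoatom M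
  hall : IsPiHallOf (kappa M) K M
  ne : K ≠ ⊥

/-- `Z = K K*` -/
abbrev Zof (M K : Subgroup G) : Subgroup G := K ⊔ Kst M K

variable [Finite G] (hG : IsMinSimpleOddOrder G)
include hG

section PMsec
variable {M K : Subgroup G} (h : PM M K)
include h

omit hG [Finite G] in
theorem PM.K_le : K ≤ M := h.hall.1

theorem PM.cent_eq {k : G} (hk : k ∈ K) (hk1 : k ≠ 1) :
    sigmaCore M ⊓ centralizer ({k} : Set G) = Kst M K :=
  (BB.S1430 hG M h.coatom K h.hall h.ne).1 k hk hk1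

theorem PM.inf_nz {X : Subgroup G} (hX : X ≤ K) (hXp : (Nat.card X).Prime) :
    M ⊓ nz X = Zof M K :=
  ((BB.S1430 hG M h.coatom K h.hall h.ne).2.2 X hX hXp).1

theorem PM.le_ms_of_nz {X : Subgroup G} (hX : X ≤ K) (hXp : (Nat.card X).Prime) {L : Subgroup G}
    (hL : IsCoatom L) (hle : nz X ≤ L) : X ≤ sigmaCore L :=
  ((BB.S1430 hG M h.coatom K h.hall h.ne).2.2 X hX hXp).2.2 L hL hle

theorem PM.kst_mem {y g : G} (hy : y ∈ Kst M K) (hy1 : y ≠ 1) (hg : y ∈ cj g M) : g ∈ M := by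
  by_contra hgM
  have := (BB.S1431 hG M h.coatom K h.hall h.ne).1 g hgM
  have h2 : y ∈ (sigmaCore M ⊓ centralizer (K : Set G)) ⊓ cj g M := ⟨hy, hg⟩
  change y ∈ (sigmaCore M ⊓ centralizer (K : Set G)) ⊓ M.map (MulAut.conj g).toMonoidHom at h2
  rw [this, Subgroup.mem_bot] at h2
  exact hy1 h2

theorem PM.conj_K {g : G} (hg : g ∈ M) {k : G} (hk : k ∈ K) (hk1 : k ≠ 1) (hk' : k ∈ cj g K) :
    g ∈ Zof M K := by
  by_contra hgZ
  have := (BB.S1431 hG M h.coatom K h.hall h.ne).2.1 g hg hgZ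
  have h2 : k ∈ K ⊓ K.map (MulAut.conj g).toMonoidHom := ⟨hk, hk'⟩
  rw [this, Subgroup.mem_bot] at h2
  exact hk1 h2

theorem PM.kst_ne : Kst M K ≠ ⊥ := by
  have hK1 : Nat.card K ≠ 1 := fun h' => h.ne (Subgroup.card_eq_one.1 h')
  obtain ⟨p, hp, hd⟩ := Nat.exists_prime_and_dvd hK1
  have hpF : Fact p.Prime := ⟨hp⟩
  have hpk := h.hall.2.1 p hp hd
  obtain ⟨P, hP⟩ := L.exists_sylIn (p := p) K
  have hPM : SylIn p P M := by
    refine ⟨hP.le.trans h.hall.1, hP.isPGroup, ?_⟩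
    rw [← Subgroup.relIndex_mul_relIndex _ _ _ hP.le h.hall.1]
    intro hd
    rcases hp.dvd_mul.1 hd with hd | hd
    · exact hP.3 hd
    · exact h.hall.2.2 p hp hpk hd
  have h1 := (mem_kappa_iff.1 hpk).2.2.2 P hPM
  obtain ⟨x, hx, hx1, y, hy, hy1, hxy⟩ := h1.2
  intro hb
  have := h.cent_eq hG (hP.le hx) hx1
  rw [hb] at this
  have h2 : y ∈ sigmaCore M ⊓ centralizer ({x} : Set G) := ⟨hy, mem_cent_singleton.2 hxy.symm⟩
  rw [this, Subgroup.mem_bot] at h2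
  exact hy1 h2

omit hG [Finite G] h in
theorem kst_comm {k y : G} (hk : k ∈ K) (hy : y ∈ Kst M K) : k * y = y * k :=
  (mem_cent_iff.1 (kst_le_cent M K hy) k hk).symm

omit hG [Finite G] h in
theorem kst_le_nz : Kst M K ≤ nz K := (kst_le_cent M K).trans (cent_le_nz K)

omit hG [Finite G] h in
theorem mem_Z {z : G} : z ∈ Zof M K ↔ ∃ k ∈ K, ∃ y ∈ Kst M K, k * y = z :=
  H1.mem_sup_iff_of_le_normalizer kst_le_nz

omit [Finite G] hG in
theorem PM.Z_le : Zof M K ≤ M := sup_le h.hall.1 (kst_le M K)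

omit [Finite G] hG in
theorem PM.K_pi {k : G} [Finite G] (hk : k ∈ K) : PiElt {p | p ∉ sigma M} k :=
  (piElt_of_mem h.hall.2.1 hk).mono fun _ hp => kappa_not_sigma hp

theorem PM.kst_pi {y : G} (hy : y ∈ Kst M K) : PiElt (sigma M) y :=
  ms_pi hG h.coatom (kst_le_ms M K hy)

theorem PM.mem_kst {z : G} (hz : z ∈ Zof M K) (hzs : PiElt (sigma M) z) : z ∈ Kst M K := by
  obtain ⟨k, hk, y, hy, e⟩ := mem_Z.1 hz
  have := (piPart_unique (π := sigma M) (a := y) (b := k) (c := z) (d := 1)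
    (by rw [mul_one, ← e]; exact (kst_comm hk hy).symm) (kst_comm hk hy).symm (by simp)
    (h.kst_pi hG hy) (h.K_pi hk) hzs (piElt_one _)).1
  rwa [← this]

theorem PM.mem_K {z : G} (hz : z ∈ Zof M K) (hzs : PiElt {p | p ∉ sigma M} z) : z ∈ K := by
  obtain ⟨k, hk, y, hy, e⟩ := mem_Z.1 hz
  have := (piPart_unique (π := sigma M) (a := y) (b := k) (c := 1) (d := z)
    (by rw [one_mul, ← e]; exact (kst_comm hk hy).symm) (kst_comm hk hy).symm (by simp)
    (h.kst_pi hG hy) (h.K_pi hk) (piElt_one _) hzs).2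
  rwa [← this]

theorem PM.K_inf_kst : K ⊓ Kst M K = ⊥ := by
  rw [eq_bot_iff, ← K_inf_ms hG h.coatom h.hall]
  exact inf_le_inf_left _ (kst_le_ms M K)

theorem PM.card_Z : Nat.card (Zof M K) = Nat.card K * Nat.card (Kst M K) :=
  card_sup_of_le_nz kst_le_nz (h.K_inf_kst hG)

omit [Finite G] hG h in
theorem Z_le_nz_K : Zof M K ≤ nz K := sup_le (L.le_nz K) kst_le_nz

omit [Finite G] hG h in
theorem Z_le_nz_kst : Zof M K ≤ nz (Kst M K) :=
  sup_le ((le_cent_comm.1 (kst_le_cent M K)).trans (cent_le_nz _)) (L.le_nz _)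

theorem PM.cent_kst_le {y : G} (hy : y ∈ Kst M K) (hy1 : y ≠ 1) :
    centralizer ({y} : Set G) ≤ M := by
  intro g hg
  apply h.kst_mem hG hy hy1
  rw [L.mem_cj]
  have : g⁻¹ * y * g = y := by
    rw [mul_assoc, ← mem_cent_singleton.1 hg, inv_mul_cancel_left]
  rw [this]; exact kst_le M K hy

theorem PM.nz_kst_le {Y : Subgroup G} (hY : Y ≤ Kst M K) (hY1 : Y ≠ ⊥) : nz Y ≤ M := by
  intro g hg
  obtain ⟨y, hy, hy1⟩ := exists_ne_one hY1
  apply h.kst_mem hG (hY hy) hy1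
  rw [← L.mem_nz_iff.1 hg] at hy
  exact L.cj_mono (hY.trans (kst_le M K)) hy

end PMsec

/-- first step of 14.7 -/
theorem PM.link {M K : Subgroup G} (h : PM M K) {X : Subgroup G} (hX : X ≤ K)
    (hXp : (Nat.card X).Prime) {M₁ : Subgroup G} (hM₁ : IsCoatom M₁) (hXM₁ : nz X ≤ M₁) :
    (∀ g : G, M₁ ≠ cj g M) ∧ Kst M K ≤ M₁ ∧ IsPiSub (kappa M₁) (Kst M K) := by
  set p := Nat.card X with hp
  have hpF : Fact p.Prime := ⟨hXp⟩
  have hXs := h.le_ms_of_nz hG hX hXp hM₁ hXM₁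
  have hpM₁ : p ∈ sigma M₁ := (ms_hall hG hM₁).2.1 p hXp (card_dvd_of_le hXs)
  have hpM : p ∉ sigma M := kappa_not_sigma (h.hall.2.1 p hXp (card_dvd_of_le hX))
  have hnc : ∀ g : G, M₁ ≠ cj g M := by
    rintro g rfl
    rw [sigma_cj] at hpM₁
    exact hpM hpM₁
  have hle : Kst M K ≤ M₁ :=
    (le_cent_comm.1 ((centralizer_le hX).trans' (kst_le_cent M K) |> le_cent_comm.1) |>.trans
      (cent_le_nz X)).trans hXM₁
  refine ⟨hnc, hle, ?_⟩
  have hX1 : X ≠ ⊥ := by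
    rintro rfl
    rw [Subgroup.card_bot] at hp
    exact hXp.one_lt.ne' hp
  obtain ⟨x, hx, hx1⟩ := exists_ne_one hX1
  -- every element of `K*` is a `κ(M₁)`-element
  have key : ∀ y ∈ Kst M K, PiElt (kappa M₁) y := by
    intro y hy
    by_cases hy1 : y = 1
    · rw [hy1]; exact piElt_one _
    have hys : PiElt {p | p ∉ sigma M₁} y := piElt_sigma_disj hG h.coatom hM₁ hnc (h.kst_pi hG hy)
    rcases cor_14_3 hG hM₁ (hXs hx) hx1 (hle hy) (kst_comm (hX hx) hy).symm hy1 hys with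
      ⟨h1, -⟩ | ⟨-, -, h3⟩
    · exact h1
    · exfalso
      have := h3.2 M h.coatom (h.cent_kst_le hG hy hy1)
      exact hnc 1 (by rw [L.cj_one]; exact this.symm)
  intro q hq hd
  have hqF : Fact q.Prime := ⟨hq⟩
  obtain ⟨y, hy⟩ := exists_prime_orderOf_dvd_card' (G := Kst M K) q hd
  apply key y y.2 q hq
  rw [Subgroup.orderOf_coe, hy]

end Cfsg.Agent.H21
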