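import Cfsg.Agent.H21.OT14i

set_option autoImplicit false

/-! Theorem 14.7 of Bender-Glauberman, second part: linked pairs. -/

namespace Cfsg.Agent.H21

open Subgroup
open Cfsg.Agent.L (cj nz SylIn)
open Cfsg.Agent.H14 (IsPiSub)
open Cfsg.Agent.OOT
open scoped Pointwise

universe u
variable {G : Type u} [Group G]

variable [Finite G] (hG : IsMinSimpleOddOrder G)
include hG

omit [Finite G] hG in
theorem exists_prime_sub {K : Subgroup G} [Finite G] (h : K ≠ ⊥) : ∃ X ≤ K, (Nat.card X).Prime := by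
  obtain ⟨p, hp, hd⟩ := Nat.exists_prime_and_dvd (fun h' => h (Subgroup.card_eq_one.1 h'))
  have hpF : Fact p.Prime := ⟨hp⟩
  obtain ⟨y, hy⟩ := exists_prime_orderOf_dvd_card' (G := K) p hd
  refine ⟨zpowers (y : G), by rw [zpowers_le]; exact y.2, ?_⟩
  rw [Nat.card_zpowers, Subgroup.orderOf_coe, hy]; exact hp

omit [Finite G] hG in
theorem exists_prime_sub' {K : Subgroup G} [Finite G] {p : ℕ} (hp : p.Prime) (hd : p ∣ Nat.card K) :
    ∃ X ≤ K, Nat.card X = p := by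
  have hpF : Fact p.Prime := ⟨hp⟩
  obtain ⟨y, hy⟩ := exists_prime_orderOf_dvd_card' (G := K) p hd
  refine ⟨zpowers (y : G), by rw [zpowers_le]; exact y.2, ?_⟩
  rw [Nat.card_zpowers, Subgroup.orderOf_coe, hy]

omit [Finite G] hG in
theorem ne_bot_of_card_prime {X : Subgroup G} (h : (Nat.card X).Prime) : X ≠ ⊥ := by
  rintro rfl
  rw [Subgroup.card_bot] at h
  exact Nat.not_prime_one h

omit [Finite G] hG in
theorem zpowers_eq_of_card_prime {X : Subgroup G} [Finite G] (h : (Nat.card X).Prime) {x : G}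
    (hx : x ∈ X) (hx1 : x ≠ 1) : zpowers x = X := by
  have hle : zpowers x ≤ X := by rwa [zpowers_le]
  apply Subgroup.eq_of_le_of_card_ge hle
  have hd := Subgroup.card_dvd_of_le hle
  rcases (Nat.dvd_prime h).1 hd with h1 | h1
  · exfalso
    rw [Nat.card_zpowers] at h1
    exact hx1 (orderOf_eq_one_iff.1 h1)
  · exact h1.ge

/-- `M₁` is linked to `(M, K)`: `Z` is also `K₁ K₁*`, etc. -/
theorem PM.link2 {M K : Subgroup G} (h : PM M K) {X : Subgroup G} (hX : X ≤ K)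
    (hXp : (Nat.card X).Prime) :
    ∃ M₁ K₁ : Subgroup G, PM M₁ K₁ ∧ nz X ≤ M₁ ∧ X ≤ Kst M₁ K₁ ∧ Kst M K ≤ K₁ ∧ Kst M₁ K₁ ≤ K ∧
      Zof M₁ K₁ = Zof M K ∧ (∀ g : G, M₁ ≠ cj g M) := by
  have hX1 : X ≠ ⊥ := ne_bot_of_card_prime hXp
  have hXt : X ≠ ⊤ := fun ht => h.coatom.1 (top_le_iff.1 (ht ▸ hX.trans h.hall.1))
  obtain ⟨M₁, hM₁, hXM₁⟩ := exists_coatom_of_nz hG hX1 hXt
  obtain ⟨hnc, hle, hk⟩ := h.link hG hX hXp hM₁ hXM₁
  obtain ⟨K₁, hK₁, hleK₁⟩ := exists_hallOf_ge (coatom_sol hG hM₁) hle hk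
  have hK₁1 : K₁ ≠ ⊥ := fun hb => h.kst_ne hG (le_bot_iff.1 (hb ▸ hleK₁))
  have h₁ : PM M₁ K₁ := ⟨hM₁, hK₁, hK₁1⟩
  have hXs := h.le_ms_of_nz hG hX hXp hM₁ hXM₁
  obtain ⟨y, hy, hy1⟩ := exists_ne_one (h.kst_ne hG)
  -- `X ≤ K₁*`
  have hXK₁ : X ≤ Kst M₁ K₁ := by
    rw [← h₁.cent_eq hG (hleK₁ hy) hy1]
    intro x hx
    exact ⟨hXs hx, mem_cent_singleton.2 (kst_comm (hX hx) hy)⟩
  obtain ⟨x, hx, hx1⟩ := exists_ne_one hX1
  -- `K₁* ≤ M`
  have hK₁M : Kst M₁ K₁ ≤ M := by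
    intro z hz
    exact h.cent_kst_le hG hy hy1 (mem_cent_singleton.2 (kst_comm (hleK₁ hy) hz).symm)
  -- `K₁*` consists of `κ(M)`-elements
  have key : ∀ z ∈ Kst M₁ K₁, PiElt (kappa M) z := by
    intro z hz
    by_cases hz1 : z = 1
    · rw [hz1]; exact piElt_one _
    have hzs : PiElt {p | p ∉ sigma M} z :=
      piElt_sigma_disj hG hM₁ h.coatom (not_conj_symm hnc) (h₁.kst_pi hG hz)
    rcases cor_14_3 hG h.coatom (kst_le_ms M K hy) hy1 (hK₁M hz)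
      (kst_comm (hleK₁ hy) hz).symm hz1 hzs with ⟨h1, -⟩ | ⟨-, -, h3⟩
    · exact h1
    · exfalso
      have := h3.2 M₁ hM₁ (h₁.cent_kst_le hG hz hz1)
      exact hnc 1 (by rw [L.cj_one]; exact this)
  have hK₁k : IsPiSub (kappa M) (Kst M₁ K₁) := by
    intro q hq hd
    have hqF : Fact q.Prime := ⟨hq⟩
    obtain ⟨z, hz⟩ := exists_prime_orderOf_dvd_card' (G := Kst M₁ K₁) q hd
    apply key z z.2 q hq
    rw [Subgroup.orderOf_coe, hz]
  -- `K₁* ≤ K`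
  have hK₁K : Kst M₁ K₁ ≤ K := by
    obtain ⟨m, hm, hle'⟩ := OOT.IsPiHallOf.exists_conj_le (coatom_sol hG h.coatom) h.hall hK₁M hK₁k
    have hx' : m * x * m⁻¹ ∈ K := hle' (L.conj_mem_cj (hXK₁ hx))
    have hx'' : m * x * m⁻¹ ∈ cj m K := L.conj_mem_cj (hX hx)
    have hmZ := h.conj_K hG hm hx' (fun e => hx1 (by simpa using e)) hx''
    have : cj m K = K := L.mem_nz_iff.1 (Z_le_nz_K hmZ)
    rw [← this] at hle'
    exact L.cj_le_cj.1 hle'
  refine ⟨M₁, K₁, h₁, hXM₁, hXK₁, hleK₁, hK₁K, ?_, hnc⟩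
  obtain ⟨Y, hY, hYp⟩ := exists_prime_sub (h.kst_ne hG)
  have hZ₁ := h₁.inf_nz hG (hY.trans hleK₁) hYp
  have hZ := h.inf_nz hG hX hXp
  apply le_antisymm
  · refine sup_le ?_ (hK₁K.trans le_sup_left)
    rw [← hZ]
    refine le_inf ?_ ?_
    · -- `K₁ ≤ M`
      have : K₁ ≤ nz Y := (le_sup_left.trans hZ₁.ge).trans inf_le_right
      exact this.trans (h.nz_kst_le hG hY (ne_bot_of_card_prime hYp))
    · exact ((le_cent_comm.1 (kst_le_cent M₁ K₁)).trans (centralizer_le hXK₁)).trans (cent_le_nz X)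
  · refine sup_le ?_ (hleK₁.trans le_sup_left)
    rw [← hZ₁]
    refine le_inf ?_ ?_
    · exact (le_sup_left.trans hZ.ge).trans (inf_le_right.trans hXM₁)
    · exact ((le_cent_comm.1 (kst_le_cent M K)).trans (centralizer_le hY)).trans (cent_le_nz Y)

/-- two pairs with the same `Z` and conjugate maximal subgroups are equal -/
theorem PM.eq_of_conj {M K M' K' : Subgroup G} (h : PM M K) (h' : PM M' K')
    (hZ : Zof M' K' = Zof M K) (hc : ∃ g : G, M' = cj g M) : M' = M ∧ K' = K := by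
  obtain ⟨g, hg⟩ := hc
  have hs : sigma M' = sigma M := sigma_eq_of_conj hG ⟨g, hg⟩
  obtain ⟨y, hy, hy1⟩ := exists_ne_one (h.kst_ne hG)
  have hy' : y ∈ Kst M' K' :=
    h'.mem_kst hG (by rw [hZ]; exact Subgroup.mem_sup_right hy)
      (by rw [hs]; exact h.kst_pi hG hy)
  have h1 : g ∈ M := h.kst_mem hG hy hy1 (by rw [← hg]; exact kst_le M' K' hy')
  have h2 : M' = M := by rw [hg, L.cj_eq_self_of_mem h1]
  refine ⟨h2, ?_⟩
  apply le_antisymm
  · intro k hk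
    exact h.mem_K hG (by rw [← hZ]; exact Subgroup.mem_sup_left hk)
      (by rw [← hs]; exact h'.K_pi hk)
  · intro k hk
    exact h'.mem_K hG (by rw [hZ]; exact Subgroup.mem_sup_left hk)
      (by rw [hs]; exact h.K_pi hk)

/-- every prime divisor of `|Z|` is in `σ(M')` for a pair `(M', K')` with the same `Z`. -/
theorem PM.exists_pair {M K : Subgroup G} (h : PM M K) {p : ℕ} (hp : p.Prime)
    (hd : p ∣ Nat.card (Zof M K)) :
    ∃ M' K' : Subgroup G, PM M' K' ∧ Zof M' K' = Zof M K ∧ p ∈ sigma M' := by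
  rw [h.card_Z hG] at hd
  rcases hp.dvd_mul.1 hd with hd | hd
  · obtain ⟨X, hX, hXp⟩ := exists_prime_sub' hp hd
    obtain ⟨M₁, K₁, h₁, -, hX₁, -, -, hZ, -⟩ := h.link2 hG hX (by rw [hXp]; exact hp)
    refine ⟨M₁, K₁, h₁, hZ, ?_⟩
    have : p ∣ Nat.card (sigmaCore M₁) := by
      rw [← hXp]; exact card_dvd_of_le (hX₁.trans (kst_le_ms _ _))
    exact (ms_hall hG h₁.coatom).2.1 p hp this
  · exact ⟨M, K, h, rfl, (ms_hall hG h.coatom).2.1 p hp (hd.trans (card_dvd_of_le (kst_le_ms _ _)))⟩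

/-- every non-trivial element of `Z` is in some `K_i*` or a product -/
theorem PM.split {M K : Subgroup G} (h : PM M K) {z : G} (hz : z ∈ Zof M K) (hz1 : z ≠ 1) :
    ∃ M' K' : Subgroup G, PM M' K' ∧ Zof M' K' = Zof M K ∧ ∃ k ∈ K', ∃ y ∈ Kst M' K', y ≠ 1 ∧
      k * y = z := by
  obtain ⟨p, hp, hd⟩ := Nat.exists_prime_and_dvd (n := orderOf z)
    (fun e => hz1 (orderOf_eq_one_iff.1 e))
  have hd' : p ∣ Nat.card (Zof M K) := by
    refine hd.trans ?_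
    rw [← Nat.card_zpowers]
    exact card_dvd_of_le (by rwa [zpowers_le])
  obtain ⟨M', K', h', hZ, hpM'⟩ := h.exists_pair hG hp hd'
  refine ⟨M', K', h', hZ, ?_⟩
  rw [← hZ] at hz
  obtain ⟨k, hk, y, hy, e⟩ := mem_Z.1 hz
  refine ⟨k, hk, y, hy, ?_, e⟩
  rintro rfl
  rw [mul_one] at e
  subst e
  exact h'.K_pi hk p hp hd hpM'

/-- the elements `k y`, `k ∈ K^#`, `y ∈ K*^#`: control of conjugation -/
theorem PM.hat_conj {M K : Subgroup G} (h : PM M K) {k y g : G} (hk : k ∈ K) (hk1 : k ≠ 1)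
    (hy : y ∈ Kst M K) (hy1 : y ≠ 1) (hg : g * (k * y) * g⁻¹ ∈ Zof M K) : g ∈ Zof M K := by
  obtain ⟨k', hk', y', hy', e⟩ := mem_Z.1 hg
  have h1 : (g * y * g⁻¹) * (g * k * g⁻¹) = y' * k' := by
    rw [← kst_comm hk' hy', e, kst_comm hk hy]; group
  have h2 : (g * y * g⁻¹) * (g * k * g⁻¹) = (g * k * g⁻¹) * (g * y * g⁻¹) := by
    have := kst_comm hk hy
    calc (g * y * g⁻¹) * (g * k * g⁻¹) = g * (y * k) * g⁻¹ := by group
      _ = g * (k * y) * g⁻¹ := by rw [this]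
      _ = _ := by group
  obtain ⟨e1, e2⟩ := piPart_unique (π := sigma M) h1 h2 (kst_comm hk' hy').symm
    (piElt_conj.2 (h.kst_pi hG hy)) (piElt_conj.2 (h.K_pi hk)) (h.kst_pi hG hy') (h.K_pi hk')
  have hy'1 : y' ≠ 1 := by
    rintro rfl
    exact hy1 (by simpa using e1)
  have hgM : g ∈ M := by
    apply h.kst_mem hG hy' hy'1
    rw [← e1]; exact L.conj_mem_cj (kst_le M K hy)
  have hk'1 : k' ≠ 1 := by
    rintro rfl
    exact hk1 (by simpa using e2)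
  apply h.conj_K hG hgM hk' hk'1
  rw [← e2]; exact L.conj_mem_cj hk

end Cfsg.Agent.H21
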