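import Cfsg.Agent.L.SylIn

set_option autoImplicit false

/-! Counting the conjugates of a TI set. -/

namespace Cfsg.Agent.H21

open Subgroup

universe u
variable {G : Type u} [Group G]

/-- the set of conjugates of elements of `T` -/
def conjSet (T : Set G) : Set G := {a | ∃ g : G, ∃ z ∈ T, a = g * z * g⁻¹}

theorem card_conjSet [Finite G] (T : Set G) (Z : Subgroup G)
    (h1 : ∀ g : G, ∀ z ∈ T, g * z * g⁻¹ ∈ T → g ∈ Z)
    (h2 : ∀ g ∈ Z, ∀ z ∈ T, g * z * g⁻¹ ∈ T) :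
    (conjSet T).ncard = T.ncard * Z.index := by
  classical
  let f : T × (G ⧸ Z) → conjSet T := fun q =>
    ⟨q.2.out * q.1 * (q.2.out)⁻¹, q.2.out, q.1, q.1.2, rfl⟩
  have hf : Function.Bijective f := by
    constructor
    · rintro ⟨⟨z, hz⟩, c⟩ ⟨⟨z', hz'⟩, c'⟩ h
      have h3 : c.out * z * (c.out)⁻¹ = c'.out * z' * (c'.out)⁻¹ := congrArg Subtype.val h
      have h4 : (c'.out⁻¹ * c.out) * z * (c'.out⁻¹ * c.out)⁻¹ = z' := by
        calc (c'.out⁻¹ * c.out) * z * (c'.out⁻¹ * c.out)⁻¹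
            = c'.out⁻¹ * (c.out * z * (c.out)⁻¹) * c'.out := by group
          _ = c'.out⁻¹ * (c'.out * z' * (c'.out)⁻¹) * c'.out := by rw [h3]
          _ = z' := by group
      have h5 : c'.out⁻¹ * c.out ∈ Z := h1 _ z hz (by rw [h4]; exact hz')
      have h6 : c = c' := by
        have := (QuotientGroup.eq (s := Z)).2 h5
        rw [← QuotientGroup.out_eq' c, ← QuotientGroup.out_eq' c']
        exact this.symm
      subst h6
      have h7 : z = z' := by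
        rw [← h4]; group
      subst h7
      rfl
    · rintro ⟨a, g, z, hz, rfl⟩
      obtain ⟨m, hm⟩ := QuotientGroup.mk_out_eq_mul Z g
      refine ⟨(⟨(m : G)⁻¹ * z * ((m : G)⁻¹)⁻¹, h2 _ (Z.inv_mem m.2) z hz⟩, QuotientGroup.mk g), ?_⟩
      apply Subtype.ext
      show (QuotientGroup.mk g : G ⧸ Z).out * ((m : G)⁻¹ * z * ((m : G)⁻¹)⁻¹) *
        ((QuotientGroup.mk g : G ⧸ Z).out)⁻¹ = g * z * g⁻¹
      rw [hm]
      group
  rw [← Nat.card_coe_set_eq, ← Nat.card_congr (Equiv.ofBijective f hf), Nat.card_prod,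
    Nat.card_coe_set_eq]
  rfl

theorem card_conjSet' [Finite G] (T : Set G) (Z : Subgroup G)
    (h1 : ∀ g : G, ∀ z ∈ T, g * z * g⁻¹ ∈ T → g ∈ Z)
    (h2 : ∀ g ∈ Z, ∀ z ∈ T, g * z * g⁻¹ ∈ T) :
    Nat.card Z * (conjSet T).ncard = T.ncard * Nat.card G := by
  rw [card_conjSet T Z h1 h2, ← Z.card_mul_index]
  ring

end Cfsg.Agent.H21
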