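import Cfsg.Agent.H21.OT14j
import Cfsg.Agent.H21.TIcount

set_option autoImplicit false

/-! Theorem 14.7 of Bender-Glauberman, third part: the case `M ∈ M_P2`. -/

namespace Cfsg.Agent.H21

open Subgroup
open Cfsg.Agent.L (cj nz SylIn)
open Cfsg.Agent.H14 (IsPiSub)
open Cfsg.Agent.OOT
open scoped Pointwise

universe u
variable {G : Type u} [Group G]

/-- `M ∈ M_P1` (or `M_F` with `M = M_σ`), i.e. `U = 1` -/
def IsP1 (M : Subgroup G) : Prop :=
  ∀ q : ℕ, q.Prime → q ∣ Nat.card M → q ∉ sigma M → q ∈ kappa M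

variable [Finite G] (hG : IsMinSimpleOddOrder G)
include hG

theorem exists_not_p1 {M : Subgroup G} (h : ¬ IsP1 M) :
    ∃ p : ℕ, p.Prime ∧ p ∣ Nat.card M ∧ p ∉ sigma M ∧ p ∉ kappa M := by
  unfold IsP1 at h
  push Not at h
  exact h

/-- S1429 in terms of a Hall `(κ ∪ σ)'`-subgroup `U` -/
theorem not_p1_facts {M : Subgroup G} (hM : IsCoatom M) (h : ¬ IsP1 M) {U : Subgroup G}
    (hU : IsPiHallOf {q | q.Prime ∧ q ∉ kappa M ∧ q ∉ sigma M} U M) :
    U ≠ ⊥ ∧ Group.IsNilpotent (sigmaCore M) ∧ sigmaCore M ⊓ centralizer (U : Set G) = ⊥ := by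
  obtain ⟨p, hp, hd, hs, hk⟩ := exists_not_p1 hG h
  have hpF : Fact p.Prime := ⟨hp⟩
  obtain ⟨P, hP⟩ := L.exists_sylIn (p := p) U
  have hndU : ¬ p ∣ U.relIndex M := hU.2.2 p hp ⟨hp, hk, hs⟩
  have hPM : SylIn p P M := by
    refine ⟨hP.le.trans hU.1, hP.isPGroup, ?_⟩
    rw [← Subgroup.relIndex_mul_relIndex _ _ _ hP.le hU.1]
    intro hd
    rcases hp.dvd_mul.1 hd with hd | hd
    · exact hP.3 hd
    · exact hndU hd
  obtain ⟨-, h2, h3⟩ := BB.S1429 hG M hM h p hd (fun hc => hc.elim hs hk) hPM.toSylow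
  rw [hPM.map_toSylow] at h2
  refine ⟨?_, h3, ?_⟩
  · rintro rfl
    rw [Subgroup.relIndex_bot_left] at hndU
    exact hndU hd
  · rw [eq_bot_iff, ← h2]
    refine inf_le_inf_left _ (centralizer_le ?_)
    show ((closure {x : G | x ∈ P ∧ x ^ p = 1} : Subgroup G) : Set G) ⊆ U
    exact (Subgroup.closure_le _).2 (fun x hx => hP.le hx.1)

section
variable {M K : Subgroup G} (h : PM M K)
include h

theorem PM.p2 (hP1 : ¬ IsP1 M) :
    (Nat.card K).Prime ∧ Group.IsNilpotent (sigmaCore M) ∧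
      Nat.card (sigmaCore M) = Nat.card (Kst M K) ^ Nat.card K := by
  obtain ⟨-, ⟨U, hUc, hU, hKU, hUK⟩, -⟩ := BB.S1430 hG M h.coatom K h.hall h.ne
  obtain ⟨hU1, hn, hc⟩ := not_p1_facts hG h.coatom hP1 hU
  have hUKle : U ⊔ K ≤ M := sup_le hU.1 h.hall.1
  have hUs : IsPiSub {p | p ∉ sigma M} U := fun q hq hd => (hU.2.1 q hq hd).2.2
  have hKs : IsPiSub {p | p ∉ sigma M} K := fun q hq hd => kappa_not_sigma (h.hall.2.1 q hq hd)
  have hdis : U ⊓ K = ⊥ := by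
    rw [inf_comm]
    exact inf_bot_of_pi h.hall.2.1 (fun q hq hd => (hU.2.1 q hq hd).2.1)
  have hUKs : IsPiSub {p | p ∉ sigma M} (U ⊔ K) := by
    intro q hq hd
    rw [card_sup_of_le_nz hKU hdis] at hd
    rcases hq.dvd_mul.1 hd with hd | hd
    · exact hUs q hq hd
    · exact hKs q hq hd
  obtain ⟨h1, h2, -⟩ := BB.S1446 U K (sigmaCore M) hU1 h.ne hdis hKU hUK
    (H1.isSolvable_of_le hUKle (coatom_sol hG h.coatom))
    (Odd.of_dvd_nat hG.1 (Subgroup.card_subgroup_dvd_card _))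
    (sigmaCore_ne_bot hG h.coatom) hn (hU.1.trans (le_nz_ms M)) (h.hall.1.trans (le_nz_ms M))
    (by
      refine Nat.coprime_of_dvd fun q hq h1 h2 => ?_
      exact hUKs q hq h1 ((ms_hall hG h.coatom).2.1 q hq h2))
    hc (fun x hx hx1 => h.cent_eq hG hx hx1)
  exact ⟨h1, hn, h2⟩

theorem PM.Z_ne : Zof M K ≠ M := by
  intro he
  obtain ⟨p, hp, hd⟩ := Nat.exists_prime_and_dvd
    (fun h' => h.kst_ne hG (Subgroup.card_eq_one.1 h'))
  have hpF : Fact p.Prime := ⟨hp⟩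
  obtain ⟨S⟩ : Nonempty (Sylow p (sigmaCore M)) := inferInstance
  apply ((BB.S1431 hG M h.coatom K h.hall h.ne).2.2.1 p hp hd S).2.2
  refine (Subgroup.map_subtype_le _).trans ?_
  intro z hz
  exact h.mem_kst hG (by rw [he]; exact ms_le M hz) (ms_pi hG h.coatom hz)

theorem PM.index_ge : 3 * Nat.card (Zof M K) ≤ Nat.card M := by
  have h1 := L.card_mul_relIndex h.Z_le
  have h2 : (Zof M K).relIndex M ≠ 1 := by
    intro h'
    exact h.Z_ne hG (le_antisymm h.Z_le (Subgroup.relIndex_eq_one.1 h'))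
  have h3 : Odd ((Zof M K).relIndex M) := by
    refine Odd.of_dvd_nat hG.1 (Dvd.dvd.trans ?_ (Subgroup.card_subgroup_dvd_card M))
    exact ⟨_, by rw [mul_comm]; exact h1.symm⟩
  have h4 : 3 ≤ (Zof M K).relIndex M := by
    obtain ⟨m, hm⟩ := h3
    omega
  calc 3 * Nat.card (Zof M K) ≤ (Zof M K).relIndex M * Nat.card (Zof M K) :=
        Nat.mul_le_mul_right _ h4
    _ = Nat.card M := by rw [mul_comm]; exact h1

end

end Cfsg.Agent.H21
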