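import Cfsg.Agent.H21.OT14k

set_option autoImplicit false

/-! Theorem 14.7 of Bender-Glauberman: the counting argument. -/

namespace Cfsg.Agent.H21

open Subgroup
open Cfsg.Agent.L (cj nz SylIn)
open Cfsg.Agent.H14 (IsPiSub)
open Cfsg.Agent.OOT
open scoped Pointwise

universe u
variable {G : Type u} [Group G]

variable [Finite G] (hG : IsMinSimpleOddOrder G)
include hG

/-- the set `M̃` -/
abbrev tl (M : Subgroup G) : Set G := tildeOf M ((sigmaCore M : Set G) \ {1})

theorem inTilde_of_mem {M : Subgroup G} (hM : IsCoatom M) {z : G} (hz : z ∈ tl M) : InTilde z := by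
  obtain ⟨g, x, hx, hx1, r, hr, e⟩ := (mem_tilde_iff hG hM).1 hz
  exact ⟨_, coatom_cj hM g, x, hx, hx1, r, hr, e⟩

theorem not_inTilde_one : ¬ InTilde (1 : G) := by
  rintro ⟨M, hM, x, hx, hx1, r, hr, e⟩
  rcases supportR_cases hG hM hx hx1 with ⟨h1, h2⟩ | ⟨h1, N, h2, h3⟩
  · rw [h2, Subgroup.mem_bot] at hr
    rw [hr, mul_one] at e
    exact hx1 e.symm
  · rw [h3] at hr
    have hxr : x = r⁻¹ := by rw [eq_inv_iff_mul_eq_one]; exact e.symm
    have : x ∈ (M ⊓ N) ⊓ sigmaCore N := by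
      have hxs : x ∈ sigmaCore N := by rw [hxr]; exact Subgroup.inv_mem _ hr.1
      exact ⟨⟨ms_le M hx, ms_le N hxs⟩, hxs⟩
    rw [h2.compl.2.2.1, Subgroup.mem_bot] at this
    exact hx1 this

/-- `M̃ ∩ Ñ = ∅` for non-conjugate `M`, `N` -/
theorem tl_disjoint {M N : Subgroup G} (hM : IsCoatom M) (hN : IsCoatom N)
    (h : ∀ g : G, N ≠ cj g M) : Disjoint (tl M) (tl N) := by
  rw [Set.disjoint_left]
  intro z hz hz'
  obtain ⟨g, x, hx, hx1, r, hr, e⟩ := (mem_tilde_iff hG hM).1 hz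
  obtain ⟨g', x', hx', hx'1, r', hr', e'⟩ := (mem_tilde_iff hG hN).1 hz'
  have hxx : x = x' := by
    by_contra hne
    exact cosets_disjoint hG (coatom_cj hM g) (coatom_cj hN g') hx hx' hx1 hx'1 hne hr hr'
      (by rw [← e, ← e'])
  rw [← hxx] at hx'
  obtain ⟨a, ha⟩ := conj_of_piElt hG (coatom_cj hM g) (coatom_cj hN g') hx1
    (ms_pi hG (coatom_cj hM g) hx) (ms_pi hG (coatom_cj hN g') hx')
  obtain ⟨b, hb⟩ := conj_trans' (conj_trans' ⟨g, rfl⟩ ⟨a, ha⟩) (conj_symm ⟨g', rfl⟩)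
  exact h b hb

theorem PM.inHat {M K : Subgroup G} (h : PM M K) {k y : G} (hk : k ∈ K) (hk1 : k ≠ 1)
    (hy : y ∈ Kst M K) (hy1 : y ≠ 1) : InHat (k * y) :=
  ⟨M, h.coatom, y, kst_le_ms M K hy, hy1, k, h.K_le hk, hk1, piElt_of_mem h.hall.2.1 hk,
    kst_comm hk hy, kst_comm hk hy⟩

omit hG [Finite G] in
theorem inHat_conj {z : G} [Finite G] (h : InHat z) (g : G) : InHat (g * z * g⁻¹) := by
  obtain ⟨M, hM, y, hy, hy1, k, hk, hk1, hkk, hky, rfl⟩ := h
  refine ⟨cj g M, coatom_cj hM g, g * y * g⁻¹, by rw [sigmaCore_cj]; exact L.conj_mem_cj hy,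
    fun e => hy1 (by simpa using e), g * k * g⁻¹, L.conj_mem_cj hk, fun e => hk1 (by simpa using e),
    ?_, ?_, by group⟩
  · rw [kappa_cj, piElt_conj]; exact hkk
  · calc g * k * g⁻¹ * (g * y * g⁻¹) = g * (k * y) * g⁻¹ := by group
      _ = g * (y * k) * g⁻¹ := by rw [hky]
      _ = _ := by group

theorem card_of_p1 {M K : Subgroup G} (hM : IsCoatom M) (hK : IsPiHallOf (kappa M) K M)
    (h : IsP1 M) : Nat.card M = Nat.card K * Nat.card (sigmaCore M) := by
  rw [← card_K_sup_ms hG hM hK]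
  have hle : K ⊔ sigmaCore M ≤ M := sup_le hK.1 (ms_le M)
  have h1 : (K ⊔ sigmaCore M).relIndex M = 1 := by
    by_contra hne
    obtain ⟨p, hp, hd⟩ := Nat.exists_prime_and_dvd hne
    have hdM : p ∣ Nat.card M := by
      rw [← L.card_mul_relIndex hle]; exact Dvd.dvd.mul_left hd _
    by_cases hs : p ∈ sigma M
    · apply (ms_hall hG hM).2.2 p hp hs
      rw [← Subgroup.relIndex_mul_relIndex _ _ _ (le_sup_right : sigmaCore M ≤ K ⊔ sigmaCore M) hle]
      exact Dvd.dvd.mul_left hd _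
    · apply hK.2.2 p hp (h p hp hdM hs)
      rw [← Subgroup.relIndex_mul_relIndex _ _ _ (le_sup_left : K ≤ K ⊔ sigmaCore M) hle]
      exact Dvd.dvd.mul_left hd _
  rw [← L.card_mul_relIndex hle, h1, mul_one]

/-- some pair with the same `Z` is not of type `P1` -/
theorem PM.exists_p2 {M K : Subgroup G} (h : PM M K) :
    ∃ M' K' : Subgroup G, PM M' K' ∧ Zof M' K' = Zof M K ∧ ¬ IsP1 M' := by
  classical
  by_contra hcon
  push Not at hcon
  let _ : Fintype G := Fintype.ofFinite G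
  let _ : Fintype (Subgroup G × Subgroup G) := Fintype.ofFinite _
  let I : Finset (Subgroup G × Subgroup G) :=
    Finset.univ.filter (fun q => PM q.1 q.2 ∧ Zof q.1 q.2 = Zof M K)
  have hI : ∀ q ∈ I, PM q.1 q.2 ∧ Zof q.1 q.2 = Zof M K := fun q hq => (Finset.mem_filter.1 hq).2
  have hI' : ∀ q : Subgroup G × Subgroup G, PM q.1 q.2 → Zof q.1 q.2 = Zof M K → q ∈ I :=
    fun q h1 h2 => Finset.mem_filter.2 ⟨Finset.mem_univ _, h1, h2⟩
  have hconj : ∀ q ∈ I, ∀ q' ∈ I, q ≠ q' → ∀ g : G, q'.1 ≠ cj g q.1 := by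
    intro q hq q' hq' hne g e
    apply hne
    have := (hI q hq).1.eq_of_conj hG (hI q' hq').1
      ((hI q' hq').2.trans (hI q hq).2.symm) ⟨g, e⟩
    exact Prod.ext this.1.symm this.2.symm
  have hn2 : 2 ≤ I.card := by
    obtain ⟨X, hX, hXp⟩ := exists_prime_sub h.ne
    obtain ⟨M₁, K₁, h₁, -, -, -, -, hZ, hnc⟩ := h.link2 hG hX hXp
    have h2 : ({(M, K), (M₁, K₁)} : Finset (Subgroup G × Subgroup G)) ⊆ I := by
      intro q hq
      rw [Finset.mem_insert, Finset.mem_singleton] at hq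
      rcases hq with rfl | rfl
      · exact hI' _ h rfl
      · exact hI' _ h₁ hZ
    have h3 : (M, K) ≠ (M₁, K₁) := by
      intro e
      exact hnc 1 (by rw [L.cj_one]; exact (Prod.ext_iff.1 e).1.symm)
    rw [← Finset.card_pair h3]
    exact Finset.card_le_card h2
  -- the set `T`
  let F : Subgroup G × Subgroup G → Finset G := fun q => (Finset.univ.filter (· ∈ Kst q.1 q.2)).erase 1
  have memF : ∀ q z, z ∈ F q ↔ z ≠ 1 ∧ z ∈ Kst q.1 q.2 := by
    intro q z
    simp [F]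
  let T : Finset G := ((Finset.univ.filter (· ∈ Zof M K)).erase 1) \ I.biUnion F
  have memT : ∀ z, z ∈ T ↔ (z ≠ 1 ∧ z ∈ Zof M K) ∧ ∀ q ∈ I, z ∉ F q := by
    intro z
    simp only [T, Finset.mem_sdiff, Finset.mem_erase, Finset.mem_filter, Finset.mem_univ, true_and,
      Finset.mem_biUnion, not_exists, not_and]
  have cardF : ∀ q, (F q).card = Nat.card (Kst q.1 q.2) - 1 := by
    intro q
    show ((Finset.univ.filter (· ∈ Kst q.1 q.2)).erase 1).card = _
    rw [Finset.card_erase_of_mem (Finset.mem_filter.2 ⟨Finset.mem_univ _, Subgroup.one_mem _⟩)]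
    congr 1
    rw [Nat.card_eq_fintype_card, Fintype.card_subtype]
  have hdisj : ∀ q ∈ I, ∀ q' ∈ I, q ≠ q' → Disjoint (F q) (F q') := by
    intro q hq q' hq' hne
    rw [Finset.disjoint_left]
    intro z hz hz'
    rw [memF] at hz hz'
    obtain ⟨g, hg⟩ := conj_of_piElt hG (hI q hq).1.coatom (hI q' hq').1.coatom hz.1
      ((hI q hq).1.kst_pi hG hz.2) ((hI q' hq').1.kst_pi hG hz'.2)
    exact hconj q hq q' hq' hne g hg
  have hsub : I.biUnion F ⊆ (Finset.univ.filter (· ∈ Zof M K)).erase 1 := by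
    intro z hz
    obtain ⟨q, hq, hz⟩ := Finset.mem_biUnion.1 hz
    rw [memF] at hz
    refine Finset.mem_erase.2 ⟨hz.1, Finset.mem_filter.2 ⟨Finset.mem_univ _, ?_⟩⟩
    rw [← (hI q hq).2]; exact Subgroup.mem_sup_right hz.2
  have cardT : T.card + ∑ q ∈ I, (Nat.card (Kst q.1 q.2) - 1) + 1 = Nat.card (Zof M K) := by
    have h1 : ∑ q ∈ I, (Nat.card (Kst q.1 q.2) - 1) = (I.biUnion F).card := by
      rw [Finset.card_biUnion hdisj]
      exact Finset.sum_congr rfl (fun q _ => (cardF q).symm)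
    rw [h1]
    have h2 : T.card + (I.biUnion F).card = ((Finset.univ.filter (· ∈ Zof M K)).erase 1).card := by
      exact Finset.card_sdiff_add_card_eq_card hsub
    rw [h2, Finset.card_erase_of_mem (Finset.mem_filter.2 ⟨Finset.mem_univ _, Subgroup.one_mem _⟩)]
    have h3 : Nat.card (Zof M K) = (Finset.univ.filter (· ∈ Zof M K)).card := by
      rw [Nat.card_eq_fintype_card, Fintype.card_subtype]
    rw [← h3]
    exact Nat.sub_add_cancel Nat.card_pos
  -- elements of `T`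
  have hT : ∀ z ∈ T, ∃ q ∈ I, ∃ k ∈ q.2, ∃ y ∈ Kst q.1 q.2, k ≠ 1 ∧ y ≠ 1 ∧ k * y = z := by
    intro z hz
    rw [memT] at hz
    obtain ⟨M', K', h', hZ, k, hk, y, hy, hy1, e⟩ := h.split hG hz.1.2 hz.1.1
    refine ⟨(M', K'), hI' _ h' hZ, k, hk, y, hy, ?_, hy1, e⟩
    rintro rfl
    rw [one_mul] at e
    exact hz.2 (M', K') (hI' _ h' hZ) ((memF _ _).2 ⟨e ▸ hy1, e ▸ hy⟩)
  have hC := card_conjSet' (T : Set G) (Zof M K)
    (by
      intro g z hz hgz
      obtain ⟨q, hq, k, hk, y, hy, hk1, hy1, rfl⟩ := hT z hz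
      rw [← (hI q hq).2]
      apply (hI q hq).1.hat_conj hG hk hk1 hy hy1
      rw [(hI q hq).2]
      exact ((memT _).1 hgz).1.2)
    (by
      intro g hg z hz
      have hz' := (memT z).1 hz
      refine (memT _).2 ⟨⟨fun e => hz'.1.1 (by simpa using e), ?_⟩, ?_⟩
      · exact Subgroup.mul_mem _ (Subgroup.mul_mem _ hg hz'.1.2) (Subgroup.inv_mem _ hg)
      · intro q hq hzq
        rw [memF] at hzq
        apply hz'.2 q hq
        rw [memF]
        refine ⟨hz'.1.1, ?_⟩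
        rw [← (hI q hq).2] at hg
        exact (Subgroup.mem_normalizer_iff.1 (Z_le_nz_kst hg) z).2 hzq.2)
  rw [Set.ncard_coe_finset] at hC
  -- the big disjoint union
  have hCfin : (conjSet (T : Set G)).Finite := Set.toFinite _
  let Cf : Finset G := (conjSet (T : Set G)).toFinset
  let tf : Subgroup G × Subgroup G → Finset G := fun q => (tl q.1).toFinset
  have hCf : Cf.card = (conjSet (T : Set G)).ncard := (Set.ncard_eq_toFinset_card' _).symm
  have htf : ∀ q ∈ I, (tf q).card = (Nat.card (sigmaCore q.1) - 1) * q.1.index := by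
    intro q hq
    rw [← card_tilde hG (hI q hq).1.coatom]
    exact (Set.ncard_eq_toFinset_card' _).symm
  have hCt : Disjoint Cf (I.biUnion tf) := by
    rw [Finset.disjoint_left]
    intro z hz hz'
    obtain ⟨q, hq, hzq⟩ := Finset.mem_biUnion.1 hz'
    have h1 : z ∈ tl q.1 := Set.mem_toFinset.1 hzq
    have h2 : z ∈ conjSet (T : Set G) := Set.mem_toFinset.1 hz
    obtain ⟨g, t, ht, rfl⟩ := h2
    obtain ⟨q', hq', k, hk, y, hy, hk1, hy1, rfl⟩ := hT t ht
    exact not_tilde_hat hG (inTilde_of_mem hG (hI q hq).1.coatom h1)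
      (inHat_conj ((hI q' hq').1.inHat hG hk hk1 hy hy1) g)
  have h1C : (1 : G) ∉ Cf ∪ I.biUnion tf := by
    intro h1
    rcases Finset.mem_union.1 h1 with h1 | h1
    · obtain ⟨g, t, ht, e⟩ := Set.mem_toFinset.1 h1
      have : t = 1 := by
        have : g⁻¹ * 1 * g = t := by rw [e]; group
        rw [← this]; group
      exact ((memT t).1 ht).1.1 this
    · obtain ⟨q, hq, hzq⟩ := Finset.mem_biUnion.1 h1
      exact not_inTilde_one hG (inTilde_of_mem hG (hI q hq).1.coatom (Set.mem_toFinset.1 hzq))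
  have htot : Cf.card + ∑ q ∈ I, (tf q).card + 1 ≤ Nat.card G := by
    rw [← Finset.card_biUnion (s := I) (t := tf) (by
      intro q hq q' hq' hne
      show Disjoint (tf q) (tf q')
      rw [Finset.disjoint_left]
      intro z hz hz'
      exact Set.disjoint_left.1 (tl_disjoint hG (hI q hq).1.coatom (hI q' hq').1.coatom
        (hconj q hq q' hq' hne)) (Set.mem_toFinset.1 hz) (Set.mem_toFinset.1 hz')),
      ← Finset.card_union_of_disjoint hCt, ← Finset.card_insert_of_notMem h1C,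
      Nat.card_eq_fintype_card]
    exact Finset.card_le_univ _
  -- arithmetic
  rw [Finset.sum_congr rfl htf, hCf] at htot
  set z := Nat.card (Zof M K) with hz
  set g := Nat.card G with hg
  have hzpos : 0 < z := Nat.card_pos
  have e1 : ∀ q ∈ I, (z : ℤ) * (((Nat.card (sigmaCore q.1) - 1) * q.1.index : ℕ) : ℤ) =
      (Nat.card (Kst q.1 q.2) : ℤ) * g - z * q.1.index := by
    intro q hq
    have h1 := (hI q hq).1.card_Z hG
    rw [(hI q hq).2, ← hz] at h1
    have h2 := card_of_p1 hG (hI q hq).1.coatom (hI q hq).1.hall (hcon q.1 q.2 (hI q hq).1 (hI q hq).2)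
    have h3 := q.1.card_mul_index
    have h4 : 1 ≤ Nat.card (sigmaCore q.1) := Nat.card_pos
    push_cast [Nat.cast_sub h4]
    rw [h1, hg, ← h3, h2]
    push_cast
    ring
  have e2 : ∀ q ∈ I, 3 * ((z : ℤ) * q.1.index) ≤ g := by
    intro q hq
    have h1 := (hI q hq).1.index_ge hG
    rw [(hI q hq).2, ← hz] at h1
    have h3 := q.1.card_mul_index
    have : 3 * z * q.1.index ≤ g := by
      rw [hg, ← h3]; exact Nat.mul_le_mul_right _ h1
    have : ((3 * z * q.1.index : ℕ) : ℤ) ≤ g := by exact_mod_cast this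
    push_cast at this
    linarith
  have e3 : (T.card : ℤ) + ∑ q ∈ I, ((Nat.card (Kst q.1 q.2) : ℤ) - 1) + 1 = z := by
    rw [← cardT]
    push_cast
    congr 2
    exact Finset.sum_congr rfl (fun q _ => by
      have h4 : 1 ≤ Nat.card (Kst q.1 q.2) := Nat.card_pos
      push_cast [Nat.cast_sub h4]; ring)
  have e4 : (z : ℤ) * (conjSet (T : Set G)).ncard = T.card * g := by exact_mod_cast hC
  have e5 : (z : ℤ) * (conjSet (T : Set G)).ncard +
      ∑ q ∈ I, (z : ℤ) * (((Nat.card (sigmaCore q.1) - 1) * q.1.index : ℕ) : ℤ) + z ≤ z * g := by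
    have : (((conjSet (T : Set G)).ncard + ∑ q ∈ I, (Nat.card (sigmaCore q.1) - 1) * q.1.index + 1 : ℕ) : ℤ)
        ≤ g := by exact_mod_cast htot
    have h2 := mul_le_mul_of_nonneg_left this (by positivity : (0 : ℤ) ≤ z)
    rw [Nat.cast_add, Nat.cast_add, Nat.cast_sum, mul_add, mul_add, Finset.mul_sum] at h2
    simpa using h2
  rw [Finset.sum_congr rfl e1, e4, Finset.sum_sub_distrib, ← Finset.sum_mul] at e5
  rw [Finset.sum_sub_distrib, Finset.sum_const, nsmul_eq_mul, mul_one] at e3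
  have e6 : 3 * ∑ q ∈ I, (z : ℤ) * q.1.index ≤ I.card * g := by
    rw [Finset.mul_sum]
    calc ∑ q ∈ I, 3 * ((z : ℤ) * q.1.index) ≤ ∑ q ∈ I, (g : ℤ) := Finset.sum_le_sum e2
      _ = I.card * g := by rw [Finset.sum_const, nsmul_eq_mul]
  have hgpos : (0 : ℤ) < g := by exact_mod_cast (Nat.card_pos : 0 < Nat.card G)
  have hn2' : (2 : ℤ) ≤ I.card := by exact_mod_cast hn2
  set S := ∑ q ∈ I, (Nat.card (Kst q.1 q.2) : ℤ) with hS
  set R := ∑ q ∈ I, (z : ℤ) * q.1.index with hR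
  have e7 : (T.card : ℤ) = z - 1 - S + I.card := by linarith
  rw [e7] at e5
  have e8 : ((I.card : ℤ) - 1) * g + z ≤ R := by nlinarith
  have hz0 : (0 : ℤ) < z := by exact_mod_cast hzpos
  nlinarith

end Cfsg.Agent.H21
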