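import Cfsg.Agent.H21.OT14l

set_option autoImplicit false

/-! Theorem 14.7 of Bender-Glauberman: the dual pair. -/

namespace Cfsg.Agent.H21

open Subgroup
open Cfsg.Agent.L (cj nz SylIn)
open Cfsg.Agent.H14 (IsPiSub)
open Cfsg.Agent.OOT
open scoped Pointwise

universe u
variable {G : Type u} [Group G]

/-- dual pairs `(M, K)`, `(M', K')` -/
structure Dual (M K M' K' : Subgroup G) : Prop where
  pm : PM M K
  pm' : PM M' K'
  e : Kst M K = K'
  e' : Kst M' K' = K

theorem Dual.symm {M K M' K' : Subgroup G} (h : Dual M K M' K') : Dual M' K' M K :=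
  ⟨h.pm', h.pm, h.e', h.e⟩

theorem isCyclic_sup_of_comm [Finite G] {A B : Subgroup G} (hA : IsCyclic A) (hB : IsCyclic B)
    (hc : ∀ a ∈ A, ∀ b ∈ B, a * b = b * a) (hcop : (Nat.card A).Coprime (Nat.card B)) :
    IsCyclic (A ⊔ B : Subgroup G) := by
  obtain ⟨a, ha⟩ := hA.exists_generator
  obtain ⟨b, hb⟩ := hB.exists_generator
  have ha' : orderOf (a : G) = Nat.card A := by
    rw [Subgroup.orderOf_coe]; exact orderOf_eq_card_of_forall_mem_zpowers ha
  have hb' : orderOf (b : G) = Nat.card B := by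
    rw [Subgroup.orderOf_coe]; exact orderOf_eq_card_of_forall_mem_zpowers hb
  have hab : Commute (a : G) (b : G) := hc a a.2 b b.2
  have h1 : orderOf ((a : G) * b) = Nat.card A * Nat.card B := by
    rw [hab.orderOf_mul_eq_mul_orderOf_of_coprime (by rw [ha', hb']; exact hcop), ha', hb']
  have h2 : Nat.card (A ⊔ B : Subgroup G) = Nat.card A * Nat.card B := by
    apply card_sup_of_le_nz
    · refine le_trans ?_ (cent_le_nz A)
      intro b hb
      rw [mem_cent_iff]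
      exact fun x hx => (hc x hx b hb).symm
    · exact (Subgroup.disjoint_of_coprime_natCard hcop).eq_bot
  refine isCyclic_of_orderOf_eq_card (⟨(a : G) * b, Subgroup.mul_mem _ (Subgroup.mem_sup_left a.2)
    (Subgroup.mem_sup_right b.2)⟩ : (A ⊔ B : Subgroup G)) ?_
  rw [← Subgroup.orderOf_coe, h2]
  exact h1

theorem isZGroup_of_sylIn [Finite G] {K : Subgroup G}
    (h : ∀ p : ℕ, p.Prime → ∀ P : Subgroup G, SylIn p P K → IsCyclic P) : IsZGroup K := by
  rw [isZGroup_iff]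
  intro p hp P
  have hpF : Fact p.Prime := ⟨hp⟩
  have := h p hp _ (L.sylIn_of_sylow P)
  exact ((P : Subgroup K).equivMapOfInjective K.subtype K.subtype_injective).isCyclic.2 this

variable [Finite G] (hG : IsMinSimpleOddOrder G)
include hG

omit hG in
theorem kappa_hall_zgroup {M K : Subgroup G} (hK : IsPiHallOf (kappa M) K M) : IsZGroup K := by
  apply isZGroup_of_sylIn
  intro p hp P hP
  have hpF : Fact p.Prime := ⟨hp⟩
  by_cases hd : p ∣ Nat.card K
  · have hpk := hK.2.1 p hp hd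
    have hPM : SylIn p P M := by
      refine ⟨hP.le.trans hK.1, hP.isPGroup, ?_⟩
      rw [← Subgroup.relIndex_mul_relIndex _ _ _ hP.le hK.1]
      intro hd
      rcases hp.dvd_mul.1 hd with hd | hd
      · exact hP.3 hd
      · exact hK.2.2 p hp hpk hd
    exact ((mem_kappa_iff.1 hpk).2.2.2 P hPM).1
  · have : P = ⊥ := by
      obtain ⟨n, hn⟩ := IsPGroup.iff_card.1 hP.isPGroup
      rcases n with _ | n
      · rw [pow_zero] at hn
        exact Subgroup.card_eq_one.1 hn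
      · exfalso
        apply hd
        refine Dvd.dvd.trans ?_ (card_dvd_of_le hP.le)
        rw [hn]; exact dvd_pow_self p (Nat.succ_ne_zero n)
    rw [this]; infer_instance

section DualSec
variable {M K M' K' : Subgroup G} (h : Dual M K M' K')
include h

omit hG [Finite G] in
theorem Dual.Z_eq : Zof M' K' = Zof M K := by
  show K' ⊔ Kst M' K' = K ⊔ Kst M K
  rw [h.e, h.e', sup_comm]

theorem Dual.not_conj : ∀ g : G, M' ≠ cj g M := by
  intro g e
  obtain ⟨-, e2⟩ := h.pm.eq_of_conj hG h.pm' h.Z_eq ⟨g, e⟩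
  have h1 := h.pm.K_inf_kst hG
  rw [h.e, e2, inf_idem] at h1
  exact h.pm.ne h1

theorem Dual.uniq {M'' K'' : Subgroup G} (h' : Dual M K M'' K'') : M' = M'' ∧ K' = K'' := by
  have hZ : Zof M'' K'' = Zof M' K' := by rw [h'.Z_eq, h.Z_eq]
  have hK : K' = K'' := by rw [← h.e, h'.e]
  refine ⟨?_, hK⟩
  obtain ⟨p, hp, hd⟩ := Nat.exists_prime_and_dvd (fun h' => h.pm.ne (Subgroup.card_eq_one.1 h'))
  have h1 : p ∈ sigma M' := by
    apply (ms_hall hG h.pm'.coatom).2.1 p hp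
    rw [← h.e'] at hd
    exact hd.trans (card_dvd_of_le (kst_le_ms _ _))
  have h2 : p ∈ sigma M'' := by
    apply (ms_hall hG h'.pm'.coatom).2.1 p hp
    rw [← h'.e'] at hd
    exact hd.trans (card_dvd_of_le (kst_le_ms _ _))
  exact (h.pm'.eq_of_conj hG h'.pm' hZ (sigma_conj hG h.pm'.coatom h'.pm'.coatom h1 h2)).1.symm

end DualSec

/-- existence of the dual pair -/
theorem PM.exists_dual {M K : Subgroup G} (h : PM M K) :
    ∃ M' : Subgroup G, Dual M K M' (Kst M K) ∧ (¬ IsP1 M ∨ ¬ IsP1 M') := by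
  obtain ⟨A, B, hAB, hZ, hP1⟩ := h.exists_p2 hG
  obtain ⟨hBp, -, -⟩ := hAB.p2 hG hP1
  obtain ⟨A₁, B₁, h₁, -, hB₁, hle, hle', hZ₁, hnc⟩ := hAB.link2 hG le_rfl hBp
  have e1 : Kst A₁ B₁ = B := le_antisymm hle' hB₁
  have e2 : Kst A B = B₁ := by
    apply Subgroup.eq_of_le_of_card_ge hle
    have c1 := hAB.card_Z hG
    have c2 := h₁.card_Z hG
    rw [hZ₁, c1, e1, mul_comm] at c2
    exact (Nat.eq_of_mul_eq_mul_right Nat.card_pos c2).ge
  have hD : Dual A B A₁ B₁ := ⟨hAB, h₁, e2, e1⟩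
  obtain ⟨p, hp, hd⟩ := Nat.exists_prime_and_dvd
    (fun h' => h.kst_ne hG (Subgroup.card_eq_one.1 h'))
  have hpM : p ∈ sigma M := (ms_hall hG h.coatom).2.1 p hp (hd.trans (card_dvd_of_le (kst_le_ms _ _)))
  have hdZ : p ∣ Nat.card (Zof A B) := by
    rw [hZ]; exact hd.trans (card_dvd_of_le le_sup_right)
  rw [hAB.card_Z hG] at hdZ
  rcases hp.dvd_mul.1 hdZ with hd' | hd'
  · have hpA : p ∈ sigma A₁ := by
      rw [← e1] at hd'
      exact (ms_hall hG h₁.coatom).2.1 p hp (hd'.trans (card_dvd_of_le (kst_le_ms _ _)))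
    obtain ⟨e3, e4⟩ := h₁.eq_of_conj hG h (hZ.symm.trans hZ₁.symm) (sigma_conj hG h₁.coatom h.coatom hpA hpM)
    subst e3 e4
    refine ⟨A, ?_, Or.inr hP1⟩
    rw [e1]; exact hD.symm
  · have hpA : p ∈ sigma A :=
      (ms_hall hG hAB.coatom).2.1 p hp (hd'.trans (card_dvd_of_le (kst_le_ms _ _)))
    obtain ⟨e3, e4⟩ := hAB.eq_of_conj hG h hZ.symm (sigma_conj hG hAB.coatom h.coatom hpA hpM)
    subst e3 e4
    refine ⟨A₁, ?_, Or.inl hP1⟩
    rw [e2]; exact hD

section DualSec2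
variable {M K M' K' : Subgroup G} (h : Dual M K M' K')
include h

theorem Dual.p2_or : ¬ IsP1 M ∨ ¬ IsP1 M' := by
  obtain ⟨M'', hD, ho⟩ := h.pm.exists_dual hG
  obtain ⟨e, -⟩ := h.uniq hG hD
  rw [e]; exact ho

theorem Dual.cyclic_aux (hP1 : ¬ IsP1 M) : IsCyclic K ∧ IsCyclic K' := by
  obtain ⟨h1, h2, -⟩ := h.pm.p2 hG hP1
  refine ⟨isCyclic_of_prime_card (p := Nat.card K) (hp := ⟨h1⟩) rfl, ?_⟩
  have h3 : Group.IsNilpotent K' := by
    rw [← h.e]; exact H1.isNilpotent_of_le inf_le_left h2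
  have h4 : IsZGroup K' := kappa_hall_zgroup h.pm'.hall
  infer_instance

theorem Dual.cyclic : IsCyclic K ∧ IsCyclic K' := by
  rcases h.p2_or hG with h1 | h1
  · exact h.cyclic_aux hG h1
  · exact (h.symm.cyclic_aux hG h1).symm

theorem Dual.K'_pi : IsPiSub (sigma M) K' := by
  intro p hp hd
  rw [← h.e] at hd
  exact (ms_hall hG h.pm.coatom).2.1 p hp (hd.trans (card_dvd_of_le (kst_le_ms _ _)))

theorem Dual.coprime : (Nat.card K).Coprime (Nat.card K') := by
  refine Nat.coprime_of_dvd fun p hp h1 h2 => ?_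
  exact kappa_not_sigma (h.pm.hall.2.1 p hp h1) (h.K'_pi hG p hp h2)

omit hG in
theorem Dual.comm {k y : G} (hk : k ∈ K) (hy : y ∈ K') : k * y = y * k := by
  rw [← h.e] at hy; exact kst_comm hk hy

theorem Dual.cyclic_Z : IsCyclic (Zof M K) := by
  show IsCyclic (K ⊔ Kst M K : Subgroup G)
  rw [h.e]
  exact isCyclic_sup_of_comm (h.cyclic hG).1 (h.cyclic hG).2 (fun k hk y hy => h.comm hk hy)
    (h.coprime hG)

theorem Dual.nz_le {X : Subgroup G} (hX : X ≤ K) (hX1 : X ≠ ⊥) : nz X ≤ M' :=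
  h.pm'.nz_kst_le hG (by rw [h.e']; exact hX) hX1

/-- `N_M(X) = Z` for `1 ≠ X ≤ K` -/
theorem Dual.inf_nz {X : Subgroup G} (hX : X ≤ K) (hX1 : X ≠ ⊥) : M ⊓ nz X = Zof M K := by
  obtain ⟨Y, hY, hYp⟩ := exists_prime_sub hX1
  apply le_antisymm
  · rw [← h.pm.inf_nz hG (hY.trans hX) hYp]
    refine inf_le_inf_left _ ?_
    have hXc : IsCyclic X := by
      have := (h.cyclic hG).1
      exact isCyclic_of_injective (Subgroup.inclusion hX) (Subgroup.inclusion_injective hX)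
    intro g hg
    refine L.mem_nz_iff.2 ?_
    apply eq_of_card_of_cyclic hXc _ hY (L.card_cj _ _)
    calc cj g Y ≤ cj g X := L.cj_mono hY
      _ = X := L.mem_nz_iff.1 hg
  · refine le_inf h.pm.Z_le ?_
    have hZc := h.cyclic_Z hG
    have hXZ : X ≤ Zof M K := hX.trans le_sup_left
    refine le_trans ?_ (cent_le_nz X)
    intro z hz
    rw [mem_cent_iff]
    intro x hx
    exact comm_of_cyclic hZc z hz x (hXZ hx)

theorem Dual.inf_eq : M ⊓ M' = Zof M K := by
  apply le_antisymm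
  · -- `D = M ∩ M'`
    have hD1 : (M ⊓ M') ⊓ sigmaCore M ≤ Kst M K := by
      -- centralized by `K`
      have hK1 : K ≤ sigmaCore M' := by rw [← h.e']; exact kst_le_ms _ _
      have hKM : K ≤ M := h.pm.K_le
      have hdis : sigmaCore M' ⊓ ((M ⊓ M') ⊓ sigmaCore M) = ⊥ := by
        rw [eq_bot_iff]
        rintro z ⟨h1, h2⟩
        rw [Subgroup.mem_bot]
        exact eq_one_of_piElt (π := sigma M) (π' := sigma M')
          (fun p hp h3 h4 => sigma_not_of_not_conj hG h.pm.coatom h.pm'.coatom (h.not_conj hG) h3 h4)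
          (ms_pi hG h.pm.coatom h2.2) (ms_pi hG h.pm'.coatom h1)
      have hKn : K ≤ nz ((M ⊓ M') ⊓ sigmaCore M) := by
        intro k hk
        refine L.mem_nz_iff.2 ?_
        rw [L.cj_inf, L.cj_inf, L.cj_eq_self_of_mem (hKM hk),
          L.cj_eq_self_of_mem (ms_le M' (hK1 hk)), L.mem_nz_iff.1 (le_nz_ms M (hKM hk))]
      have := le_cent_of_inf hK1 (inf_le_left.trans (inf_le_right.trans (le_nz_ms M'))) hKn hdis
      exact le_inf inf_le_right (le_cent_comm.1 this)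
    have hD2 : M ⊓ M' ≤ nz K' := by
      have e : (M ⊓ M') ⊓ sigmaCore M = K' := by
        apply le_antisymm
        · rw [← h.e]; exact hD1
        · refine le_inf (le_inf ?_ h.pm'.K_le) ?_
          · rw [← h.e]; exact kst_le _ _
          · rw [← h.e]; exact kst_le_ms _ _
      intro g hg
      refine L.mem_nz_iff.2 ?_
      rw [← e, L.cj_inf, L.cj_eq_self_of_mem hg, L.mem_nz_iff.1 (le_nz_ms M hg.1)]
    rw [← h.Z_eq, ← h.symm.inf_nz hG le_rfl h.pm'.ne]
    exact le_inf inf_le_right hD2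
  · refine le_inf h.pm.Z_le ?_
    rw [← h.Z_eq]; exact h.pm'.Z_le

end DualSec2

end Cfsg.Agent.H21
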