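import Cfsg.Agent.H21.OT14m
import Cfsg.Agent.H21.OTNar

set_option autoImplicit false

/-! Theorem 14.7 of Bender-Glauberman: (a), (b), (d), (e), (g). -/

namespace Cfsg.Agent.H21

open Subgroup
open Cfsg.Agent.L (cj nz SylIn)
open Cfsg.Agent.H14 (IsPiSub)
open Cfsg.Agent.OOT
open scoped Pointwise

universe u
variable {G : Type u} [Group G]

variable [Finite G] (hG : IsMinSimpleOddOrder G)
include hG

/-- `σ(M) = β(M)` for `M ∈ M_P2` -/
theorem PM.sigma_sub_beta {M K : Subgroup G} (h : PM M K) (hP1 : ¬ IsP1 M) {q : ℕ}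
    (hq : q ∈ sigma M) : q ∈ beta M := by
  by_contra hqb
  have hqp : q.Prime := hq.1
  have hqF : Fact q.Prime := ⟨hqp⟩
  obtain ⟨-, ⟨U, hUc, hU, hKU, hUK⟩, -⟩ := BB.S1430 hG M h.coatom K h.hall h.ne
  obtain ⟨hU1, hn, hc⟩ := not_p1_facts hG h.coatom hP1 hU
  have hUKle : U ⊔ K ≤ M := sup_le hU.1 h.hall.1
  have hdis : U ⊓ K = ⊥ := by
    rw [inf_comm]
    exact inf_bot_of_pi h.hall.2.1 (fun q hq hd => (hU.2.1 q hq hd).2.1)
  have hcopUK : (Nat.card K).Coprime (Nat.card U) := by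
    refine Nat.coprime_of_dvd fun r hr h1 h2 => ?_
    exact (hU.2.1 r hr h2).2.1 (h.hall.2.1 r hr h1)
  -- the Sylow `q`-subgroup
  set Q := H1.part q (sigmaCore M) with hQ
  have hQd : q ∣ Nat.card (sigmaCore M) := by
    by_contra hnd
    have h6 := hq.2.1
    rw [← L.card_mul_relIndex (ms_le M)] at h6
    rcases hqp.dvd_mul.1 h6 with h7 | h7
    · exact hnd h7
    · exact (ms_hall hG h.coatom).2.2 q hqp hq h7
  have hQ1 : Q ≠ ⊥ := H1.part_ne_bot hn hQd
  have hQle : Q ≤ M := (H1.part_le _ _).trans (ms_le M)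
  have hQn : M ≤ nz Q := (le_nz_ms M).trans (H1.normalizer_le_normalizer_part q _)
  have hQM : SylIn q Q M := by
    refine ⟨hQle, H1.part_isPGroup _ _, ?_⟩
    rw [← Subgroup.relIndex_mul_relIndex _ _ _ (H1.part_le q (sigmaCore M)) (ms_le M)]
    intro h'
    rcases hqp.dvd_mul.1 h' with h' | h'
    · exact H1.not_dvd_relIndex_part hn h'
    · exact (ms_hall hG h.coatom).2.2 q hqp hq h'
  have hnar : IsNarrow q Q := narrow_of_not_beta hG h.coatom hq.2.1 hqb hQM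
  have hcop : (Nat.card (U ⊔ K : Subgroup G)).Coprime q := by
    rw [Nat.coprime_comm, Nat.Prime.coprime_iff_not_dvd hqp, card_sup_of_le_nz hKU hdis]
    intro h'
    rcases hqp.dvd_mul.1 h' with h' | h'
    · exact (hU.2.1 q hqp h').2.2 hq
    · exact kappa_not_sigma (h.hall.2.1 q hqp h') hq
  have h1 := narrow_comm_cent (prime_ne_two hG hq.2.1) (H1.part_isPGroup _ _) hnar
    (hUKle.trans hQn) (H1.isSolvable_of_le hUKle (coatom_sol hG h.coatom))
    (Odd.of_dvd_nat hG.1 (Subgroup.card_subgroup_dvd_card _)) hcop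
  -- `U = [U, K]`
  obtain ⟨k, hk, hk1⟩ := exists_ne_one h.ne
  have h2 : ⁅U, K⁆ = U := by
    have h3 := H1.commutator_sup_centralizer K U hKU hcopUK
      (Or.inr (H1.isSolvable_of_le hU.1 (coatom_sol hG h.coatom)))
    have h4 : U ⊓ centralizer (K : Set G) = ⊥ := by
      rw [eq_bot_iff, ← hUK k hk hk1]
      exact inf_le_inf_left _ (centralizer_le (Set.singleton_subset_iff.2 hk))
    rwa [h4, sup_bot_eq] at h3
  have h5 : U ≤ centralizer (Q : Set G) := by
    rw [← h2]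
    exact (Subgroup.commutator_mono le_sup_left le_sup_right).trans h1
  apply hQ1
  rw [eq_bot_iff, ← hc]
  exact le_inf (H1.part_le _ _) (le_cent_comm.1 h5)

/-- `(a)`: for `X ≤ K*` of prime order, `M` is the only maximal subgroup containing `C_G(X)` -/
theorem PM.uniq_kst {M K : Subgroup G} (h : PM M K) {X : Subgroup G} (hX : X ≤ Kst M K)
    (hXp : (Nat.card X).Prime) : UniqIn (centralizer (X : Set G)) M := by
  have hpF : Fact (Nat.card X).Prime := ⟨hXp⟩
  have hXM : X ≤ M := hX.trans (kst_le M K)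
  have hps : Nat.card X ∈ sigma M :=
    (ms_hall hG h.coatom).2.1 _ hXp (card_dvd_of_le (hX.trans (kst_le_ms M K)))
  obtain ⟨P⟩ : Nonempty (Sylow (Nat.card X) (sigmaCore M)) := inferInstance
  refine (BB.S1423 hG M h.coatom (Nat.card X) hps X hXM rfl P ?_).1
  by_cases hP1 : IsP1 M
  · right
    have hE : IsComplIn K (sigmaCore M) M := by
      have h1 := K_inf_ms hG h.coatom h.hall
      rw [inf_comm] at h1
      refine complIn_symm (complIn_of_sup (h.K_le.trans (le_nz_ms M)) h1 ?_)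
      apply Subgroup.eq_of_le_of_card_ge (sup_le (ms_le M) h.K_le)
      rw [sup_comm, card_K_sup_ms hG h.coatom h.hall, card_of_p1 hG h.coatom h.hall hP1]
    exact hX.trans (BB.S1426 hG M h.coatom K hE).1
  · left
    exact h.sigma_sub_beta hG hP1 hps

/-- `Ẑ` -/
abbrev Zhat (M K : Subgroup G) : Set G :=
  (↑(Zof M K) : Set G) \ ((K : Set G) ∪ ↑(Kst M K))

section PMs
variable {M K : Subgroup G} (h : PM M K)
include h

omit hG h [Finite G] in
theorem mem_Zhat {z : G} (hz : z ∈ Zhat M K) :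
    ∃ k ∈ K, ∃ y ∈ Kst M K, k ≠ 1 ∧ y ≠ 1 ∧ k * y = z := by
  obtain ⟨h1, h2⟩ := hz
  rw [Set.mem_union, not_or] at h2
  obtain ⟨k, hk, y, hy, rfl⟩ := mem_Z.1 h1
  refine ⟨k, hk, y, hy, ?_, ?_, rfl⟩
  · rintro rfl
    rw [one_mul] at h2
    exact h2.2 hy
  · rintro rfl
    rw [mul_one] at h2
    exact h2.1 hk

theorem PM.mem_Zhat' {k y : G} (hk : k ∈ K) (hk1 : k ≠ 1) (hy : y ∈ Kst M K) (hy1 : y ≠ 1) :
    k * y ∈ Zhat M K := by
  refine ⟨mem_Z.2 ⟨k, hk, y, hy, rfl⟩, ?_⟩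
  have hdis := h.K_inf_kst hG
  rw [Set.mem_union, not_or]
  constructor
  · intro h1
    have h2 : y ∈ K := by
      have := K.mul_mem (K.inv_mem hk) h1
      rwa [inv_mul_cancel_left] at this
    have : y ∈ K ⊓ Kst M K := ⟨h2, hy⟩
    rw [hdis, Subgroup.mem_bot] at this
    exact hy1 this
  · intro h1
    have h2 : k ∈ Kst M K := by
      have := (Kst M K).mul_mem h1 ((Kst M K).inv_mem hy)
      rwa [mul_inv_cancel_right] at this
    have : k ∈ K ⊓ Kst M K := ⟨hk, h2⟩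
    rw [hdis, Subgroup.mem_bot] at this
    exact hk1 this

theorem PM.Zhat_conj {z g : G} (hz : z ∈ Zhat M K) (hg : g * z * g⁻¹ ∈ Zof M K) : g ∈ Zof M K := by
  obtain ⟨k, hk, y, hy, hk1, hy1, rfl⟩ := mem_Zhat hz
  exact h.hat_conj hG hk hk1 hy hy1 hg

theorem PM.Zhat_stable {g : G} (hg : g ∈ Zof M K) {z : G} (hz : z ∈ Zhat M K) :
    g * z * g⁻¹ ∈ Zhat M K := by
  refine ⟨Subgroup.mul_mem _ (Subgroup.mul_mem _ hg hz.1) (Subgroup.inv_mem _ hg), ?_⟩
  rintro (h1 | h1)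
  · exact hz.2 (Or.inl ((Subgroup.mem_normalizer_iff.1 (Z_le_nz_K hg) z).2 h1))
  · exact hz.2 (Or.inr ((Subgroup.mem_normalizer_iff.1 (Z_le_nz_kst hg) z).2 h1))

theorem PM.Zhat_nonempty : (Zhat M K).Nonempty := by
  obtain ⟨k, hk, hk1⟩ := exists_ne_one h.ne
  obtain ⟨y, hy, hy1⟩ := exists_ne_one (h.kst_ne hG)
  exact ⟨_, h.mem_Zhat' hG hk hk1 hy hy1⟩

theorem PM.nz_Zhat : Subgroup.normalizer (Zhat M K) = Zof M K := by
  apply le_antisymm
  · intro g hg
    obtain ⟨z, hz⟩ := h.Zhat_nonempty hG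
    exact h.Zhat_conj hG hz ((Subgroup.mem_set_normalizer_iff.1 hg z).1 hz).1
  · intro g hg
    rw [Subgroup.mem_set_normalizer_iff]
    intro z
    refine ⟨fun hz => h.Zhat_stable hG hg hz, fun hz => ?_⟩
    have := h.Zhat_stable hG ((Zof M K).inv_mem hg) hz
    have e : g⁻¹ * (g * z * g⁻¹) * g⁻¹⁻¹ = z := by group
    rwa [e] at this

theorem PM.Zhat_TI : IsTISubset (Zhat M K) := by
  intro g hg z hz hgz
  rw [h.nz_Zhat hG] at hg
  exact absurd (h.Zhat_conj hG hz hgz.1) hg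

theorem PM.card_Zhat : (Zhat M K).ncard =
    Nat.card K * Nat.card (Kst M K) - Nat.card K - Nat.card (Kst M K) + 1 := by
  have h1 : ((K : Set G) ∪ ↑(Kst M K)) ⊆ (↑(Zof M K) : Set G) := by
    rintro z (hz | hz)
    · exact Subgroup.mem_sup_left hz
    · exact Subgroup.mem_sup_right hz
  have h2 := Set.ncard_union_add_ncard_inter (K : Set G) (↑(Kst M K) : Set G)
  have h3 : (K : Set G) ∩ (↑(Kst M K) : Set G) = {1} := by
    rw [← Subgroup.coe_inf, h.K_inf_kst hG, Subgroup.coe_bot]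
  have h4 : (K : Set G).ncard = Nat.card K := rfl
  have h5 : (↑(Kst M K) : Set G).ncard = Nat.card (Kst M K) := rfl
  have h6 : (↑(Zof M K) : Set G).ncard = Nat.card K * Nat.card (Kst M K) := by
    rw [← h.card_Z hG]; rfl
  rw [h3, Set.ncard_singleton, h4, h5] at h2
  rw [Set.ncard_sdiff h1, h6]
  have h7 : 1 < Nat.card K := by
    rw [Subgroup.one_lt_card_iff_ne_bot]; exact h.ne
  have h8 : 1 < Nat.card (Kst M K) := by
    rw [Subgroup.one_lt_card_iff_ne_bot]; exact h.kst_ne hG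
  obtain ⟨a, ha⟩ : ∃ a, Nat.card K = a + 2 := ⟨Nat.card K - 2, by omega⟩
  obtain ⟨b, hb⟩ : ∃ b, Nat.card (Kst M K) = b + 2 := ⟨Nat.card (Kst M K) - 2, by omega⟩
  rw [ha, hb] at h2 ⊢
  have : (a + 2) * (b + 2) = a * b + 2 * a + 2 * b + 4 := by ring
  rw [this]
  omega

theorem PM.count : Nat.card K * Nat.card (Kst M K) * (conjSet (Zhat M K)).ncard =
    (Nat.card K * Nat.card (Kst M K) - Nat.card K - Nat.card (Kst M K) + 1) * Nat.card G := by
  rw [← h.card_Zhat hG, ← h.card_Z hG]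
  exact card_conjSet' _ _ (fun g z hz hgz => h.Zhat_conj hG hz hgz.1)
    (fun g hg z hz => h.Zhat_stable hG hg hz)

end PMs

end Cfsg.Agent.H21
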