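import Cfsg.Agent.H21.OT14n

set_option autoImplicit false

/-! Theorem 14.7 of Bender-Glauberman: (b), (d), the count, (g). -/

namespace Cfsg.Agent.H21

open Subgroup
open Cfsg.Agent.L (cj nz SylIn)
open Cfsg.Agent.H14 (IsPiSub)
open Cfsg.Agent.OOT
open scoped Pointwise

universe u
variable {G : Type u} [Group G]

variable [Finite G] (hG : IsMinSimpleOddOrder G)
include hG

/-- a group of order `> 1` dividing an odd number has order `≥ 3` -/
theorem three_le_card {H : Subgroup G} (h : H ≠ ⊥) : 3 ≤ Nat.card H := by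
  have h1 : Odd (Nat.card H) := Odd.of_dvd_nat hG.1 (Subgroup.card_subgroup_dvd_card H)
  have h2 : Nat.card H ≠ 1 := fun h' => h (Subgroup.card_eq_one.1 h')
  obtain ⟨m, hm⟩ := h1
  omega

section DS
variable {M K M' K' : Subgroup G} (h : Dual M K M' K')
include h

theorem Dual.uniqIn' {X : Subgroup G} (hX : X ≤ K) (hXp : (Nat.card X).Prime) :
    UniqIn (centralizer (X : Set G)) M' :=
  h.pm'.uniq_kst hG (by rw [h.e']; exact hX) hXp

theorem Dual.uniqIn {X : Subgroup G} (hX : X ≤ K') (hXp : (Nat.card X).Prime) :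
    UniqIn (centralizer (X : Set G)) M :=
  h.symm.uniqIn' hG hX hXp

/-- (b) -/
theorem Dual.hall' : IsPiHallOf (sigma M) K' M' := by
  have hK'1 : K' ≠ ⊥ := h.pm'.ne
  obtain ⟨Y, hY, hle⟩ := exists_hallOf_ge (coatom_sol hG h.pm'.coatom) h.pm'.K_le (h.K'_pi hG)
  have h1 : Y ⊓ (sigmaCore M ⊓ centralizer (K : Set G)) ≠ ⊥ := by
    change Y ⊓ Kst M K ≠ ⊥
    rw [h.e, inf_eq_right.2 hle]; exact hK'1
  have h2 : Y ≤ sigmaCore M := (BB.S1431 hG M h.pm.coatom K h.pm.hall h.pm.ne).2.2.2 Y hY.2.1 h1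
  have h3 : Y ≤ K' := by
    intro y hy
    have h4 : y ∈ Zof M K := by
      rw [← h.inf_eq hG]
      exact ⟨ms_le M (h2 hy), hY.1 hy⟩
    rw [← h.e]
    exact h.pm.mem_kst hG h4 (ms_pi hG h.pm.coatom (h2 hy))
  rw [le_antisymm hle h3]
  exact hY

/-- (d) -/
theorem Dual.cent_K {x : G} (hx : x ∈ K) (hx1 : x ≠ 1) :
    M ⊓ centralizer ({x} : Set G) = Zof M K := by
  have hX : zpowers x ≤ K := by rwa [zpowers_le]
  have hX1 : zpowers x ≠ ⊥ := by rwa [Ne, Subgroup.zpowers_eq_bot]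
  apply le_antisymm
  · rw [← h.inf_nz hG hX hX1, ← cent_zpowers]
    exact inf_le_inf_left _ (cent_le_nz _)
  · refine le_inf h.pm.Z_le fun z hz => ?_
    rw [mem_cent_singleton]
    exact comm_of_cyclic (h.cyclic_Z hG) z hz x (Subgroup.mem_sup_left hx)

theorem Dual.cent_K' {y : G} (hy : y ∈ K') (hy1 : y ≠ 1) :
    M' ⊓ centralizer ({y} : Set G) = Zof M K := by
  rw [h.symm.cent_K hG hy hy1, h.Z_eq]

theorem Dual.cent_mul {x y : G} (hx : x ∈ K) (hx1 : x ≠ 1) (hy : y ∈ K') (hy1 : y ≠ 1) :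
    centralizer ({x * y} : Set G) = Zof M K := by
  have hyK : y ∈ Kst M K := by rw [h.e]; exact hy
  have hc : y * x = x * y := (h.comm hx hy).symm
  have hcop := coprime_orderOf (h.pm.kst_pi hG hyK) (h.pm.K_pi hx)
  apply le_antisymm
  · have h1 : centralizer ({x * y} : Set G) ≤ centralizer ({y} : Set G) := by
      apply cent_le_of_mem_zpowers
      rw [← hc]; exact mem_zpowers_of_coprime hc hcop
    have h2 : centralizer ({x * y} : Set G) ≤ centralizer ({x} : Set G) := by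
      apply cent_le_of_mem_zpowers
      rw [← hc]; exact mem_zpowers_of_coprime' hc hcop
    rw [← h.cent_K hG hx hx1]
    exact le_inf (h1.trans (h.pm.cent_kst_le hG hyK hy1)) h2
  · intro z hz
    rw [mem_cent_singleton]
    refine comm_of_cyclic (h.cyclic_Z hG) z hz _ ?_
    exact Subgroup.mul_mem _ (Subgroup.mem_sup_left hx) (Subgroup.mem_sup_right hyK)

/-- `|C_G(Ẑ)| > |G|/2` -/
theorem Dual.big : Nat.card G < 2 * (conjSet (Zhat M K)).ncard := by
  have h1 := h.pm.count hG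
  have h2 := three_le_card hG h.pm.ne
  have h3 := three_le_card hG h.pm'.ne
  have h4 : Nat.card K ≠ Nat.card K' := by
    intro e
    have := h.coprime hG
    rw [e, Nat.coprime_self] at this
    omega
  have hko : Odd (Nat.card K) := Odd.of_dvd_nat hG.1 (Subgroup.card_subgroup_dvd_card K)
  have hko' : Odd (Nat.card K') := Odd.of_dvd_nat hG.1 (Subgroup.card_subgroup_dvd_card K')
  rw [h.e] at h1
  set k := Nat.card K
  set l := Nat.card K'
  set g := Nat.card G
  set n := (conjSet (Zhat M K)).ncard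
  have hgpos : 0 < g := Nat.card_pos
  have hkl : k + l ≤ k * l := by nlinarith
  obtain ⟨m, hm⟩ := Nat.exists_eq_add_of_le hkl
  have e1 : k * l - k - l + 1 = m + 1 := by omega
  rw [e1] at h1
  have h5 : k * l < 2 * (m + 1) := by
    obtain ⟨a, ha⟩ := hko
    obtain ⟨b, hb⟩ := hko'
    rcases Nat.lt_or_gt_of_ne h4 with hlt | hlt
    · have : k + 2 ≤ l := by omega
      nlinarith
    · have : l + 2 ≤ k := by omega
      nlinarith
  by_contra hcon
  push Not at hcon
  have h6 : k * l * (2 * n) ≤ k * l * g := Nat.mul_le_mul_left _ hcon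
  have h7 : k * l * (2 * n) = 2 * ((m + 1) * g) := by rw [← h1]; ring
  have h8 : k * l * g < 2 * (m + 1) * g := Nat.mul_lt_mul_of_pos_right h5 hgpos
  nlinarith

theorem Dual.mem_pi {z : G} (hz : z ∈ Zof M K) {p : ℕ} (hp : p.Prime) (hd : p ∣ orderOf z) :
    p ∈ sigma M ∨ p ∈ sigma M' := by
  have h1 : p ∣ Nat.card (Zof M K) := by
    refine hd.trans ?_
    rw [← Nat.card_zpowers]; exact card_dvd_of_le (by rwa [zpowers_le])
  rw [h.pm.card_Z hG] at h1
  rcases hp.dvd_mul.1 h1 with h1 | h1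
  · exact Or.inr (h.symm.K'_pi hG p hp h1)
  · rw [h.e] at h1
    exact Or.inl (h.K'_pi hG p hp h1)

/-- (g) -/
theorem Dual.classes {A B : Subgroup G} (hA : PM A B) :
    (∃ g : G, A = cj g M) ∨ (∃ g : G, A = cj g M') := by
  obtain ⟨A', hD, -⟩ := hA.exists_dual hG
  have h1 := h.big hG
  have h2 := hD.big hG
  have h3 : ¬ Disjoint (conjSet (Zhat M K)) (conjSet (Zhat A B)) := by
    intro hdis
    have h4 := Set.ncard_union_eq hdis (Set.toFinite _) (Set.toFinite _)
    have h5 : (conjSet (Zhat M K) ∪ conjSet (Zhat A B)).ncard ≤ Nat.card G := by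
      rw [← Set.ncard_univ]
      exact Set.ncard_le_ncard (Set.subset_univ _) (Set.toFinite _)
    omega
  rw [Set.not_disjoint_iff] at h3
  obtain ⟨z, ⟨a, u, hu, e1⟩, ⟨b, v, hv, e2⟩⟩ := h3
  obtain ⟨k, hk, y, hy, hk1, hy1, rfl⟩ := mem_Zhat hv
  obtain ⟨p, hp, hd⟩ := Nat.exists_prime_and_dvd (n := orderOf y)
    (fun e => hy1 (orderOf_eq_one_iff.1 e))
  have hpA : p ∈ sigma A := hA.kst_pi hG hy p hp hd
  have hdv : p ∣ orderOf (k * y) := by
    refine hd.trans ?_
    have hyz : y ∈ zpowers (k * y) := by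
      rw [kst_comm hk hy]
      exact mem_zpowers_of_coprime (kst_comm hk hy).symm
        (coprime_orderOf (hA.kst_pi hG hy) (hA.K_pi hk))
    exact orderOf_dvd_of_mem_zpowers hyz
  have hdz : p ∣ orderOf u := by
    rw [← orderOf_conj a u, ← e1, e2, orderOf_conj]; exact hdv
  rcases h.mem_pi hG hu.1 hp hdz with h6 | h6
  · exact Or.inl (sigma_conj hG h.pm.coatom hA.coatom h6 hpA)
  · exact Or.inr (sigma_conj hG h.pm'.coatom hA.coatom h6 hpA)

end DS

/-- a maximal subgroup with `κ(M) ≠ ∅` has a Hall `κ(M)`-subgroup `K ≠ 1` -/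
theorem exists_PM {M : Subgroup G} (hM : IsCoatom M) (h : (kappa M).Nonempty) :
    ∃ K : Subgroup G, PM M K := by
  obtain ⟨K, hK, -⟩ := exists_hallOf_ge (coatom_sol hG hM) (K := ⊥) bot_le (isPiSub_bot (kappa M))
  refine ⟨K, hM, hK, ?_⟩
  rintro rfl
  obtain ⟨p, hp⟩ := h
  have := hK.2.2 p hp.1 hp
  rw [Subgroup.relIndex_bot_left] at this
  exact this hp.2.1

end Cfsg.Agent.H21
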