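import Cfsg.Agent.H21.OT14o

set_option autoImplicit false

/-! The standard factorisation `M = K U M_σ`. -/

namespace Cfsg.Agent.H21

open Subgroup
open Cfsg.Agent.L (cj nz SylIn)
open Cfsg.Agent.H14 (IsPiSub)
open Cfsg.Agent.OOT
open scoped Pointwise

universe u
variable {G : Type u} [Group G]

theorem commutator_le_of_factor {M K N : Subgroup G} (hc : ∀ a ∈ K, ∀ b ∈ K, a * b = b * a)
    (hK : K ≤ M) (hn : M ≤ nz N) (hf : ∀ m ∈ M, ∃ a ∈ K, ∃ b ∈ N, m = a * b) : ⁅M, M⁆ ≤ N := by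
  rw [Subgroup.commutator_le]
  intro a ha b hb
  obtain ⟨k, hk, s, hs, rfl⟩ := hf a ha
  obtain ⟨l, hl, t, ht, rfl⟩ := hf b hb
  have mem : ∀ g ∈ M, ∀ n ∈ N, g * n * g⁻¹ ∈ N := fun g hg n hn' =>
    (Subgroup.mem_normalizer_iff.1 (hn hg) n).1 hn'
  have h1 : l⁻¹ * s * l * t ∈ N := by
    refine N.mul_mem ?_ ht
    have := mem l⁻¹ (M.inv_mem (hK hl)) s hs
    rwa [inv_inv] at this
  have h2 : k⁻¹ * t * k * s ∈ N := by
    refine N.mul_mem ?_ hs
    have := mem k⁻¹ (M.inv_mem (hK hk)) t ht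
    rwa [inv_inv] at this
  have h3 := mem (k * l) (M.mul_mem (hK hk) (hK hl)) _ (N.mul_mem h1 (N.inv_mem h2))
  have e : k * l * (l⁻¹ * s * l * t * (k⁻¹ * t * k * s)⁻¹) * (k * l)⁻¹ =
      k * s * (l * t) * (k * s)⁻¹ * (l * t)⁻¹ := by
    have hkl := hc k hk l hl
    calc k * l * (l⁻¹ * s * l * t * (k⁻¹ * t * k * s)⁻¹) * (k * l)⁻¹
        = k * s * l * t * s⁻¹ * k⁻¹ * t⁻¹ * k * (k * l)⁻¹ := by group
      _ = k * s * l * t * s⁻¹ * k⁻¹ * t⁻¹ * k * (l * k)⁻¹ := by rw [hkl]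
      _ = _ := by group
  show k * s * (l * t) * (k * s)⁻¹ * (l * t)⁻¹ ∈ N
  rw [← e]; exact h3

variable [Finite G] (hG : IsMinSimpleOddOrder G)
include hG

/-- rows S1351 -/
theorem kappa_hall_cyclic {M K : Subgroup G} (hM : IsCoatom M) (hK : IsPiHallOf (kappa M) K M) :
    IsCyclic K := by
  by_cases h : K = ⊥
  · rw [h]; infer_instance
  · obtain ⟨M', hD, -⟩ := PM.exists_dual hG (⟨hM, hK, h⟩ : PM M K)
    exact (hD.cyclic hG).1

theorem exists_kappa_hall {M : Subgroup G} (hM : IsCoatom M) :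
    ∃ K : Subgroup G, IsPiHallOf (kappa M) K M := by
  obtain ⟨K, hK, -⟩ := exists_hallOf_ge (coatom_sol hG hM) (K := ⊥) bot_le (isPiSub_bot (kappa M))
  exact ⟨K, hK⟩

/-- a Hall `(κ ∪ σ)'`-subgroup `U` normalized by `K` gives the standard factorisation -/
theorem dec_of_hall {M K U : Subgroup G} (hM : IsCoatom M) (hK : IsPiHallOf (kappa M) K M)
    (hU : IsPiHallOf {q | q.Prime ∧ q ∉ kappa M ∧ q ∉ sigma M} U M) (hKU : K ≤ nz U) :
    IsSigmaDecomposition M K U := by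
  have hn : U ≤ nz (K ⊔ sigmaCore M) → True := fun _ => trivial
  have hle : K ⊔ sigmaCore M ≤ M := sup_le hK.1 (ms_le M)
  have hc1 := card_K_sup_ms hG hM hK
  have hs : IsPiSub {q | q ∈ kappa M ∨ q ∈ sigma M} (K ⊔ sigmaCore M) := by
    intro q hq hd
    rw [hc1] at hd
    rcases hq.dvd_mul.1 hd with hd | hd
    · exact Or.inl (hK.2.1 q hq hd)
    · exact Or.inr ((ms_hall hG hM).2.1 q hq hd)
  have hdis : (K ⊔ sigmaCore M) ⊓ U = ⊥ :=
    inf_bot_of_pi hs (fun q hq hd => by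
      rintro (h | h)
      · exact (hU.2.1 q hq hd).2.1 h
      · exact (hU.2.1 q hq hd).2.2 h)
  -- order of `M`
  have hUM : Nat.card U * Nat.card (K ⊔ sigmaCore M : Subgroup G) = Nat.card M := by
    have hcop : (Nat.card U).Coprime (Nat.card (K ⊔ sigmaCore M : Subgroup G)) := by
      refine Nat.coprime_of_dvd fun q hq h1 h2 => ?_
      rcases hs q hq h2 with h | h
      · exact (hU.2.1 q hq h1).2.1 h
      · exact (hU.2.1 q hq h1).2.2 h
    have hd := hcop.mul_dvd_of_dvd_of_dvd (card_dvd_of_le hU.1) (card_dvd_of_le hle)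
    obtain ⟨c, hc⟩ := hd
    have hc1' : c = 1 := by
      by_contra hne
      obtain ⟨p, hp, hpd⟩ := Nat.exists_prime_and_dvd hne
      have h1 : c ∣ U.relIndex M := by
        have := L.card_mul_relIndex hU.1
        rw [hc, mul_assoc] at this
        exact ⟨_, by rw [Nat.eq_of_mul_eq_mul_left Nat.card_pos this]; ring⟩
      have h2 : c ∣ K.relIndex M := by
        have := L.card_mul_relIndex hK.1
        rw [hc, hc1] at this
        refine ⟨Nat.card U * Nat.card (sigmaCore M), Nat.eq_of_mul_eq_mul_left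
          (Nat.card_pos : 0 < Nat.card K) (by rw [this]; ring)⟩
      have h3 : c ∣ (sigmaCore M).relIndex M := by
        have := L.card_mul_relIndex (ms_le M)
        rw [hc, hc1] at this
        refine ⟨Nat.card U * Nat.card K, Nat.eq_of_mul_eq_mul_left
          (Nat.card_pos : 0 < Nat.card (sigmaCore M)) (by rw [this]; ring)⟩
      have h4 : p ∉ kappa M := fun h => hK.2.2 p hp h (hpd.trans h2)
      have h5 : p ∉ sigma M := fun h => (ms_hall hG hM).2.2 p hp h (hpd.trans h3)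
      exact hU.2.2 p hp ⟨hp, h4, h5⟩ (hpd.trans h1)
    rw [hc, hc1', mul_one]
  refine ⟨kappa_hall_cyclic hG hM hK, hK, ⟨hU.1, hle, by rw [inf_comm]; exact hdis, ?_⟩, hKU⟩
  -- `M = U (K M_σ)`
  intro m hm
  have hUn : (U ⊔ K) ⊔ sigmaCore M = M := by
    apply Subgroup.eq_of_le_of_card_ge (sup_le (sup_le hU.1 hK.1) (ms_le M))
    have hd1 : Nat.card U ∣ Nat.card ((U ⊔ K) ⊔ sigmaCore M : Subgroup G) :=
      card_dvd_of_le (le_sup_left.trans le_sup_left)
    have hd2 : Nat.card (K ⊔ sigmaCore M : Subgroup G) ∣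
        Nat.card ((U ⊔ K) ⊔ sigmaCore M : Subgroup G) :=
      card_dvd_of_le (sup_le (le_sup_right.trans le_sup_left) le_sup_right)
    have hcop : (Nat.card U).Coprime (Nat.card (K ⊔ sigmaCore M : Subgroup G)) := by
      refine Nat.coprime_of_dvd fun q hq h1 h2 => ?_
      rcases hs q hq h2 with h | h
      · exact (hU.2.1 q hq h1).2.1 h
      · exact (hU.2.1 q hq h1).2.2 h
    rw [← hUM]
    exact Nat.le_of_dvd Nat.card_pos (hcop.mul_dvd_of_dvd_of_dvd hd1 hd2)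
  rw [← hUn] at hm
  obtain ⟨e, he, s, hs, rfl⟩ := (H1.mem_sup_iff_of_le_normalizer' (N := sigmaCore M) (H := U ⊔ K)
    ((sup_le hU.1 hK.1).trans (le_nz_ms M))).1 (by rw [sup_comm]; exact hm)
  obtain ⟨u, hu, k, hk, rfl⟩ := (H1.mem_sup_iff_of_le_normalizer hKU).1 he
  exact ⟨u, hu, k * s, Subgroup.mul_mem _ (Subgroup.mem_sup_left hk) (Subgroup.mem_sup_right hs),
    by rw [mul_assoc]⟩

/-- S1352 -/
theorem exists_dec {M K : Subgroup G} (hM : IsCoatom M) (hK : IsPiHallOf (kappa M) K M) :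
    ∃ U : Subgroup G, IsSigmaDecomposition M K U := by
  by_cases h : K = ⊥
  · obtain ⟨U, hU, -⟩ := exists_hallOf_ge (coatom_sol hG hM) (K := ⊥) bot_le
      (isPiSub_bot {q | q.Prime ∧ q ∉ kappa M ∧ q ∉ sigma M})
    exact ⟨U, dec_of_hall hG hM hK hU (by rw [h]; exact bot_le)⟩
  · obtain ⟨-, ⟨U, hUc, hU, hKU, hUK⟩, -⟩ := BB.S1430 hG M hM K hK h
    exact ⟨U, dec_of_hall hG hM hK hU hKU⟩

section Dec
variable {M K U : Subgroup G} (hM : IsCoatom M) (h : IsSigmaDecomposition M K U)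
include hM h

omit [Finite G] hG in
theorem dec_PM (hK : K ≠ ⊥) : PM M K := ⟨hM, h.hall, hK⟩

theorem dec_U_comm (hK : K ≠ ⊥) : IsMulCommutative U := by
  obtain ⟨-, ⟨U₀, hUc, hU₀, -, -⟩, -⟩ := BB.S1430 hG M hM K h.hall hK
  obtain ⟨m, hm, hle⟩ := OOT.IsPiHallOf.exists_conj_le (coatom_sol hG hM) hU₀
    (dec_U_le h) (dec_U_hall hG hM h).2.1
  rw [mulComm_iff] at hUc ⊢
  intro a ha b hb
  have h1 := hUc _ (hle (L.conj_mem_cj ha)) _ (hle (L.conj_mem_cj hb))
  have h2 : m * (a * b) * m⁻¹ = m * (b * a) * m⁻¹ := by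
    calc m * (a * b) * m⁻¹ = (m * a * m⁻¹) * (m * b * m⁻¹) := by group
      _ = (m * b * m⁻¹) * (m * a * m⁻¹) := h1
      _ = _ := by group
  simpa using h2

theorem dec_U_elt {u : G} (hu : u ∈ U) : PiElt {p | p ∉ sigma M} u :=
  piElt_of_mem (π := {p | p ∉ sigma M}) (fun p hp hd => (dec_U_pi hG hM h p hp hd).2) hu

theorem dec_U_elt' {u : G} (hu : u ∈ U) : PiElt {p | p ∉ kappa M} u :=
  piElt_of_mem (π := {p | p ∉ kappa M}) (fun p hp hd => (dec_U_pi hG hM h p hp hd).1) hu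

/-- S1353 -/
theorem dec_free {k : G} (hk : k ∈ K) (hk1 : k ≠ 1) : U ⊓ centralizer ({k} : Set G) = ⊥ := by
  have hK : K ≠ ⊥ := fun e => hk1 (by rw [e] at hk; exact Subgroup.mem_bot.1 hk)
  obtain ⟨M', hD, -⟩ := PM.exists_dual hG (dec_PM hM h hK)
  rw [eq_bot_iff]
  rintro u ⟨hu, huk⟩
  have h1 : u ∈ Zof M K := by
    rw [← hD.cent_K hG hk hk1]; exact ⟨dec_U_le h hu, huk⟩
  have h2 : u ∈ K := (dec_PM hM h hK).mem_K hG h1 (dec_U_elt hG hM h hu)
  have h3 : u ∈ U ⊓ K := ⟨hu, h2⟩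
  rwa [dec_U_inf_K hG hM h] at h3

/-- S1354 -/
theorem dec_cent {k : G} (hk : k ∈ K) (hk1 : k ≠ 1) :
    M ⊓ centralizer ({k} : Set G) = Zof M K := by
  have hK : K ≠ ⊥ := fun e => hk1 (by rw [e] at hk; exact Subgroup.mem_bot.1 hk)
  obtain ⟨M', hD, -⟩ := PM.exists_dual hG (dec_PM hM h hK)
  exact hD.cent_K hG hk hk1

/-- `U = 1` iff `M ∈ M_P1` -/
theorem dec_P1_iff : IsP1 M ↔ U = ⊥ := by
  constructor
  · intro h1
    by_contra hne
    obtain ⟨p, hp, hd⟩ := Nat.exists_prime_and_dvd (fun h' => hne (Subgroup.card_eq_one.1 h'))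
    obtain ⟨h2, h3⟩ := dec_U_pi hG hM h p hp hd
    exact h2 (h1 p hp (hd.trans (card_dvd_of_le (dec_U_le h))) h3)
  · intro h1 q hq hd hs
    have e := dec_card hG hM h
    rw [h1, Subgroup.card_bot, one_mul] at e
    rw [← e] at hd
    rcases hq.dvd_mul.1 hd with h2 | h2
    · exact h.hall.2.1 q hq h2
    · exact absurd ((ms_hall hG hM).2.1 q hq h2) hs

theorem dec_coprime_UK : (Nat.card K).Coprime (Nat.card U) := by
  refine Nat.coprime_of_dvd fun r hr h1 h2 => ?_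
  exact (dec_U_pi hG hM h r hr h2).1 (h.hall.2.1 r hr h1)

theorem dec_U_sol : Group.IsSolvable U := H1.isSolvable_of_le (dec_U_le h) (coatom_sol hG hM)

/-- `U = [U, K]` -/
theorem dec_commutator (hK : K ≠ ⊥) : ⁅U, K⁆ = U := by
  obtain ⟨k, hk, hk1⟩ := exists_ne_one hK
  have h3 := H1.commutator_sup_centralizer K U h.normal (dec_coprime_UK hG hM h)
    (Or.inr (dec_U_sol hG hM h))
  have h4 : U ⊓ centralizer (K : Set G) = ⊥ := by
    rw [eq_bot_iff, ← dec_free hG hM h hk hk1]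
    exact inf_le_inf_left _ (centralizer_le (Set.singleton_subset_iff.2 hk))
  rwa [h4, sup_bot_eq] at h3

/-- S1365 (first part) -/
theorem dec_derived (hK : K ≠ ⊥) : ⁅M, M⁆ = U ⊔ sigmaCore M := by
  apply le_antisymm
  · -- `M / U M_σ ≅ K` is abelian
    exact commutator_le_of_factor (comm_of_cyclic h.cyclic) h.hall.1 (dec_UMs_nz hG hM h)
      (fun m hm => (dec_compl_K hG hM h).2.2.2 m hm)
  · refine sup_le ?_ (sigmaCore_le_derived hG hM)
    rw [← dec_commutator hG hM h hK]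
    exact Subgroup.commutator_mono (dec_U_le h) h.hall.1

end Dec

end Cfsg.Agent.H21
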