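import Cfsg.Agent.H21.OT14p

set_option autoImplicit false

/-! Rows on the standard factorisation. -/

namespace Cfsg.Agent.H21

open Subgroup
open Cfsg.Agent.L (cj nz SylIn)
open Cfsg.Agent.H14 (IsPiSub)
open Cfsg.Agent.OOT
open scoped Pointwise

universe u
variable {G : Type u} [Group G]

variable [Finite G] (hG : IsMinSimpleOddOrder G)
include hG

section Dec
variable {M K U : Subgroup G} (hM : IsCoatom M) (h : IsSigmaDecomposition M K U)
include hM h

theorem dec_E_P1 (hU : U = ⊥) : IsComplIn K (sigmaCore M) M := by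
  have := dec_compl hG hM h
  rwa [hU, bot_sup_eq] at this

/-- S1365 (second part) -/
theorem dec_kst_le (hK : K ≠ ⊥) : Kst M K ≤ ⁅⁅M, M⁆, ⁅M, M⁆⁆ := by
  rw [dec_derived hG hM h hK]
  by_cases hU : U = ⊥
  · rw [hU, bot_sup_eq]
    exact (BB.S1426 hG M hM K (dec_E_P1 hG hM h hU)).1
  · have hP1 : ¬ IsP1 M := fun h1 => hU ((dec_P1_iff hG hM h).1 h1)
    obtain ⟨-, hn, hc⟩ := not_p1_facts hG hM hP1 (dec_U_hall hG hM h)
    have hcop : (Nat.card U).Coprime (Nat.card (sigmaCore M)) := by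
      refine Nat.coprime_of_dvd fun q hq h1 h2 => ?_
      exact (dec_U_pi hG hM h q hq h1).2 ((ms_hall hG hM).2.1 q hq h2)
    have h3 := H1.commutator_sup_centralizer U (sigmaCore M) ((dec_U_le h).trans (le_nz_ms M)) hcop
      (Or.inl (dec_U_sol hG hM h))
    rw [hc, sup_bot_eq] at h3
    refine (kst_le_ms M K).trans (h3.ge.trans ?_)
    exact Subgroup.commutator_mono le_sup_right le_sup_left

theorem dec_kappa_eq (hK : K ≠ ⊥) : kappa M = tau1 M := by
  have hcard : Nat.card ↥⁅M, M⁆ = Nat.card U * Nat.card (sigmaCore M) := by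
    rw [dec_derived hG hM h hK, dec_card_UMs hG hM h]
  ext p
  constructor
  · intro hp
    have hpF : Fact p.Prime := ⟨hp.1⟩
    refine ⟨hp.1, hp.2.2.1, hp.2.1, ?_, ?_⟩
    · rw [dec_derived hG hM h hK]
      intro hd
      exact (dec_UMs_hall hG hM h).2.1 p hp.1 hd hp
    · obtain ⟨P, hP⟩ := L.exists_sylIn (p := p) M
      exact (pRankLE_sylIn hP).1 (pRankLE_one_of_cyclic hp.1 ((mem_kappa_iff.1 hp).2.2.2 P hP).1)
  · rintro ⟨hp, hs, hd, hnd, -⟩
    by_contra hk
    rw [hcard] at hnd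
    have e := dec_card hG hM h
    rw [← e] at hd
    rcases hp.dvd_mul.1 hd with h1 | h1
    · exact hnd (Dvd.dvd.mul_right h1 _)
    · rcases hp.dvd_mul.1 h1 with h2 | h2
      · exact hk (h.hall.2.1 p hp h2)
      · exact hs ((ms_hall hG hM).2.1 p hp h2)

/-- S1358 -/
theorem dec_sylow_U (p : ℕ) (hp : p.Prime) (P : Sylow p U) :
    IsMulCommutative (P : Subgroup U) ∧ PRankLE p 2 (P : Subgroup U) := by
  have hpF : Fact p.Prime := ⟨hp⟩
  have hP := L.sylIn_of_sylow P
  set Q : Subgroup G := (P : Subgroup U).map U.subtype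
  have hQM : Q ≤ M := hP.le.trans (dec_U_le h)
  have h1 : IsMulCommutative Q := by
    refine (BB.S1420 hG M hM _ (dec_compl hG hM h)).1 Q hQM hP.isPGroup.isNilpotent ?_
    intro q hq hd
    exact (dec_U_pi hG hM h q hq (hd.trans (card_dvd_of_le hP.le))).2
  have e : (P : Subgroup U) ≃* Q :=
    (P : Subgroup U).equivMapOfInjective U.subtype U.subtype_injective
  refine ⟨?_, ?_⟩
  · rw [mulComm_iff] at h1 ⊢
    intro a ha b hb
    exact Subtype.ext (h1 a ⟨a, ha, rfl⟩ b ⟨b, hb, rfl⟩)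
  · by_cases hd : p ∣ Nat.card U
    · have h2 := rank_le_two hG hM hp (dec_U_pi hG hM h p hp hd).2
      exact (H10.pRankLE_congr e.symm).1 (H10.pRankLE_mono hQM h2)
    · exact (H10.pRankLE_congr e.symm).1 (H10.pRankLE_mono hP.le (pRankLE_of_not_dvd hd))

/-- the hypothesis of S1421 when `κ(M) = ∅` -/
theorem free_of_kappa_empty (hk : kappa M = ∅) {e : G} (he : e ∈ M) (he1 : e ≠ 1)
    (ht : ∀ p : ℕ, p.Prime → p ∣ orderOf e → p ∈ tau1 M ∪ tau3 M) :
    sigmaCore M ⊓ centralizer ({e} : Set G) = ⊥ := by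
  rw [eq_bot_iff]
  rintro y ⟨hy, hye⟩
  rw [Subgroup.mem_bot]
  by_contra hy1
  obtain ⟨p, hp, hd⟩ := Nat.exists_prime_and_dvd (n := orderOf e)
    (fun e' => he1 (orderOf_eq_one_iff.1 e'))
  obtain ⟨z, hz, hzp⟩ := exists_prime_power_elt hp hd
  have hzM : z ∈ M := (by rwa [zpowers_le] : zpowers e ≤ M) hz
  have hpt := ht p hp hd
  have hs : p ∉ sigma M := hpt.elim (fun h => h.2.1) (fun h => h.2.1)
  have h2 : p ∉ tau2 M := by
    intro h2
    exact h2.2.2.2 (hpt.elim (fun h => h.2.2.2.2) (fun h => h.2.2.2))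
  rcases kappa_or_tau2 hG hM hzM hp hzp hs hy hy1
    (commute_of_mem_zpowers hz (mem_cent_singleton.1 hye).symm) with h3 | h3
  · rw [hk] at h3; exact h3
  · exact h2 h3

theorem dec_tau2_elt {x u : G} (hx : x ∈ sigmaCore M) (hx1 : x ≠ 1) (hu : u ∈ M) (hu1 : u ≠ 1)
    (hσ : PiElt {p | p ∉ sigma M} u) (hκ : PiElt {p | p ∉ kappa M} u) (hux : u * x = x * u) :
    PiElt (tau2 M) u ∧ UniqIn (centralizer ({u} : Set G)) M := by
  rcases cor_14_3 hG hM hx hx1 hu hux hu1 hσ with ⟨h1, -⟩ | ⟨h1, -, h2⟩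
  · exact absurd (eq_one_of_piElt (π := kappa M) (π' := {p | p ∉ kappa M})
      (fun q _ hq hq' => hq' hq) h1 hκ) hu1
  · exact ⟨h1, h2⟩

/-- S1361 -/
theorem dec_uniq {X : Subgroup G} (hXU : X ≤ U) (hX : X ≠ ⊥)
    (hXc : sigmaCore M ⊓ centralizer (X : Set G) ≠ ⊥) : UniqIn (centralizer (X : Set G)) M := by
  obtain ⟨y, ⟨hy, hyX⟩, hy1⟩ := exists_ne_one hXc
  have hXM : X ≤ M := hXU.trans (dec_U_le h)
  have key : ∀ x ∈ X, x ≠ 1 → PiElt (tau2 M) x ∧ UniqIn (centralizer ({x} : Set G)) M := by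
    intro x hx hx1
    exact dec_tau2_elt hG hM h hy hy1 (hXM hx) hx1 (dec_U_elt hG hM h (hXU hx))
      (dec_U_elt' hG hM h (hXU hx)) (mem_cent_iff.1 hyX x hx).symm
  have hXt : IsPiSub (tau2 M) X := by
    intro q hq hd
    have hqF : Fact q.Prime := ⟨hq⟩
    obtain ⟨z, hz⟩ := exists_prime_orderOf_dvd_card' (G := X) q hd
    have hz1 : (z : G) ≠ 1 := by
      intro e
      have : z = 1 := Subtype.ext e
      rw [this, orderOf_one] at hz
      exact hq.one_lt.ne hz
    exact (key z z.2 hz1).1 q hq (by rw [Subgroup.orderOf_coe, hz])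
  have hXc : IsMulCommutative X := tau2_group_abelian hG hM hXM hXt
  -- `X` is a Z-group
  have hXZ : IsZGroup X := by
    apply isZGroup_of_sylIn
    intro p hp P hP
    have hpF : Fact p.Prime := ⟨hp⟩
    by_cases hd : p ∣ Nat.card X
    · apply isCyclic_of_pRankLE_one (prime_ne_two hG (hd.trans (card_dvd_of_le hXM))) hP.isPGroup
      by_contra hr
      obtain ⟨A, hA, hA1, hA2⟩ := exists_ea_of_not_pRankLE (k := 1) hr
      have hAX : A ≤ X := hA.trans hP.le
      have h1 := (BB.S1417 hG M hM p (hXt p hp hd) A ⟨hAX.trans hXM, hA1, hA2⟩).2.2.2.1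
      have : y ∈ sigmaCore M ⊓ centralizer (A : Set G) :=
        ⟨hy, centralizer_le hAX hyX⟩
      rw [h1, Subgroup.mem_bot] at this
      exact hy1 this
    · have : P = ⊥ := by
        obtain ⟨n, hn⟩ := IsPGroup.iff_card.1 hP.isPGroup
        rcases n with _ | n
        · rw [pow_zero] at hn
          exact Subgroup.card_eq_one.1 hn
        · exfalso
          apply hd
          refine Dvd.dvd.trans ?_ (card_dvd_of_le hP.le)
          rw [hn]; exact dvd_pow_self p (Nat.succ_ne_zero n)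
      rw [this]; infer_instance
  have hXn : Group.IsNilpotent X := by
    have : ∀ a b : X, a * b = b * a := fun a b => Subtype.ext (mulComm_iff.1 hXc a a.2 b b.2)
    let _ : CommGroup X := { (inferInstance : Group X) with mul_comm := this }
    exact CommGroup.isNilpotent
  have hXcyc : IsCyclic X := inferInstance
  obtain ⟨g, hg⟩ := hXcyc.exists_generator
  have hgX : zpowers (g : G) = X := by
    apply le_antisymm
    · rw [zpowers_le]; exact g.2
    · intro x hx
      obtain ⟨n, hn⟩ := hg ⟨x, hx⟩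
      exact ⟨n, congrArg Subtype.val hn⟩
  have hg1 : (g : G) ≠ 1 := by
    intro e
    rw [e, zpowers_one_eq_bot] at hgX
    exact hX hgX.symm
  rw [← hgX, cent_zpowers]
  exact (key g g.2 hg1).2

end Dec

end Cfsg.Agent.H21
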