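import Cfsg.Agent.H21.OT14q
import Cfsg.Agent.H21.BBx

set_option autoImplicit false

/-! Rows on the standard factorisation. -/

namespace Cfsg.Agent.H21

open Subgroup
open Cfsg.Agent.L (cj nz SylIn)
open Cfsg.Agent.H14 (IsPiSub)
open Cfsg.Agent.OOT
open scoped Pointwise

universe u
variable {G : Type u} [Group G]

variable [Finite G] (hG : IsMinSimpleOddOrder G)
include hG

section Dec
variable {M K U : Subgroup G} (hM : IsCoatom M) (h : IsSigmaDecomposition M K U)
include hM h


/-- S1359 -/
theorem dec_hat_abelian : IsMulCommutative (Subgroup.closure ((U : Set G) ∩ sigmaHat M)) := by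
  by_cases hK : K = ⊥
  · have hk : kappa M = ∅ := by
      rw [Set.eq_empty_iff_forall_notMem]
      intro p hp
      have := h.hall.2.2 p hp.1 hp
      rw [hK, Subgroup.relIndex_bot_left] at this
      exact this hp.2.1
    have hE : IsComplIn U (sigmaCore M) M := by
      have := dec_compl hG hM h
      rwa [hK, sup_bot_eq] at this
    obtain ⟨⟨A₀, hA, -, hAc, hA'⟩, -⟩ := BB.S1421 hG M hM U hE
      (fun e he he1 ht => free_of_kappa_empty hG hM h hk (dec_U_le h he) he1 ht)
    have hle : Subgroup.closure ((U : Set G) ∩ sigmaHat M) ≤ A₀ := by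
      rw [Subgroup.closure_le]
      rintro a ⟨haU, -, y, hy, hy1, hay⟩
      exact hA' y hy hy1 ⟨haU, mem_cent_singleton.2 hay⟩
    rw [mulComm_iff] at hAc ⊢
    exact fun a ha b hb => hAc a (hle ha) b (hle hb)
  · have hU := dec_U_comm hG hM h hK
    have hle : Subgroup.closure ((U : Set G) ∩ sigmaHat M) ≤ U := by
      rw [Subgroup.closure_le]
      exact Set.inter_subset_left
    rw [mulComm_iff] at hU ⊢
    exact fun a ha b hb => hU a (hle ha) b (hle hb)


end Dec

end Cfsg.Agent.H21
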