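import Cfsg.Agent.H21.OT14r
import Cfsg.Agent.H21.FrobAct

set_option autoImplicit false

/-! 14.11 of Bender-Glauberman. -/

namespace Cfsg.Agent.H21

open Subgroup
open Cfsg.Agent.L (cj nz SylIn)
open Cfsg.Agent.H14 (IsPiSub)
open Cfsg.Agent.OOT
open scoped Pointwise

universe u
variable {G : Type u} [Group G]

variable [Finite G] (hG : IsMinSimpleOddOrder G)
include hG

theorem sigma_group_abelian {M E N : Subgroup G} (hM : IsCoatom M)
    (hE : IsComplIn E (sigmaCore M) M) (hN : N ≤ M) (hn : Group.IsNilpotent N)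
    (h : IsPiSub {p | p ∉ sigma M} N) : IsMulCommutative N :=
  (BB.S1420 hG M hM E hE).1 N hN hn h

omit [Finite G] hG in
theorem cent_eq_of_prime {Q : Subgroup G} [Finite G] (hq : (Nat.card Q).Prime) {h : G} (hh : h ∈ Q)
    (h1 : h ≠ 1) : centralizer ({h} : Set G) = centralizer (Q : Set G) := by
  rw [← zpowers_eq_of_card_prime hq hh h1, cent_zpowers]

theorem beta_core {L : Subgroup G} (hL : IsCoatom L) :
    IsPiHallOf (beta L) (piCoreOf (beta L) L) L := (BB.S1414 hG L hL).1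

/-- 14.11 -/
theorem thm_14_11 {M E : Subgroup G} (hM : IsCoatom M) (hκ : kappa M = ∅)
    (hE : IsComplIn E (sigmaCore M) M) {q : ℕ} (hq : q.Prime) {Q : Subgroup G} (hQE : Q ≤ E)
    (hQ : Nat.card Q = q) (hQF : ¬ Q ≤ fittingOf E) :
    ∃ L : Subgroup G, IsCoatom L ∧ ((q ∈ tau2 L ∧ UniqIn (centralizer (Q : Set G)) L) ∨
      (q ∈ kappa L ∧ IsP1 L)) := by
  have hqF : Fact q.Prime := ⟨hq⟩
  have hEM : E ≤ M := hE.1
  have hQM : Q ≤ M := hQE.trans hEM
  have hEs : IsPiSub {p | p ∉ sigma M} E := (compl_hall hG hM hE).2.1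
  have hqE : q ∣ Nat.card E := by rw [← hQ]; exact card_dvd_of_le hQE
  have hqs : q ∉ sigma M := hEs q hq hqE
  have hQp : IsPGroup q Q := IsPGroup.of_card (n := 1) (by rw [hQ, pow_one])
  have hQpr : (Nat.card Q).Prime := by rw [hQ]; exact hq
  have hQ1 : Q ≠ ⊥ := ne_bot_of_card_prime hQpr
  have hsE : Group.IsSolvable E := H1.isSolvable_of_le hEM (coatom_sol hG hM)
  set F := fittingOf E with hF
  have hFn : Group.IsNilpotent F := fittingOf_nilpotent E
  have hFE : F ≤ E := fittingOf_le E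
  -- the prime `s`
  obtain ⟨s, hs, hsd, hsQ⟩ : ∃ s : ℕ, s.Prime ∧ s ∣ Nat.card F ∧
      ¬ Q ≤ centralizer (H1.part s F : Set G) := by
    by_contra hcon
    push Not at hcon
    apply hQF
    have h1 : F ≤ centralizer (Q : Set G) := by
      apply H1.le_of_part_le hFn
      intro p hp hd
      exact le_cent_comm.1 (hcon p hp.out hd)
    exact (le_inf hQE (le_cent_comm.1 h1)).trans (centralizer_fittingOf_le hsE)
  have hsF : Fact s.Prime := ⟨hs⟩
  set S := H1.part s F with hS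
  have hSF : S ≤ F := H1.part_le s F
  have hSE : S ≤ E := hSF.trans hFE
  have hSp : IsPGroup s S := H1.part_isPGroup s F
  have hEnS : E ≤ nz S := (le_normalizer_fittingOf E).trans (H1.normalizer_le_normalizer_part s F)
  have hss : s ∉ sigma M := hEs s hs (hsd.trans (card_dvd_of_le hFE))
  have hSab : IsMulCommutative S := sigma_group_abelian hG hM hE (hSE.trans hEM) hSp.isNilpotent
    (isPiSub_of_isPGroup (π := {p | p ∉ sigma M}) hss hSp)
  have hsq : s ≠ q := by
    rintro rfl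
    apply hsQ
    have h1 : IsPGroup s (S ⊔ Q : Subgroup G) :=
      H1.isPGroup_sup_of_le_normalizer hSp hQp (hQE.trans hEnS)
    have h2 : IsMulCommutative (S ⊔ Q : Subgroup G) := sigma_group_abelian hG hM hE
      (sup_le (hSE.trans hEM) hQM) h1.isNilpotent
      (isPiSub_of_isPGroup (π := {p | p ∉ sigma M}) hss h1)
    rw [mulComm_iff] at h2
    intro x hx
    rw [mem_cent_iff]
    exact fun y hy => h2 x (Subgroup.mem_sup_right hx) y (Subgroup.mem_sup_left hy)
  have hcopQS : (Nat.card Q).Coprime (Nat.card S) := by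
    obtain ⟨n, hn⟩ := IsPGroup.iff_card.1 hSp
    rw [hn, hQ]
    exact Nat.Coprime.pow_right _ ((Nat.coprime_primes hq hs).2 (Ne.symm hsq))
  -- `A = Ω₁(S)`
  set A := omZ s S with hA
  have hAS : A ≤ S := omZ_le s S
  have hAea : IsElementaryAbelian s A := isEA_omZ s S
  have hAp : IsPGroup s A := isEA_isPGroup hAea
  have hEnA : E ≤ nz A := hEnS.trans (normalizer_le_normalizer_omZ s S)
  have hAE : A ≤ E := hAS.trans hSE
  have hAQ : ¬ Q ≤ centralizer (A : Set G) := by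
    intro h
    apply hsQ
    have := hSab
    apply H1.abelian_coprime_trivial_of_omega Q S (hQE.trans hEnS) hcopQS
    intro v hv hvp a ha
    have hvs : orderOf v = s := by
      have : orderOf v ∣ Nat.card S := by
        rw [← Nat.card_zpowers]; exact card_dvd_of_le (by rwa [zpowers_le])
      obtain ⟨n, hn⟩ := IsPGroup.iff_card.1 hSp
      rw [hn] at this
      exact (Nat.prime_dvd_prime_iff_eq hvp hs).1 (hvp.dvd_of_dvd_pow this)
    have hvA : v ∈ A := by
      rw [hA, mem_omZ]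
      refine ⟨⟨hv, ?_⟩, by rw [← hvs]; exact pow_orderOf_eq_one v⟩
      rw [mem_cent_iff]
      exact fun y hy => mulComm_iff.1 hSab v hv y hy
    exact mem_cent_iff.1 (h ha) v hvA
  have hcopQA : (Nat.card Q).Coprime (Nat.card A) :=
    Nat.Coprime.coprime_dvd_right (card_dvd_of_le hAS) hcopQS
  have hAc : IsMulCommutative A := hAea.1
  obtain ⟨d1, d2⟩ := H1.abelian_coprime_decomposition Q A (hQE.trans hEnA) hcopQA
  set X := ⁅A, Q⁆ with hX
  have hXA : X ≤ A := H1.commutator_le_left_of_le_normalizer (hQE.trans hEnA)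
  have hX1 : X ≠ ⊥ := by
    intro h
    apply hAQ
    rw [h, sup_bot_eq] at d2
    exact le_cent_comm.1 (inf_eq_left.1 d2)
  have hXp : IsPGroup s X := hAp.to_le hXA
  have hQX : Q ≤ nz X := H1.right_le_normalizer_commutator A Q
  have hXQ : X ⊓ centralizer (Q : Set G) = ⊥ := by
    rw [eq_bot_iff, ← d1]
    rintro x ⟨h1, h2⟩
    exact ⟨⟨hXA h1, h2⟩, h1⟩
  have hinf : X ⊓ Q = ⊥ := by
    refine inf_bot_of_pi (π := {s}) (isPiSub_of_isPGroup (Set.mem_singleton s) hXp) ?_
    exact isPiSub_of_isPGroup (π := {p | p ∉ ({s} : Set ℕ)}) (fun h => hsq h.symm) hQp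
  -- `M_σ` is nilpotent
  have hP1 : ¬ IsP1 M := by
    intro h
    have := h q hq (hqE.trans (card_dvd_of_le hEM)) hqs
    rw [hκ] at this
    exact this
  have hMn : Group.IsNilpotent (sigmaCore M) := by
    obtain ⟨P⟩ : Nonempty (Sylow q M) := inferInstance
    exact (BB.S1429 hG M hM hP1 q (hqE.trans (card_dvd_of_le hEM))
      (fun hc => hc.elim hqs (by rw [hκ]; exact fun h => h)) P).2.2
  -- `C_{M_σ}(Q) = 1`
  have hq2 : q ∉ tau2 M := by
    intro h2
    obtain ⟨B, hB, hB1, hB2⟩ := exists_ea_sq hG hM hE h2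
    obtain ⟨h3, h4⟩ := (BB.S1418 hG M hM E hE q h2 B ⟨hB, hB1, hB2⟩).1
    apply hQF
    exact (h4 Q hQE hQ).trans (le_fittingOf hB h3 (isEA_isPGroup hB1).isNilpotent)
  have hcQ : sigmaCore M ⊓ centralizer (Q : Set G) = ⊥ := by
    rw [eq_bot_iff]
    rintro y ⟨hy, hyQ⟩
    rw [Subgroup.mem_bot]
    by_contra hy1
    obtain ⟨h, hh, hh1⟩ := exists_ne_one hQ1
    have hho : orderOf h = q := by
      rw [← Nat.card_zpowers, zpowers_eq_of_card_prime hQpr hh hh1, hQ]
    rcases kappa_or_tau2 hG hM (hQM hh) hq hho hqs hy hy1 (mem_cent_iff.1 hyQ h hh).symm with h3 | h3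
    · rw [hκ] at h3; exact h3
    · exact hq2 h3
  have hcop : ∀ {N : Subgroup G}, N ≤ E → (Nat.card N).Coprime (Nat.card (sigmaCore M)) := by
    intro N hN
    refine Nat.coprime_of_dvd fun p hp h1 h2 => ?_
    exact hEs p hp (h1.trans (card_dvd_of_le hN)) ((ms_hall hG hM).2.1 p hp h2)
  have hXE : X ≤ E := hXA.trans hAE
  have hXc : X ≤ centralizer (sigmaCore M : Set G) := by
    refine frob_act hMn ((hXE.trans hEM).trans (le_nz_ms M)) (hQM.trans (le_nz_ms M)) hQX hinf ?_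
      (hcop hXE) (hcop hQE) hcQ
    intro h hh hh1 k hk hhk
    have h2 : k ∈ X ⊓ centralizer (Q : Set G) := by
      refine ⟨hk, ?_⟩
      rw [← cent_eq_of_prime hQpr hh hh1]
      exact mem_cent_singleton.2 hhk.symm
    rw [hXQ, Subgroup.mem_bot] at h2
    exact h2
  -- `s ∈ τ₂(M)`
  obtain ⟨y, hy, hy1⟩ := exists_ne_one (sigmaCore_ne_bot hG hM)
  have hs2 : s ∈ tau2 M := by
    obtain ⟨x, hx, hx1⟩ := exists_ne_one hX1
    have hxs : orderOf x = s := by
      have h1 : x ^ s = 1 := hAea.2 x (hXA hx)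
      have h2 := orderOf_dvd_of_pow_eq_one h1
      rcases (Nat.dvd_prime hs).1 h2 with h3 | h3
      · exact absurd (orderOf_eq_one_iff.1 h3) hx1
      · exact h3
    rcases kappa_or_tau2 hG hM (hEM (hXE hx)) hs hxs hss hy hy1 (mem_cent_iff.1 (hXc hx) y hy) with h3 | h3
    · rw [hκ] at h3; exact absurd h3 (fun h => h)
    · exact h3
  have hAcard : Nat.card A = s ^ 2 := by
    obtain ⟨B, hB, hB1, hB2⟩ := exists_ea_sq hG hM hE hs2
    obtain ⟨h3, h4⟩ := (BB.S1418 hG M hM E hE s hs2 B ⟨hB, hB1, hB2⟩).1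
    have hBF : B ≤ F := le_fittingOf hB h3 (isEA_isPGroup hB1).isNilpotent
    have hBS : B ≤ S := H1.le_part hFn hBF (isEA_isPGroup hB1)
    have hBA : B ≤ A := by
      intro b hb
      rw [hA, mem_omZ]
      refine ⟨⟨hBS hb, ?_⟩, hB1.2 b hb⟩
      rw [mem_cent_iff]
      exact fun y hy => mulComm_iff.1 hSab b (hBS hb) y hy
    have h5 : s ^ 2 ∣ Nat.card A := by rw [← hB2]; exact card_dvd_of_le hBA
    have h6 : ¬ s ^ 3 ≤ Nat.card A := by
      intro h7
      exact not_pRankLE_of_ea (k := 2) (hAE.trans hEM) hAea h7 (rank_le_two hG hM hs hss)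
    obtain ⟨n, hn⟩ := IsPGroup.iff_card.1 hAp
    rw [hn] at h5 h6 ⊢
    have h7 : n < 3 := by
      by_contra hc
      exact h6 (Nat.pow_le_pow_right hs.pos (by omega))
    have h8 : 2 ≤ n := (Nat.pow_dvd_pow_iff_le_right hs.one_lt).1 h5
    have : n = 2 := by omega
    rw [this]
  have hcA := (BB.S1417 hG M hM s hs2 A ⟨hAE.trans hEM, hAea, hAcard⟩).2.2.2.1
  -- `Y = C_A(Q) ≠ 1`
  have hY1 : A ⊓ centralizer (Q : Set G) ≠ ⊥ := by
    intro h
    rw [h, bot_sup_eq] at d2
    rw [d2] at hXc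
    have : y ∈ sigmaCore M ⊓ centralizer (A : Set G) := ⟨hy, (le_cent_comm.1 hXc) hy⟩
    rw [hcA, Subgroup.mem_bot] at this
    exact hy1 this
  -- the maximal subgroup `L`
  obtain ⟨L, hL, hAL⟩ := exists_coatom_of_nz hG (card_sq_ne_bot hs hAcard) (ea_ne_top hG hs hAea)
  obtain ⟨hEL, hsL, hτL⟩ := tau2_sub_sigma hG hM hE hs2 hAE hAea hAcard hL hAL
  have hALs : A ≤ sigmaCore L := le_ms hG hL (hAE.trans hEL) (isPiSub_of_isPGroup hsL hAp)
  refine ⟨L, hL, ?_⟩
  have hsβ : s ∉ beta L := tau2_not_beta hG hM hs2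
  have hqL : q ∉ sigma L := by
    intro hqL
    have hQLs : Q ≤ sigmaCore L := le_ms hG hL (hQE.trans hEL) (isPiSub_of_isPGroup hqL hQp)
    by_cases hqβ : q ∈ beta L
    · have hQb : Q ≤ piCoreOf (beta L) L :=
        piSub_le_normal_hall (beta_core hG hL) (le_normalizer_piCoreOf _ _) (hQE.trans hEL)
          (isPiSub_of_isPGroup hqβ hQp)
      have hXb : X ≤ piCoreOf (beta L) L := by
        have h1 : A ≤ normalizer ((piCoreOf (beta L) L : Subgroup G) : Set G) :=
          (hAE.trans hEL).trans (le_normalizer_piCoreOf _ _)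
        have h2 : ⁅A, piCoreOf (beta L) L⁆ ≤ piCoreOf (beta L) L := by
          rw [Subgroup.commutator_comm]
          exact H1.commutator_le_left_of_le_normalizer h1
        exact (Subgroup.commutator_mono le_rfl hQb).trans h2
      apply hX1
      have h3 : IsPiSub {p | p ∉ beta L} X :=
        isPiSub_of_isPGroup (π := {p | p ∉ beta L}) hsβ hXp
      have h4 := inf_bot_of_pi (beta_core hG hL).2.1 h3
      rwa [inf_eq_right.2 hXb] at h4
    · obtain ⟨-, -, -, ⟨N, hN, hNn⟩, -⟩ := BB.S1414 hG L hL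
      have hsol : Group.IsSolvable (sigmaCore L) := H1.isSolvable_of_le (ms_le L) (coatom_sol hG hL)
      have hAQn : Q ≤ nz A := hQE.trans hEnA
      have hAQi : A ⊓ Q = ⊥ := by
        refine inf_bot_of_pi (π := {s}) (isPiSub_of_isPGroup (Set.mem_singleton s) hAp) ?_
        exact isPiSub_of_isPGroup (π := {p | p ∉ ({s} : Set ℕ)}) (fun h => hsq h.symm) hQp
      obtain ⟨g, hg, hle⟩ := OOT.IsPiHallOf.exists_conj_le hsol hN (K := A ⊔ Q)
        (sup_le hALs hQLs) (by
          intro p hp hd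
          rw [card_sup_of_le_nz hAQn hAQi, hAcard, hQ] at hd
          refine ⟨hp, ?_⟩
          rcases hp.dvd_mul.1 hd with hd | hd
          · rw [(Nat.prime_dvd_prime_iff_eq hp hs).1 (hp.dvd_of_dvd_pow hd)]; exact hsβ
          · rw [(Nat.prime_dvd_prime_iff_eq hp hq).1 hd]; exact hqβ)
      have hn : Group.IsNilpotent (A ⊔ Q : Subgroup G) := by
        have h1 : Group.IsNilpotent (cj g (A ⊔ Q)) := H1.isNilpotent_of_le hle hNn
        have h2 := H1.isNilpotent_map (MulAut.conj g⁻¹).toMonoidHom h1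
        change Group.IsNilpotent (cj g⁻¹ (cj g (A ⊔ Q))) at h2
        rwa [Cfsg.Agent.L.cj_inv_cj] at h2
      exact hAQ (nil_cent hn le_sup_right le_sup_left hcopQA)
  obtain ⟨w, hw, hw1⟩ := exists_ne_one hY1
  obtain ⟨h, hh, hh1⟩ := exists_ne_one hQ1
  have hho : orderOf h = q := by
    rw [← Nat.card_zpowers, zpowers_eq_of_card_prime hQpr hh hh1, hQ]
  have hhL : PiElt {p | p ∉ sigma L} h := by
    intro p hp hd
    rw [hho] at hd
    rw [(Nat.prime_dvd_prime_iff_eq hp hq).1 hd]; exact hqL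
  rcases cor_14_3 hG hL (hALs hw.1) hw1 ((hQE.trans hEL) hh) (mem_cent_iff.1 hw.2 h hh).symm hh1 hhL
    with ⟨h1, -⟩ | ⟨h1, -, h2⟩
  · right
    have hqk : q ∈ kappa L := h1 q hq (by rw [hho])
    refine ⟨hqk, ?_⟩
    by_contra hnP
    obtain ⟨KL, hKL⟩ := exists_PM hG hL ⟨q, hqk⟩
    exact hsβ (hKL.sigma_sub_beta hG hnP hsL)
  · left
    refine ⟨h1 q hq (by rw [hho]), ?_⟩
    rw [← cent_eq_of_prime hQpr hh hh1]; exact h2

end Cfsg.Agent.H21
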