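import Cfsg.Agent.H21.OT14s

set_option autoImplicit false

/-! 14.12 of Bender-Glauberman (S1435). -/

namespace Cfsg.Agent.H21

open Subgroup
open Cfsg.Agent.L (cj nz SylIn)
open Cfsg.Agent.H14 (IsPiSub)
open Cfsg.Agent.OOT
open scoped Pointwise

universe u
variable {G : Type u} [Group G]

variable [Finite G] (hG : IsMinSimpleOddOrder G)
include hG

omit hG in
theorem isP1_cj {M : Subgroup G} (g : G) : IsP1 (cj g M) ↔ IsP1 M := by
  unfold IsP1
  rw [L.card_cj, sigma_cj, kappa_cj]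

/-- `H_σ` is nilpotent when `κ(H) = ∅` and `H ≠ H_σ` -/
theorem ms_nilpotent {H : Subgroup G} (hH : IsCoatom H) (hκ : kappa H = ∅) {p : ℕ} (hp : p.Prime)
    (hd : p ∣ Nat.card H) (hs : p ∉ sigma H) : Group.IsNilpotent (sigmaCore H) := by
  have hpF : Fact p.Prime := ⟨hp⟩
  have hP1 : ¬ IsP1 H := by
    intro h
    have := h p hp hd hs
    rw [hκ] at this
    exact this
  obtain ⟨P⟩ : Nonempty (Sylow p H) := inferInstance
  exact (BB.S1429 hG H hH hP1 p hd (fun hc => hc.elim hs (by rw [hκ]; exact fun h => h)) P).2.2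

omit hG in
theorem compl_of_factor {E B N : Subgroup G} {X : Subgroup G} (hE : IsComplIn E B N) (hEX : E ≤ X)
    (hB : B ⊓ X = ⊥) : N ⊓ X = E := by
  apply le_antisymm
  · rintro h ⟨hN, hX⟩
    obtain ⟨e, he, b, hb, rfl⟩ := hE.2.2.2 h hN
    have hbX : b ∈ B ⊓ X := by
      refine ⟨hb, ?_⟩
      have := X.mul_mem (X.inv_mem (hEX he)) hX
      rwa [inv_mul_cancel_left] at this
    rw [hB, Subgroup.mem_bot] at hbX
    rw [hbX, mul_one]; exact he
  · exact le_inf hE.1 hEX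

/-- the second half of 14.12: the complement `H ∩ M*` -/
theorem compl_in_star {H L K : Subgroup G} (hH : IsCoatom H) (hL : IsCoatom L) (hκ : kappa H = ∅)
    (hp : (Nat.card K).Prime) (hKH : K ≤ H) (hpH : Nat.card K ∉ sigma H) (hKL : K ≤ sigmaCore L)
    (hnz : nz K ≤ L)
    (hF : ∀ E : Subgroup G, IsComplIn E (sigmaCore H) H → K ≤ E → K ≤ fittingOf E) :
    K ≤ fittingOf (H ⊓ L) ∧ IsComplIn (H ⊓ L) (sigmaCore H) H := by
  set p := Nat.card K with hpd
  have hpF : Fact p.Prime := ⟨hp⟩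
  have hKp : IsPGroup p K := IsPGroup.of_card (n := 1) (by rw [← hpd, pow_one])
  have hpL : p ∈ sigma L := (ms_hall hG hL).2.1 p hp (card_dvd_of_le hKL)
  have hne : L ≠ H := by rintro rfl; exact hpH hpL
  have hK1 : K ≠ ⊥ := ne_bot_of_card_prime hp
  obtain ⟨E, hE, hKE⟩ := exists_compl_ge hG hH hKH
    (isPiSub_of_isPGroup (π := {q | q ∉ sigma H}) hpH hKp)
  have hKF := hF E hE hKE
  have hpHd : p ∣ Nat.card H := card_dvd_of_le hKH
  have main : E ≤ L ∧ sigmaCore H ⊓ L = ⊥ := by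
    by_cases h2 : p ∈ tau2 H
    · obtain ⟨A, hA, hA1, hA2⟩ := exists_ea_sq hG hH hE h2
      obtain ⟨h3, h4⟩ := (BB.S1418 hG H hH E hE p h2 A ⟨hA, hA1, hA2⟩).1
      have hKA : K ≤ A := h4 K hKE rfl
      have hAL : A ≤ L := by
        refine le_trans ?_ ((cent_le_nz K).trans hnz)
        intro a ha
        rw [mem_cent_iff]
        exact fun k hk => mulComm_iff.1 hA1.1 a ha k (hKA hk)
      obtain ⟨E', hE'⟩ := exists_compl hG hL
      have hNA : nz A ≤ L := (BB.S1420 hG L hL E' hE').2.2.1 p A hpL (isEA_isPGroup hA1)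
        hAL (not_cyclic_of_ea_sq hp hA1 hA2)
      exact ⟨h3.trans hNA, (BB.S1417 hG H hH p h2 A ⟨hA.trans hE.1, hA1, hA2⟩).2.2.2.2.1 L hL hne hAL⟩
    · have hr : PRankLE p 1 H := by
        by_contra hr
        exact h2 ⟨hp, hpH, rank_le_two hG hH hp hpH, hr⟩
      set O := H1.part p (fittingOf E) with hO
      have hKO : K ≤ O := H1.le_part (fittingOf_nilpotent E) hKF hKp
      have hOH : O ≤ H := (H1.part_le _ _).trans ((fittingOf_le E).trans hE.1)
      have hOc : IsCyclic O := isCyclic_of_pRankLE_one (prime_ne_two hG hpHd)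
        (H1.part_isPGroup _ _) (H10.pRankLE_mono hOH hr)
      have hEK : E ≤ nz K := by
        intro g hg
        refine Cfsg.Agent.L.mem_nz_iff.2 ?_
        have hgO : cj g O = O := Cfsg.Agent.L.mem_nz_iff.1
          (((le_normalizer_fittingOf E).trans (H1.normalizer_le_normalizer_part p _)) hg)
        apply eq_of_card_of_cyclic hOc _ hKO (Cfsg.Agent.L.card_cj _ _)
        calc cj g K ≤ cj g O := Cfsg.Agent.L.cj_mono hKO
          _ = O := hgO
      refine ⟨hEK.trans hnz, ?_⟩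
      have hnc : ∀ g : G, L ≠ cj g H := by
        rintro g rfl
        rw [sigma_cj] at hpL
        exact hpH hpL
      have hdis : sigmaCore L ⊓ (sigmaCore H ⊓ L) = ⊥ := by
        rw [eq_bot_iff]
        rintro z ⟨h1, h2⟩
        rw [Subgroup.mem_bot]
        exact eq_one_of_piElt (π := sigma H) (π' := sigma L)
          (fun p hp h3 h4 => sigma_not_of_not_conj hG hH hL hnc h3 h4)
          (ms_pi hG hH h2.1) (ms_pi hG hL h1)
      have hKn : K ≤ nz (sigmaCore H ⊓ L) := by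
        intro k hk
        refine Cfsg.Agent.L.mem_nz_iff.2 ?_
        rw [Cfsg.Agent.L.cj_inf, Cfsg.Agent.L.cj_eq_self_of_mem (ms_le L (hKL hk)),
          Cfsg.Agent.L.mem_nz_iff.1 (le_nz_ms H (hKH hk))]
      have hc := le_cent_of_inf hKL (inf_le_right.trans (le_nz_ms L)) hKn hdis
      rw [eq_bot_iff]
      intro y hy
      rw [Subgroup.mem_bot]
      by_contra hy1
      obtain ⟨k, hk, hk1⟩ := exists_ne_one hK1
      have hko : orderOf k = p := by
        rw [← Nat.card_zpowers, zpowers_eq_of_card_prime hp hk hk1]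
      rcases kappa_or_tau2 hG hH (hKH hk) hp hko hpH hy.1 hy1 (mem_cent_iff.1 (hc hk) y hy) with h3 | h3
      · rw [hκ] at h3; exact h3
      · exact h2 h3
  have hEeq : H ⊓ L = E := compl_of_factor hE main.1 main.2
  rw [hEeq]
  exact ⟨hKF, hE⟩

/-- 14.12 -/
theorem thm_14_12 {M K U N' : Subgroup G} (hM : IsCoatom M) (h : IsSigmaDecomposition M K U)
    (hK1 : K ≠ ⊥) (hU1 : U ≠ ⊥) (D : Dual M K N' (Kst M K)) {r : ℕ} (hr : r.Prime)
    (hrU : r ∣ Nat.card U) {R : Subgroup G} (hR : SylIn r R U) {H : Subgroup G} (hH : IsCoatom H)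
    (hNR : nz R ≤ H) :
    kappa H = ∅ ∧ U ≤ sigmaCore H ∧ M ⊓ H = U ⊔ K ∧ ¬ H ⊓ nz U ≤ M ∧
      K ≤ fittingOf (H ⊓ N') ∧ IsComplIn (H ⊓ N') (sigmaCore H) H := by
  have hrF : Fact r.Prime := ⟨hr⟩
  have hPM := dec_PM hM h hK1
  have hP1 : ¬ IsP1 M := fun hc => hU1 ((dec_P1_iff hG hM h).1 hc)
  obtain ⟨hKp, hMn, -⟩ := hPM.p2 hG hP1
  obtain ⟨hUM, hUπ, hUi⟩ := dec_U_hall hG hM h
  have hUc := dec_U_comm hG hM h hK1
  have hUab : ∀ a ∈ U, ∀ b ∈ U, a * b = b * a := mulComm_iff.1 hUc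
  have hUn : Group.IsNilpotent U := by
    have : ∀ a b : U, a * b = b * a := fun a b => Subtype.ext (hUab a a.2 b b.2)
    let _ : CommGroup U := { (inferInstance : Group U) with mul_comm := this }
    exact CommGroup.isNilpotent
  obtain ⟨hrk, hrs⟩ := dec_U_pi hG hM h r hr hrU
  have hRM : SylIn r R M := by
    refine ⟨hR.le.trans hUM, hR.isPGroup, ?_⟩
    rw [← Subgroup.relIndex_mul_relIndex _ _ _ hR.le hUM]
    intro hd
    rcases hr.dvd_mul.1 hd with hd | hd
    · exact hR.3 hd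
    · exact hUi r hr ⟨hr, hrk, hrs⟩ hd
  have hRpart : H1.part r U = R :=
    (hR.eq_of_le (H1.part_isPGroup r U) (H1.part_le r U) (H1.le_part hUn hR.le hR.isPGroup)).symm
  have hKU : K ≤ nz U := h.normal
  have hUKR : U ⊔ K ≤ nz R := by
    rw [← hRpart]
    exact (sup_le (L.le_nz U) hKU).trans (H1.normalizer_le_normalizer_part r U)
  have hUKH : U ⊔ K ≤ H := hUKR.trans hNR
  have hUH : U ≤ H := le_sup_left.trans hUKH
  have hKH : K ≤ H := le_sup_right.trans hUKH
  have hKM : K ≤ M := h.hall.1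
  have hnRM : ¬ nz R ≤ M := by
    intro hc
    apply hrs
    refine ⟨hr, hrU.trans (card_dvd_of_le hUM), hRM.toSylow, ?_⟩
    rw [hRM.map_toSylow]; exact hc
  have hHM : H ≠ M := by rintro rfl; exact hnRM hNR
  -- the dual pair
  have hKN : K ≤ sigmaCore N' := by rw [← D.e']; exact kst_le_ms _ _
  have hpN : Nat.card K ∈ sigma N' :=
    (ms_hall hG D.pm'.coatom).2.1 _ hKp (card_dvd_of_le hKN)
  have huniq := D.uniqIn' hG (le_refl K) hKp
  have hUinf : U ⊓ Zof M K = ⊥ := by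
    rw [eq_bot_iff]
    rintro u ⟨hu, hu'⟩
    have := hPM.mem_K hG hu' (dec_U_elt hG hM h hu)
    have h3 : u ∈ U ⊓ K := ⟨hu, this⟩
    rwa [dec_U_inf_K hG hM h] at h3
  have hpH : Nat.card K ∉ sigma H := by
    intro hc
    obtain ⟨g, hg⟩ := sigma_conj hG D.pm'.coatom hH hpN hc
    have hKp' : IsPGroup (Nat.card K) K := IsPGroup.of_card (n := 1) (by rw [pow_one])
    have hpF : Fact (Nat.card K).Prime := ⟨hKp⟩
    obtain ⟨m, hm, c, hc', e⟩ := (BB.S1404 hG N' D.pm'.coatom _ hpN K hKp' hK1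
      (hKN.trans (ms_le N'))).1 g⁻¹ (by
        change cj g⁻¹ K ≤ N'
        rw [Cfsg.Agent.L.cj_le_iff, inv_inv, ← hg]; exact hKH)
    have hgN : g ∈ N' := by
      have : g⁻¹ ∈ N' := by rw [e]; exact N'.mul_mem hm (huniq.1 hc')
      exact (Subgroup.inv_mem_iff N').1 this
    rw [Cfsg.Agent.L.cj_eq_self_of_mem hgN] at hg
    apply hU1
    rw [eq_bot_iff, ← hUinf]
    refine le_inf le_rfl ?_
    rw [← D.inf_eq hG]
    exact le_inf hUM (hg ▸ hUH)
  have hHN : ∀ g : G, H ≠ cj g N' := by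
    rintro g rfl
    rw [sigma_cj] at hpH
    exact hpH hpN
  have hHMc : ∀ g : G, H ≠ cj g M := by
    rintro g rfl
    apply hrs
    have h1 : SylIn r R (cj g M) := by
      refine ⟨hR.le.trans hUH, hR.isPGroup, ?_⟩
      have e1 := L.card_mul_relIndex (hR.le.trans hUH)
      have e2 := L.card_mul_relIndex hRM.le
      rw [L.card_cj] at e1
      have e3 : R.relIndex (cj g M) = R.relIndex M :=
        Nat.eq_of_mul_eq_mul_left (Nat.card_pos : 0 < Nat.card R) (e1.trans e2.symm)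
      rw [e3]; exact hRM.3
    have : r ∈ sigma (cj g M) := by
      refine ⟨hr, hrU.trans (card_dvd_of_le hUH), h1.toSylow, ?_⟩
      rw [h1.map_toSylow]; exact hNR
    rwa [sigma_cj] at this
  have hκH : kappa H = ∅ := by
    by_contra hne
    obtain ⟨B, hB⟩ := exists_PM hG hH (Set.nonempty_iff_ne_empty.2 hne)
    rcases D.classes hG hB with ⟨g, hg⟩ | ⟨g, hg⟩
    · exact hHMc g hg
    · exact hHN g hg
  have hpHd : Nat.card K ∣ Nat.card H := card_dvd_of_le hKH
  have hHn := ms_nilpotent hG hH hκH hKp hpHd hpH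
  -- `K ≤ F(E)`
  have hF : ∀ E : Subgroup G, IsComplIn E (sigmaCore H) H → K ≤ E → K ≤ fittingOf E := by
    intro E hE hKE
    by_contra hc
    obtain ⟨L', hL', ⟨h1, h2⟩ | ⟨h1, h2⟩⟩ := thm_14_11 hG hH hκH hE hKp hKE rfl hc
    · have : N' = L' := h2.2 N' D.pm'.coatom huniq.1
      rw [← this] at h1
      exact h1.2.1 hpN
    · obtain ⟨B, hB⟩ := exists_PM hG hL' ⟨_, h1⟩
      rcases D.classes hG hB with ⟨g, rfl⟩ | ⟨g, rfl⟩
      · exact hP1 ((isP1_cj g).1 h2)
      · rw [kappa_cj] at h1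
        exact kappa_not_sigma h1 hpN
  -- `U` is a `σ(H)`-group
  have hUσ : IsPiSub (sigma H) U := by
    intro t ht htd
    have htF : Fact t.Prime := ⟨ht⟩
    by_contra hts
    set T := H1.part t U with hT
    have hTU : T ≤ U := H1.part_le t U
    have hTp : IsPGroup t T := H1.part_isPGroup t U
    have hKT : K ≤ nz T := hKU.trans (H1.normalizer_le_normalizer_part t U)
    have hTK : T ⊓ K = ⊥ := by
      rw [eq_bot_iff, ← dec_U_inf_K hG hM h]
      exact inf_le_inf_right _ hTU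
    have hTKs : IsPiSub {q | q ∉ sigma H} (T ⊔ K) := by
      intro q hq hd
      rw [card_sup_of_le_nz hKT hTK] at hd
      rcases hq.dvd_mul.1 hd with hd | hd
      · obtain ⟨n, hn⟩ := IsPGroup.iff_card.1 hTp
        rw [hn] at hd
        rw [(Nat.prime_dvd_prime_iff_eq hq ht).1 (hq.dvd_of_dvd_pow hd)]; exact hts
      · rw [(Nat.prime_dvd_prime_iff_eq hq hKp).1 hd]; exact hpH
    obtain ⟨E, hE, hTKE⟩ := exists_compl_ge hG hH ((sup_le_sup_right hTU K).trans hUKH) hTKs
    have hKE : K ≤ E := le_sup_right.trans hTKE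
    have hTE : T ≤ E := le_sup_left.trans hTKE
    have hpF : Fact (Nat.card K).Prime := ⟨hKp⟩
    have hKp' : IsPGroup (Nat.card K) K := IsPGroup.of_card (n := 1) (by rw [pow_one])
    set O := H1.part (Nat.card K) (fittingOf E) with hO
    have hKO : K ≤ O := H1.le_part (fittingOf_nilpotent E) (hF E hE hKE) hKp'
    have hTO : T ≤ nz O := hTE.trans ((le_normalizer_fittingOf E).trans
      (H1.normalizer_le_normalizer_part _ _))
    have htK : t ≠ Nat.card K := by
      rintro e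
      have := (dec_U_pi hG hM h t ht htd).1
      rw [e] at this
      exact this (h.hall.2.1 _ hKp dvd_rfl)
    have hOT : O ⊓ T = ⊥ := by
      refine inf_bot_of_pi (π := {Nat.card K}) (isPiSub_of_isPGroup (Set.mem_singleton _)
        (H1.part_isPGroup _ _)) ?_
      exact isPiSub_of_isPGroup (π := {p | p ∉ ({Nat.card K} : Set ℕ)}) htK hTp
    have hKc : K ≤ centralizer (T : Set G) := le_cent_of_inf hKO hTO hKT hOT
    obtain ⟨k, hk, hk1⟩ := exists_ne_one hK1
    apply H1.part_ne_bot hUn htd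
    rw [eq_bot_iff, ← dec_free hG hM h hk hk1]
    intro x hx
    exact ⟨hTU hx, mem_cent_singleton.2 (mem_cent_iff.1 (hKc hk) x hx).symm⟩
  have hUHs : U ≤ sigmaCore H := le_ms hG hH hUH hUσ
  -- `M ∩ H = U K`
  obtain ⟨-, -, hcU⟩ := not_p1_facts hG hM hP1 ⟨hUM, hUπ, hUi⟩
  have hMH : M ⊓ H = U ⊔ K := by
    apply compl_of_factor (dec_compl hG hM h) hUKH
    have hdis : sigmaCore H ⊓ (sigmaCore M ⊓ H) = ⊥ := by
      rw [eq_bot_iff]
      rintro z ⟨h1, h2⟩
      rw [Subgroup.mem_bot]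
      exact eq_one_of_piElt (π := sigma M) (π' := sigma H)
        (fun p hp h3 h4 => sigma_not_of_not_conj hG hM hH hHMc h3 h4)
        (ms_pi hG hM h2.1) (ms_pi hG hH h1)
    have hUn' : U ≤ nz (sigmaCore M ⊓ H) := by
      intro u hu
      refine L.mem_nz_iff.2 ?_
      rw [L.cj_inf, L.cj_eq_self_of_mem (hUH hu), L.mem_nz_iff.1 (le_nz_ms M (hUM hu))]
    have hc := le_cent_of_inf hUHs (inf_le_right.trans (le_nz_ms H)) hUn' hdis
    rw [eq_bot_iff, ← hcU]
    exact le_inf inf_le_left (le_cent_comm.1 hc)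
  refine ⟨hκH, hUHs, hMH, ?_, ?_⟩
  · -- `N_H(U) ⊄ M`
    intro hc
    have h1 : H ⊓ nz U ≤ U ⊔ K := by
      rw [← hMH]; exact le_inf hc inf_le_left
    have h2 : sigmaCore H ⊓ nz U ≤ U := by
      rintro x ⟨hx, hx'⟩
      obtain ⟨u, hu, k, hk, rfl⟩ := (H1.mem_sup_iff_of_le_normalizer hKU).1
        (h1 ⟨ms_le H hx, hx'⟩)
      have hkH : k ∈ sigmaCore H := by
        have := (sigmaCore H).mul_mem ((sigmaCore H).inv_mem (hUHs hu)) hx
        rwa [inv_mul_cancel_left] at this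
      have hk1 : k = 1 := by
        apply ms_cap hG hH hkH
        intro q hq hd
        have h3 : q ∣ Nat.card K := by
          refine hd.trans ?_
          rw [← Nat.card_zpowers]; exact card_dvd_of_le (by rwa [zpowers_le])
        rw [(Nat.prime_dvd_prime_iff_eq hq hKp).1 h3]; exact hpH
      rw [hk1, mul_one]; exact hu
    have h3 : U = sigmaCore H := by
      by_contra hne
      have hlt := lt_of_le_of_ne hUHs hne
      have h4 := H1.lt_normalizer_inf_of_nilpotent hHn hlt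
      exact h4.not_ge (by rw [inf_comm]; exact h2)
    have h4 : H ≤ M := by
      have : H ≤ nz U := by rw [h3]; exact le_nz_ms H
      exact (le_inf le_rfl this).trans hc
    exact hHM (hH.le_iff_eq hM.1 |>.1 h4).symm
  · exact compl_in_star hG hH D.pm'.coatom hκH hKp hKH hpH hKN
      (D.nz_le hG le_rfl hK1) hF

end Cfsg.Agent.H21
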