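import Cfsg.Agent.H21.OT14t

set_option autoImplicit false

/-! 14.13 of Bender-Glauberman (S1436). -/

namespace Cfsg.Agent.H21

open Subgroup
open Cfsg.Agent.L (cj nz SylIn)
open Cfsg.Agent.H14 (IsPiSub)
open Cfsg.Agent.OOT
open scoped Pointwise

universe u
variable {G : Type u} [Group G]

variable [Finite G]

theorem cj_centralizer (g : G) (D : Subgroup G) :
    cj g (centralizer (D : Set G)) = centralizer ((cj g D : Subgroup G) : Set G) :=
  H1.conj_smul_centralizer g D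

theorem kst_cj (g : G) (C D : Subgroup G) : Kst (cj g C) (cj g D) = cj g (Kst C D) := by
  show sigmaCore (cj g C) ⊓ centralizer ((cj g D : Subgroup G) : Set G) =
    cj g (sigmaCore C ⊓ centralizer (D : Set G))
  rw [L.cj_inf, sigmaCore_cj, cj_centralizer]

theorem PM.cj {M K : Subgroup G} (h : PM M K) (g : G) : PM (cj g M) (cj g K) := by
  refine ⟨coatom_cj h.coatom g, ?_, ?_⟩
  · rw [kappa_cj]
    refine ⟨L.cj_mono h.hall.1, fun p hp hd => h.hall.2.1 p hp (by rwa [L.card_cj] at hd), ?_⟩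
    intro p hp hpk hd
    rw [L.relIndex_cj] at hd
    exact h.hall.2.2 p hp hpk hd
  · intro hb
    apply h.ne
    rw [← L.cj_inv_cj g K, hb]
    exact L.cj_bot _

theorem Dual.cj {M K M' K' : Subgroup G} (h : Dual M K M' K') (g : G) :
    Dual (cj g M) (cj g K) (cj g M') (cj g K') :=
  ⟨h.pm.cj g, h.pm'.cj g, by rw [kst_cj, h.e], by rw [kst_cj, h.e']⟩

variable (hG : IsMinSimpleOddOrder G)
include hG

/-- the core of 14.11 -/
theorem act_core {M E : Subgroup G} (hM : IsCoatom M) (hκ : kappa M = ∅)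
    (hE : IsComplIn E (sigmaCore M) M) {q : ℕ} (hq : q.Prime) {Q : Subgroup G} (hQE : Q ≤ E)
    (hQ : Nat.card Q = q) (hq2 : q ∉ tau2 M) {s : ℕ} (hs2 : s ∈ tau2 M) {A : Subgroup G}
    (hAE : A ≤ E) (hAea : IsElementaryAbelian s A) (hAcard : Nat.card A = s ^ 2)
    (hAQ : ¬ Q ≤ centralizer (A : Set G)) {N : Subgroup G} (hL : IsCoatom N) (hAL : nz A ≤ N) :
    ⁅A, Q⁆ ≠ ⊥ ∧ ⁅A, Q⁆ ≤ A ∧ ⁅A, Q⁆ ≤ centralizer (sigmaCore M : Set G) ∧ q ∉ sigma N ∧
      ((q ∈ tau2 N ∧ UniqIn (centralizer (Q : Set G)) N) ∨ (q ∈ kappa N ∧ IsP1 N)) := by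
  have hqF : Fact q.Prime := ⟨hq⟩
  have hs : s.Prime := hs2.1
  have hsF : Fact s.Prime := ⟨hs⟩
  have hss : s ∉ sigma M := hs2.2.1
  have hEM : E ≤ M := hE.1
  have hQM : Q ≤ M := hQE.trans hEM
  have hEs : IsPiSub {p | p ∉ sigma M} E := (compl_hall hG hM hE).2.1
  have hqE : q ∣ Nat.card E := by rw [← hQ]; exact card_dvd_of_le hQE
  have hqs : q ∉ sigma M := hEs q hq hqE
  have hQp : IsPGroup q Q := IsPGroup.of_card (n := 1) (by rw [hQ, pow_one])
  have hQpr : (Nat.card Q).Prime := by rw [hQ]; exact hq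
  have hQ1 : Q ≠ ⊥ := ne_bot_of_card_prime hQpr
  have hsq : s ≠ q := by rintro rfl; exact hq2 hs2
  have hAp : IsPGroup s A := isEA_isPGroup hAea
  have hEnA : E ≤ nz A := (BB.S1418 hG M hM E hE s hs2 A ⟨hAE, hAea, hAcard⟩).1.1
  have hcopQA : (Nat.card Q).Coprime (Nat.card A) := by
    rw [hAcard, hQ]
    exact Nat.Coprime.pow_right _ ((Nat.coprime_primes hq hs).2 (Ne.symm hsq))
  have hAc : IsMulCommutative A := hAea.1
  obtain ⟨d1, d2⟩ := H1.abelian_coprime_decomposition Q A (hQE.trans hEnA) hcopQA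
  set X := ⁅A, Q⁆ with hX
  have hXA : X ≤ A := H1.commutator_le_left_of_le_normalizer (hQE.trans hEnA)
  have hX1 : X ≠ ⊥ := by
    intro h
    apply hAQ
    rw [h, sup_bot_eq] at d2
    exact le_cent_comm.1 (inf_eq_left.1 d2)
  have hXp : IsPGroup s X := hAp.to_le hXA
  have hQX : Q ≤ nz X := H1.right_le_normalizer_commutator A Q
  have hXQ : X ⊓ centralizer (Q : Set G) = ⊥ := by
    rw [eq_bot_iff, ← d1]
    rintro x ⟨h1, h2⟩
    exact ⟨⟨hXA h1, h2⟩, h1⟩
  have hinf : X ⊓ Q = ⊥ := by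
    refine inf_bot_of_pi (π := {s}) (isPiSub_of_isPGroup (Set.mem_singleton s) hXp) ?_
    exact isPiSub_of_isPGroup (π := {p | p ∉ ({s} : Set ℕ)}) (fun h => hsq h.symm) hQp
  have hMn : Group.IsNilpotent (sigmaCore M) :=
    (BB.S1417 hG M hM s hs2 A ⟨hAE.trans hEM, hAea, hAcard⟩).1
  have hcQ : sigmaCore M ⊓ centralizer (Q : Set G) = ⊥ := by
    rw [eq_bot_iff]
    rintro y ⟨hy, hyQ⟩
    rw [Subgroup.mem_bot]
    by_contra hy1
    obtain ⟨h, hh, hh1⟩ := exists_ne_one hQ1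
    have hho : orderOf h = q := by
      rw [← Nat.card_zpowers, zpowers_eq_of_card_prime hQpr hh hh1, hQ]
    rcases kappa_or_tau2 hG hM (hQM hh) hq hho hqs hy hy1 (mem_cent_iff.1 hyQ h hh).symm with h3 | h3
    · rw [hκ] at h3; exact h3
    · exact hq2 h3
  have hcop : ∀ {N : Subgroup G}, N ≤ E → (Nat.card N).Coprime (Nat.card (sigmaCore M)) := by
    intro N hN
    refine Nat.coprime_of_dvd fun p hp h1 h2 => ?_
    exact hEs p hp (h1.trans (card_dvd_of_le hN)) ((ms_hall hG hM).2.1 p hp h2)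
  have hXE : X ≤ E := hXA.trans hAE
  have hXc : X ≤ centralizer (sigmaCore M : Set G) := by
    refine frob_act hMn ((hXE.trans hEM).trans (le_nz_ms M)) (hQM.trans (le_nz_ms M)) hQX hinf ?_
      (hcop hXE) (hcop hQE) hcQ
    intro h hh hh1 k hk hhk
    have h2 : k ∈ X ⊓ centralizer (Q : Set G) := by
      refine ⟨hk, ?_⟩
      rw [← cent_eq_of_prime hQpr hh hh1]
      exact mem_cent_singleton.2 hhk.symm
    rw [hXQ, Subgroup.mem_bot] at h2
    exact h2
  obtain ⟨y, hy, hy1⟩ := exists_ne_one (sigmaCore_ne_bot hG hM)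
  have hcA := (BB.S1417 hG M hM s hs2 A ⟨hAE.trans hEM, hAea, hAcard⟩).2.2.2.1
  have hY1 : A ⊓ centralizer (Q : Set G) ≠ ⊥ := by
    intro h
    rw [h, bot_sup_eq] at d2
    rw [d2] at hXc
    have : y ∈ sigmaCore M ⊓ centralizer (A : Set G) := ⟨hy, (le_cent_comm.1 hXc) hy⟩
    rw [hcA, Subgroup.mem_bot] at this
    exact hy1 this
  obtain ⟨hEL, hsL, hτL⟩ := tau2_sub_sigma hG hM hE hs2 hAE hAea hAcard hL hAL
  have hALs : A ≤ sigmaCore N := le_ms hG hL (hAE.trans hEL) (isPiSub_of_isPGroup hsL hAp)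
  have hsβ : s ∉ beta N := tau2_not_beta hG hM hs2
  have hqL : q ∉ sigma N := by
    intro hqL
    have hQLs : Q ≤ sigmaCore N := le_ms hG hL (hQE.trans hEL) (isPiSub_of_isPGroup hqL hQp)
    by_cases hqβ : q ∈ beta N
    · have hQb : Q ≤ piCoreOf (beta N) N :=
        piSub_le_normal_hall (beta_core hG hL) (le_normalizer_piCoreOf _ _) (hQE.trans hEL)
          (isPiSub_of_isPGroup hqβ hQp)
      have hXb : X ≤ piCoreOf (beta N) N := by
        have h1 : A ≤ normalizer ((piCoreOf (beta N) N : Subgroup G) : Set G) :=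
          (hAE.trans hEL).trans (le_normalizer_piCoreOf _ _)
        have h2 : ⁅A, piCoreOf (beta N) N⁆ ≤ piCoreOf (beta N) N := by
          rw [Subgroup.commutator_comm]
          exact H1.commutator_le_left_of_le_normalizer h1
        exact (Subgroup.commutator_mono le_rfl hQb).trans h2
      apply hX1
      have h3 : IsPiSub {p | p ∉ beta N} X :=
        isPiSub_of_isPGroup (π := {p | p ∉ beta N}) hsβ hXp
      have h4 := inf_bot_of_pi (beta_core hG hL).2.1 h3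
      rwa [inf_eq_right.2 hXb] at h4
    · obtain ⟨-, -, -, ⟨N₀, hN, hNn⟩, -⟩ := BB.S1414 hG N hL
      have hsol : Group.IsSolvable (sigmaCore N) := H1.isSolvable_of_le (ms_le N) (coatom_sol hG hL)
      have hAQn : Q ≤ nz A := hQE.trans hEnA
      have hAQi : A ⊓ Q = ⊥ := by
        refine inf_bot_of_pi (π := {s}) (isPiSub_of_isPGroup (Set.mem_singleton s) hAp) ?_
        exact isPiSub_of_isPGroup (π := {p | p ∉ ({s} : Set ℕ)}) (fun h => hsq h.symm) hQp
      obtain ⟨g, hg, hle⟩ := OOT.IsPiHallOf.exists_conj_le hsol hN (K := A ⊔ Q)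
        (sup_le hALs hQLs) (by
          intro p hp hd
          rw [card_sup_of_le_nz hAQn hAQi, hAcard, hQ] at hd
          refine ⟨hp, ?_⟩
          rcases hp.dvd_mul.1 hd with hd | hd
          · rw [(Nat.prime_dvd_prime_iff_eq hp hs).1 (hp.dvd_of_dvd_pow hd)]; exact hsβ
          · rw [(Nat.prime_dvd_prime_iff_eq hp hq).1 hd]; exact hqβ)
      have hn : Group.IsNilpotent (A ⊔ Q : Subgroup G) := by
        have h1 : Group.IsNilpotent (cj g (A ⊔ Q)) := H1.isNilpotent_of_le hle hNn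
        have h2 := H1.isNilpotent_map (MulAut.conj g⁻¹).toMonoidHom h1
        change Group.IsNilpotent (cj g⁻¹ (cj g (A ⊔ Q))) at h2
        rwa [L.cj_inv_cj] at h2
      exact hAQ (nil_cent hn le_sup_right le_sup_left hcopQA)
  refine ⟨hX1, hXA, hXc, hqL, ?_⟩
  obtain ⟨w, hw, hw1⟩ := exists_ne_one hY1
  obtain ⟨h, hh, hh1⟩ := exists_ne_one hQ1
  have hho : orderOf h = q := by
    rw [← Nat.card_zpowers, zpowers_eq_of_card_prime hQpr hh hh1, hQ]
  have hhL : PiElt {p | p ∉ sigma N} h := by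
    intro p hp hd
    rw [hho] at hd
    rw [(Nat.prime_dvd_prime_iff_eq hp hq).1 hd]; exact hqL
  rcases cor_14_3 hG hL (hALs hw.1) hw1 ((hQE.trans hEL) hh) (mem_cent_iff.1 hw.2 h hh).symm hh1 hhL
    with ⟨h1, -⟩ | ⟨h1, -, h2⟩
  · right
    have hqk : q ∈ kappa N := h1 q hq (by rw [hho])
    refine ⟨hqk, ?_⟩
    by_contra hnP
    obtain ⟨KL, hKL⟩ := exists_PM hG hL ⟨q, hqk⟩
    exact hsβ (hKL.sigma_sub_beta hG hnP hsL)
  · left
    refine ⟨h1 q hq (by rw [hho]), ?_⟩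
    rw [← cent_eq_of_prime hQpr hh hh1]; exact h2

/-- (b) of 14.13 -/
theorem row1436b {M N N' : Subgroup G} (hM : IsCoatom M) {x y g : G} (hx : x ∈ sigmaCore M)
    (hx1 : x ≠ 1) (hSx : Sup M x N) (hy : y ∈ sigmaCore M) (hy1 : y ≠ 1) (hSy : Sup M y N')
    (hg : cj g N' = N) : ∃ m ∈ M, cj m N' = N := by
  obtain ⟨p, hp, hd⟩ := Nat.exists_prime_and_dvd (n := orderOf y)
    (fun h => hy1 (orderOf_eq_one_iff.1 h))
  have hpF : Fact p.Prime := ⟨hp⟩
  have hpM : p ∈ sigma M := ms_pi hG hM hy p hp hd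
  obtain ⟨z, hz, hzp⟩ := exists_prime_power_elt hp hd
  have hz1 := ne_one_of_orderOf hG hp hzp
  have hzy : zpowers y ≤ sigmaCore M := by rwa [zpowers_le]
  have hzc : ¬ centralizer ({z} : Set G) ≤ M :=
    fun h => sup_not_cent_le hG hM hSy ((cent_le_of_mem_zpowers hz).trans h)
  obtain ⟨N'', hN''⟩ := sup_prime hG hM (hzy hz) hp hzp hzc
  have hN'' : N'' = N' := hSy.uniq.2 N'' hN''.coatom ((cent_le_of_mem_zpowers hz).trans hN''.uniq.1)
  have hzN : centralizer ({z} : Set G) ≤ N' := by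
    rw [← hN'']; exact (by assumption : Sup M z N'').uniq.1
  -- conjugate the complements
  have hcompl : IsPiHallOf {p | p ∉ sigma N} (M ⊓ N) N := compl_hall hG hSx.coatom hSx.compl
  have hcompl' : IsPiHallOf {p | p ∉ sigma N'} (M ⊓ N') N' := compl_hall hG hSy.coatom hSy.compl
  have hle1 : cj g (M ⊓ N') ≤ N := by
    rw [← hg]; exact L.cj_mono inf_le_right
  obtain ⟨n, hn, hle⟩ := OOT.IsPiHallOf.exists_conj_le (coatom_sol hG hSx.coatom) hcompl hle1
    (by
      intro q hq hd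
      rw [L.card_cj] at hd
      have := hcompl'.2.1 q hq hd
      rw [← hg, sigma_cj]; exact this)
  rw [L.cj_cj] at hle
  have hzMN : z ∈ M ⊓ N' := ⟨ms_le M (hzy hz), hzN (mem_cent_singleton.2 rfl)⟩
  have hX : cj (n * g) (zpowers z) ≤ M := by
    refine le_trans (L.cj_mono ?_) (hle.trans inf_le_left)
    rwa [zpowers_le]
  obtain ⟨m, hm, c, hc, e⟩ := (BB.S1404 hG M hM p hpM (zpowers z)
    (IsPGroup.of_card (n := 1) (by rw [card_zpowers_eq hzp, pow_one]))
    (by rw [Ne, Subgroup.zpowers_eq_bot]; exact hz1) (by rw [zpowers_le]; exact hzMN.1)).1 (n * g) hX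
  rw [cent_zpowers] at hc
  refine ⟨m, hm, ?_⟩
  have h1 : cj (n * g) N' = N := by
    rw [← L.cj_cj, hg, L.cj_eq_self_of_mem hn]
  rw [e, ← L.cj_cj, L.cj_eq_self_of_mem (hzN hc)] at h1
  exact h1

end Cfsg.Agent.H21
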