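import Cfsg.Agent.H21.OT14u
import Cfsg.Agent.H23.Coprime4

set_option autoImplicit false
set_option linter.unusedVariables false

/-! 14.13 (a) of Bender-Glauberman (S1436). -/

namespace Cfsg.Agent.H21

open Subgroup
open Cfsg.Agent.L (cj nz SylIn)
open Cfsg.Agent.H14 (IsPiSub)
open Cfsg.Agent.OOT
open scoped Pointwise

universe u
variable {G : Type u} [Group G]

variable [Finite G]

theorem dvd_of_hall {π : Set ℕ} {H M : Subgroup G} (h : IsPiHallOf π H M) {p : ℕ} (hp : p.Prime)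
    (hpπ : p ∈ π) (hd : p ∣ Nat.card M) : p ∣ Nat.card H := by
  by_contra h2
  refine h.2.2 p hp hpπ ?_
  rw [← L.card_mul_relIndex h.1] at hd
  exact (hp.dvd_mul.1 hd).resolve_left h2

theorem ne_bot_of_sylIn {q : ℕ} [hq : Fact q.Prime] {S M : Subgroup G} (hS : SylIn q S M)
    (hd : q ∣ Nat.card M) : S ≠ ⊥ := by
  rintro rfl
  have h1 : ¬ q ∣ Nat.card (⊥ : Subgroup G) := by
    rw [Subgroup.card_bot]; exact fun h => hq.out.one_lt.ne' (Nat.dvd_one.1 h)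
  obtain ⟨X, hX, hXc⟩ := exists_prime_sub' hq.out hd
  have h2 := hS.card_le (IsPGroup.of_card (n := 1) (by rw [hXc, pow_one])) hX
  rw [hXc, Subgroup.card_bot] at h2
  exact absurd hq.out.one_lt (by omega)

variable (hG : IsMinSimpleOddOrder G)
include hG

theorem dvd_of_tau2 {M : Subgroup G} (hM : IsCoatom M) {p : ℕ} (hp : p ∈ tau2 M) :
    p ∣ Nat.card M := by
  obtain ⟨E, hE⟩ := exists_compl hG hM
  obtain ⟨A, hA, -, hA2⟩ := exists_ea_sq hG hM hE hp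
  exact (hA2 ▸ dvd_pow_self p two_ne_zero : p ∣ Nat.card A).trans (card_dvd_of_le (hA.trans hE.1))

/-- a Hall `σ(M)`-subgroup of `M'` is `K'`, cyclic: `M'` has no noncyclic `s`-subgroups,
`s ∈ σ(M)` -/
theorem dual_no_ea {M K M' K' : Subgroup G} (D : Dual M K M' K') {s : ℕ} (hs : s.Prime)
    (hsM : s ∈ sigma M) {A : Subgroup G} (hA : A ≤ M') (h1 : IsElementaryAbelian s A)
    (h2 : Nat.card A = s ^ 2) : False := by
  have : Fact s.Prime := ⟨hs⟩
  obtain ⟨m, hm, hle⟩ := OOT.IsPiHallOf.exists_conj_le (coatom_sol hG D.pm'.coatom) (D.hall' hG) hA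
    (isPiSub_of_isPGroup hsM (isEA_isPGroup h1))
  have hc : IsCyclic (cj m⁻¹ K') := ((D.cj m⁻¹).cyclic hG).2
  have h3 : A ≤ cj m⁻¹ K' := by
    have := L.cj_mono (g := m⁻¹) hle
    rwa [L.cj_inv_cj] at this
  exact not_cyclic_of_ea_sq hs h1 h2
    (isCyclic_of_injective (Subgroup.inclusion h3) (Subgroup.inclusion_injective h3))

/-- Claim 1 -/
theorem not_conj_dual {M K M' K' N : Subgroup G} (D : Dual M K M' K') {x : G}
    (hS : Sup M x N) : ∀ g : G, N ≠ cj g M' := by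
  intro g hg
  have hM := D.pm.coatom
  have D₁ := D.cj g
  rw [← hg] at D₁
  have hcompl : IsPiHallOf {p | p ∉ sigma N} (M ⊓ N) N := compl_hall hG hS.coatom hS.compl
  have hK2 : IsPiSub {p | p ∉ sigma N} (cj g K') := fun p hp hd =>
    kappa_not_sigma (D₁.pm'.hall.2.1 p hp hd)
  obtain ⟨n, hn, hle⟩ := OOT.IsPiHallOf.exists_conj_le (coatom_sol hG hS.coatom) hcompl
    D₁.pm'.hall.1 hK2
  have D₂ := D₁.cj n
  rw [L.cj_eq_self_of_mem hn] at D₂
  have e1 : cj ((n * g)⁻¹) (cj n (cj g M)) = M := by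
    rw [L.cj_cj n g, L.cj_inv_cj]
  have hMM : cj n (cj g M) = M := by
    obtain ⟨y, hy, hy1⟩ := exists_ne_one D₂.pm'.ne
    have hy' : y ∈ Kst (cj n (cj g M)) (cj n (cj g K)) := by rw [D₂.e]; exact hy
    have hyM : y ∈ cj ((n * g)⁻¹) (cj n (cj g M)) := by
      rw [e1]
      exact (hle hy).1
    have h1 := D₂.pm.kst_mem hG hy' hy1 hyM
    have h2 := L.cj_eq_self_of_mem h1
    rw [e1] at h2
    exact h2.symm
  rw [hMM] at D₂
  have h1 := D₂.inf_eq hG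
  have h2 : cj n (cj g K) ≤ M ⊓ N := by rw [h1]; exact le_sup_left
  have h3 : cj n (cj g K) ≤ sigmaCore N := by
    rw [← D₂.e']; exact kst_le_ms _ _
  apply D₂.pm.ne
  rw [eq_bot_iff, ← inf_bot_of_pi (ms_hall hG hS.coatom).2.1 hcompl.2.1]
  exact le_inf h3 h2

/-- `κ(M) = ∅` -/
theorem row1436_kappa {M N : Subgroup G} (hM : IsCoatom M) {x : G} (hx : x ∈ sigmaCore M)
    (hx1 : x ≠ 1) (hS : Sup M x N) {q : ℕ} (hqN : q ∈ sigma N) (hqM : q ∣ Nat.card M) :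
    kappa M = ∅ := by
  have hq : q.Prime := hqN.1
  have hqF : Fact q.Prime := ⟨hq⟩
  have hqβ : q ∈ beta N := sup_beta hG hM hx hx1 hS hqM hqN
  have hqs : q ∉ sigma M := fun h => sigma_not_of_not_conj hG hM hS.coatom hS.not_conj h hqN
  by_contra hne
  obtain ⟨K, hK⟩ := exists_PM hG hM (Set.nonempty_iff_ne_empty.2 hne)
  obtain ⟨M', D, -⟩ := hK.exists_dual hG
  have hnc := not_conj_dual hG D hS
  have hqM' : q ∉ sigma M' := fun h => by
    obtain ⟨g, hg⟩ := sigma_conj hG D.pm'.coatom hS.coatom h hqN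
    exact hnc g hg
  have hqk : q ∉ kappa M := by
    intro hqk
    have h1 : q ∣ Nat.card K := dvd_of_hall hK.hall hq hqk hqM
    exact hqM' (D.symm.K'_pi hG q hq h1)
  obtain ⟨U, hU⟩ := exists_dec hG hM hK.hall
  have hqU : q ∣ Nat.card U := dvd_of_hall (dec_U_hall hG hM hU) hq ⟨hq, hqk, hqs⟩ hqM
  have hU1 : U ≠ ⊥ := by
    rintro rfl
    rw [Subgroup.card_bot] at hqU
    exact hq.one_lt.ne' (Nat.dvd_one.1 hqU)
  obtain ⟨R, hR⟩ := L.exists_sylIn (p := q) U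
  have hR1 : R ≠ ⊥ := ne_bot_of_sylIn (q := q) hR hqU
  obtain ⟨H, hH, hRH⟩ := exists_coatom_of_nz hG hR1 (pgroup_ne_top hG hR.isPGroup)
  obtain ⟨-, hUH, -, -, -, hc⟩ := thm_14_12 hG hM hU hK.ne hU1 D hq hqU hR hH hRH
  have hqH : q ∈ sigma H := (ms_hall hG hH).2.1 q hq (hqU.trans (card_dvd_of_le hUH))
  obtain ⟨g, hg⟩ := sigma_conj hG hH hS.coatom hqH hqN
  obtain ⟨s, hs, hsx⟩ := Nat.exists_prime_and_dvd (n := orderOf x)
    (fun h => hx1 (orderOf_eq_one_iff.1 h))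
  have hsN : s ∈ tau2 N := hS.tau2 s hs hsx
  have hsH : s ∈ tau2 H := by rwa [hg, tau2_cj] at hsN
  obtain ⟨A, hA, hA1, hA2⟩ := exists_ea_sq hG hH hc hsH
  exact dual_no_ea hG D hs (ms_pi hG hM hx s hs hsx) (hA.trans inf_le_right) hA1 hA2

/-- `τ₂(M) = ∅` -/
theorem row1436_tau2 {M N : Subgroup G} (hM : IsCoatom M) {x : G} (hx : x ∈ sigmaCore M)
    (hx1 : x ≠ 1) (hS : Sup M x N) {q : ℕ} (hqN : q ∈ sigma N) (hqM : q ∣ Nat.card M) :
    tau2 M = ∅ := by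
  have hq : q.Prime := hqN.1
  have hqF : Fact q.Prime := ⟨hq⟩
  have hqβ : q ∈ beta N := sup_beta hG hM hx hx1 hS hqM hqN
  have hqs : q ∉ sigma M := fun h => sigma_not_of_not_conj hG hM hS.coatom hS.not_conj h hqN
  have hκ := row1436_kappa hG hM hx hx1 hS hqN hqM
  rw [Set.eq_empty_iff_forall_notMem]
  intro r hr2
  have hr : r.Prime := hr2.1
  have hrF : Fact r.Prime := ⟨hr⟩
  obtain ⟨E, hE⟩ := exists_compl hG hM
  have hqE : q ∣ Nat.card E := dvd_of_hall (compl_hall hG hM hE) hq hqs hqM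
  obtain ⟨Q, hQE, hQ⟩ := exists_prime_sub' hq hqE
  obtain ⟨A, hAE, hA1, hA2⟩ := exists_ea_sq hG hM hE hr2
  have hAM : A ≤ M := hAE.trans hE.1
  obtain ⟨N₂, hN₂, hAN₂⟩ := exists_coatom_of_nz hG (card_sq_ne_bot hr hA2) (ea_ne_top hG hr hA1)
  have hq2 : ∀ {L : Subgroup G}, IsCoatom L → q ∉ tau2 L := fun hL h => tau2_not_beta hG hL h hqβ
  obtain ⟨s, hs, hsx⟩ := Nat.exists_prime_and_dvd (n := orderOf x)
    (fun h => hx1 (orderOf_eq_one_iff.1 h))
  have hsN : s ∈ tau2 N := hS.tau2 s hs hsx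
  have hsM : s ∈ sigma M := ms_pi hG hM hx s hs hsx
  by_cases hAQ : Q ≤ centralizer (A : Set G)
  · -- `Q` centralizes `A`
    obtain ⟨h, hh, hh1⟩ := exists_ne_one (ne_bot_of_card_prime (X := Q) (by rw [hQ]; exact hq))
    have hho : orderOf h = q := by
      rw [← Nat.card_zpowers, zpowers_eq_of_card_prime (by rw [hQ]; exact hq) hh hh1, hQ]
    obtain ⟨N₁, hN₁, ⟨g, hg⟩, hhN₁⟩ := exists_conj_mem_ms hG hS.coatom hh1 (by
      intro p hp hd
      rw [hho] at hd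
      rwa [(Nat.prime_dvd_prime_iff_eq hp hq).1 hd])
    have hQN₁ : Q ≤ N₁ := by
      rw [← zpowers_eq_of_card_prime (by rw [hQ]; exact hq) hh hh1, zpowers_le]
      exact ms_le _ hhN₁
    have hqN₁ : q ∈ sigma N₁ := by rw [hg, sigma_cj]; exact hqN
    have hqβ₁ : q ∈ beta N₁ := by rw [hg, beta_cj]; exact hqβ
    have hu : UniqIn (centralizer (Q : Set G)) N₁ :=
      (BB.S1423 hG N₁ hN₁ q hqN₁ Q hQN₁ hQ default (Or.inl hqβ₁)).1
    have hAN₁ : A ≤ N₁ := (le_cent_comm.1 hAQ).trans hu.1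
    have hQs : Q ≤ sigmaCore N₁ := le_ms hG hN₁ hQN₁
      (isPiSub_of_isPGroup hqN₁ (IsPGroup.of_card (n := 1) (by rw [hQ, pow_one])))
    have hrN₁ : r ∈ sigma N₁ := by
      by_contra hrN₁
      have h1 := mem_tau2_of_ea hG hN₁ hr hAN₁ hA1 hA2 hrN₁
      have h2 := (BB.S1417 hG N₁ hN₁ r h1 A ⟨hAN₁, hA1, hA2⟩).2.2.2.1
      apply ne_bot_of_card_prime (X := Q) (by rw [hQ]; exact hq)
      rw [eq_bot_iff, ← h2]
      exact le_inf hQs hAQ
    -- an element of `A` centralizing a nontrivial element of `M_σ`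
    have hAp : IsPGroup r A := isEA_isPGroup hA1
    obtain ⟨a, ha, ha1, hca⟩ : ∃ a ∈ A, a ≠ 1 ∧
        sigmaCore M ⊓ centralizer ({a} : Set G) ≠ ⊥ := by
      by_contra hcon
      push Not at hcon
      have h1 := H23.iSup_centralizer_of_not_isCyclic (A := A) (G := sigmaCore M) hA1.1
        (not_cyclic_of_ea_sq hr hA1 hA2) (hAM.trans (le_nz_ms M)) (by
          rw [hA2]
          refine Nat.Coprime.pow_left _ ?_
          rw [hr.coprime_iff_not_dvd]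
          intro hd
          exact hr2.2.1 ((ms_hall hG hM).2.1 r hr hd))
      apply sigmaCore_ne_bot hG hM
      rw [← h1, iSup_eq_bot]
      rintro ⟨a, ha, ha1⟩
      exact hcon a ha ha1
    have hao : orderOf a = r := by
      have h1 : a ^ r = 1 := hA1.2 a ha
      exact orderOf_eq_prime h1 ha1
    have hau : UniqIn (centralizer ((zpowers a : Subgroup G) : Set G)) M := by
      refine (BB.S1418 hG M hM E hE r hr2 A ⟨hAE, hA1, hA2⟩).2.2 (zpowers a)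
        (by rwa [zpowers_le]) (card_zpowers_eq hao) ?_
      rwa [cent_zpowers]
    rw [cent_zpowers] at hau
    have haN₁ : a ∈ sigmaCore N₁ := (le_ms hG hN₁ hAN₁ (isPiSub_of_isPGroup hrN₁ hAp)) ha
    have hnc : ¬ centralizer ({a} : Set G) ≤ N₁ := by
      intro h
      have := hau.2 N₁ hN₁ h
      rw [this] at hrN₁
      exact hr2.2.1 hrN₁
    obtain ⟨M₂, hM₂⟩ := thm_14_4 hG hN₁ haN₁ ha1 hnc
    have hMM : M₂ = M := hau.2 M₂ hM₂.coatom hM₂.uniq.1
    rw [hMM] at hM₂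
    have hsN₁ : s ∣ Nat.card N₁ := by
      rw [hg, L.card_cj]
      exact dvd_of_tau2 hG hS.coatom hsN
    have := sup_beta hG hN₁ haN₁ ha1 hM₂ hsN₁ hsM
    exact tau2_not_beta hG hS.coatom hsN this
  · obtain ⟨hX1, hXA, hXc, hqN₂, h⟩ := act_core hG hM hκ hE hq hQE hQ (hq2 hM) hr2 hAE hA1 hA2 hAQ
      hN₂ hAN₂
    rcases h with ⟨h, -⟩ | ⟨h, hP1⟩
    · exact hq2 hN₂ h
    have hrN₂ : r ∈ sigma N₂ := (tau2_sub_sigma hG hM hE hr2 hAE hA1 hA2 hN₂ hAN₂).2.1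
    obtain ⟨K₂, hK₂⟩ := exists_PM hG hN₂ ⟨q, h⟩
    obtain ⟨N', D, hor⟩ := hK₂.exists_dual hG
    have hnP : ¬ IsP1 N' := hor.resolve_left (fun h => h hP1)
    have hpr := (D.pm'.p2 hG hnP).1
    have hqK₂ : q ∣ Nat.card K₂ := dvd_of_hall hK₂.hall hq h h.2.1
    have hqN' : q ∈ sigma N' := D.symm.K'_pi hG q hq hqK₂
    obtain ⟨g, hg⟩ := sigma_conj hG D.pm'.coatom hS.coatom hqN' hqN
    have D₁ := D.cj g
    rw [← hg] at D₁
    have hXN : ⁅A, Q⁆ ≤ N := by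
      refine le_trans ?_ hS.uniq.1
      refine hXc.trans (Subgroup.centralizer_le ?_)
      rintro y hy
      rw [Set.mem_singleton_iff.1 hy]
      exact hx
    have hXp : IsPGroup r ↥⁅A, Q⁆ := (isEA_isPGroup hA1).to_le hXA
    obtain ⟨n, hn, hle⟩ := OOT.IsPiHallOf.exists_conj_le (coatom_sol hG hS.coatom) (D₁.hall' hG) hXN
      (isPiSub_of_isPGroup (by rw [sigma_cj]; exact hrN₂) hXp)
    have hpr' : (Nat.card (cj g (Kst N₂ K₂))).Prime := by rw [L.card_cj]; exact hpr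
    obtain ⟨w, hw, hw1⟩ := exists_ne_one hX1
    have hw' : n * w * n⁻¹ ∈ cj g (Kst N₂ K₂) := hle (L.conj_mem_cj hw)
    have hw1' : n * w * n⁻¹ ≠ 1 := by
      intro h
      apply hw1
      rwa [mul_inv_eq_one, mul_eq_left] at h
    have hz : n * x * n⁻¹ ∈ Zof (cj g N₂) (cj g K₂) := by
      rw [← D₁.cent_K' hG hw' hw1']
      refine ⟨N.mul_mem (N.mul_mem hn (hS.uniq.1 (mem_cent_singleton.2 rfl))) (N.inv_mem hn), ?_⟩
      refine mem_cent_singleton.2 ?_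
      have h5 : x * w = w * x := (mem_cent_iff.1 (hXc hw) x hx).symm
      calc n * x * n⁻¹ * (n * w * n⁻¹) = n * (x * w) * n⁻¹ := by group
        _ = n * (w * x) * n⁻¹ := by rw [h5]
        _ = _ := by group
    have hzτ : PiElt (tau2 N) (n * x * n⁻¹) := by
      intro p hp hd
      rw [orderOf_conj] at hd
      exact hS.tau2 p hp hd
    have hzK : n * x * n⁻¹ ∈ cj g (Kst N₂ K₂) := by
      rw [← D₁.Z_eq] at hz
      exact D₁.pm'.mem_K hG hz (fun p hp hd => (hzτ p hp hd).2.1)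
    have : n * x * n⁻¹ = 1 := by
      by_contra h1
      obtain ⟨p, hp, hd⟩ := Nat.exists_prime_and_dvd (n := orderOf (n * x * n⁻¹))
        (fun h => h1 (orderOf_eq_one_iff.1 h))
      refine kappa_not_tau2 (D₁.pm'.hall.2.1 p hp (hd.trans ?_)) (hzτ p hp hd)
      exact Subgroup.orderOf_dvd_natCard _ hzK
    apply hx1
    rwa [mul_inv_eq_one, mul_eq_left] at this

end Cfsg.Agent.H21
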