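import Cfsg.Agent.H21.OT14v

set_option autoImplicit false
set_option linter.unusedVariables false

/-! Tools for S1372. -/

namespace Cfsg.Agent.H21

open Subgroup
open Cfsg.Agent.L (cj nz SylIn)
open Cfsg.Agent.H14 (IsPiSub)
open Cfsg.Agent.OOT
open scoped Pointwise

universe u
variable {G : Type u} [Group G] [Finite G]

/-- the `σ(M)'`-part of `F(M)` -/
abbrev YY (M : Subgroup G) : Subgroup G := piCoreOf {q | q.Prime ∧ q ∉ sigma M} (fittingOf M)

theorem YY_le (M : Subgroup G) : YY M ≤ fittingOf M := piCoreOf_le _ _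

theorem le_nz_YY (M : Subgroup G) : M ≤ nz (YY M) :=
  (le_normalizer_fittingOf M).trans (normalizer_le_normalizer_piCoreOf _ _)

theorem YY_hall (M : Subgroup G) :
    IsPiHallOf {q | q.Prime ∧ q ∉ sigma M} (YY M) (fittingOf M) :=
  nil_piCore_hall (fittingOf_nilpotent M) _

theorem mem_YY {M : Subgroup G} {x : G} (hx : x ∈ fittingOf M) (h : PiElt {q | q ∉ sigma M} x) :
    x ∈ YY M :=
  piElt_mem_normal_hall (YY_hall M) (le_normalizer_piCoreOf _ _) hx
    (fun p hp hd => ⟨hp, h p hp hd⟩)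

/-- a subgroup of a cyclic normal subgroup is normal -/
theorem le_nz_of_cyclic {V X M : Subgroup G} (hV : IsCyclic V) (hX : X ≤ V) (hM : M ≤ nz V) :
    M ≤ nz X := by
  intro m hm
  rw [L.mem_nz_iff]
  refine eq_of_card_of_cyclic hV ?_ hX (L.card_cj _ _)
  have h1 := L.mem_nz_iff.1 (hM hm)
  rw [← h1]
  exact L.cj_mono hX

variable (hG : IsMinSimpleOddOrder G)
include hG

/-- an element of prime order `p ∈ β(M)` -/
theorem uniq_of_beta {M : Subgroup G} (hM : IsCoatom M) {x : G} {p : ℕ} (hp : p.Prime)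
    (hx : x ∈ M) (hxp : orderOf x = p) (hβ : p ∈ beta M) :
    UniqIn (centralizer ({x} : Set G)) M := by
  have : Fact p.Prime := ⟨hp⟩
  have h1 := (BB.S1423 hG M hM p (beta_sub_sigma hG hM hβ) (zpowers x) (by rwa [zpowers_le])
    (card_zpowers_eq hxp) default (Or.inl hβ)).1
  rw [cent_zpowers] at h1
  exact h1

omit [Finite G] hG in
theorem isTI_of {X : Subgroup G} {M : Subgroup G} (hM : M ≤ nz X)
    (h : ∀ g : G, ∀ x ∈ X, x ≠ 1 → g * x * g⁻¹ ∈ X → g ∈ M) : IsTISubset (X : Set G) := by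
  intro g hg x hx hgx
  by_contra hx1
  exact hg (hM (h g x hx hx1 hgx))

end Cfsg.Agent.H21
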