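import Cfsg.Agent.H21.OT15a
import Cfsg.Agent.H21.BB15

set_option autoImplicit false
set_option linter.unusedVariables false

/-! S1372: type P2, `F(M)` is TI. -/

namespace Cfsg.Agent.H21

open Subgroup
open Cfsg.Agent.L (cj nz SylIn)
open Cfsg.Agent.H14 (IsPiSub)
open Cfsg.Agent.OOT
open scoped Pointwise

universe u
variable {G : Type u} [Group G] [Finite G]

variable (hG : IsMinSimpleOddOrder G)
include hG

/-- the Fitting subgroup part: an element of prime order outside `σ(M)` in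
`F(M) ∩ F(M)ᵍ` forces `g ∈ M` -/
theorem YY_TI {M : Subgroup G} (hM : IsCoatom M) {N : Subgroup G} (hN : IsCoatom N) {x : G}
    (hx1 : x ≠ 1) (hx : x ∈ fittingOf M) (hx' : x ∈ fittingOf N)
    (h : PiElt {q | q ∉ sigma M} x) (h' : PiElt {q | q ∉ sigma N} x) : N = M := by
  have hc := (BB.S1439 hG M hM).1
  have hc' := (BB.S1439 hG N hN).1
  have h1 : zpowers x ≤ YY M := by rw [zpowers_le]; exact mem_YY hx h
  have h2 : zpowers x ≤ YY N := by rw [zpowers_le]; exact mem_YY hx' h'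
  have hx0 : zpowers x ≠ ⊥ := by rw [Ne, Subgroup.zpowers_eq_bot]; exact hx1
  have h3 := coatom_normalizer_eq hG hM hx0 (h1.trans ((YY_le M).trans (fittingOf_le M)))
    (le_nz_of_cyclic hc h1 (le_nz_YY M))
  have h4 := coatom_normalizer_eq hG hN hx0 (h2.trans ((YY_le N).trans (fittingOf_le N)))
    (le_nz_of_cyclic hc' h2 (le_nz_YY N))
  rw [← h3, ← h4]

/-- reduce TI of `F(M)` to elements of prime order -/
theorem fitting_TI {M : Subgroup G} (hM : IsCoatom M)
    (h : ∀ N : Subgroup G, (∃ g : G, N = cj g M) → ∀ p : ℕ, p.Prime → p ∈ sigma M → ∀ x : G,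
      x ∈ fittingOf M → x ∈ fittingOf N → orderOf x = p → N = M) :
    IsTISubset (fittingOf M : Set G) := by
  refine isTI_of (M := M) (le_normalizer_fittingOf M) ?_
  intro g x hx hx1 hgx
  have hg1 : ∀ k : G, cj k M = M → k ∈ M := by
    intro k hk
    have h1 : k ∈ nz M := L.mem_nz_iff.2 hk
    rwa [show nz M = M from coatom_normalizer_self hG hM] at h1
  obtain ⟨p, hp, hd⟩ := Nat.exists_prime_and_dvd (n := orderOf x)
    (fun h => hx1 (orderOf_eq_one_iff.1 h))
  obtain ⟨z, hz, hzp⟩ := exists_prime_power_elt hp hd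
  have hzF : z ∈ fittingOf M := (zpowers_le.2 hx) hz
  have hz1 : z ≠ 1 := by
    rintro rfl
    rw [orderOf_one] at hzp
    exact hp.one_lt.ne hzp
  have hzF' : z ∈ fittingOf (cj g⁻¹ M) := by
    rw [← cj_fittingOf]
    refine (zpowers_le (g := x)).2 ?_ hz
    rw [L.mem_cj]
    simpa using hgx
  suffices h0 : cj g⁻¹ M = M by
    have := hg1 _ h0
    exact inv_mem_iff.1 this
  by_cases hpσ : p ∈ sigma M
  · exact h _ ⟨g⁻¹, rfl⟩ p hp hpσ z hzF hzF' hzp
  · have hn : PiElt {q | q ∉ sigma M} z := by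
      intro q hq hd'
      rw [hzp] at hd'
      rw [(Nat.prime_dvd_prime_iff_eq hq hp).1 hd']; exact hpσ
    refine YY_TI hG hM (coatom_cj hM _) hz1 hzF hzF' hn ?_
    rw [sigma_cj]; exact hn

theorem row1372 {M K U : Subgroup G} (hM : IsCoatom M) (h : IsSigmaDecomposition M K U)
    (hK1 : K ≠ ⊥) (hU1 : U ≠ ⊥) :
    (Nat.card K).Prime ∧ IsTISubset (fittingOf M : Set G) ∧ sigmaCore M ≤ fittingOf M := by
  have hPM : PM M K := dec_PM hM h hK1
  have hnP : ¬ IsP1 M := fun h1 => hU1 ((dec_P1_iff hG hM h).1 h1)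
  obtain ⟨h1, h2, -⟩ := hPM.p2 hG hnP
  have hle : sigmaCore M ≤ fittingOf M := le_fittingOf (ms_le M) (le_nz_ms M) h2
  refine ⟨h1, ?_, hle⟩
  refine fitting_TI hG hM ?_
  rintro N ⟨g, rfl⟩ p hp hpσ x hx hx' hxp
  have hβ := hPM.sigma_sub_beta hG hnP hpσ
  have h3 := uniq_of_beta hG hM hp (fittingOf_le M hx) hxp hβ
  have h4 := uniq_of_beta hG (coatom_cj hM g) hp (fittingOf_le _ hx') hxp (by rwa [beta_cj])
  exact h3.2 _ (coatom_cj hM g) h4.1

end Cfsg.Agent.H21
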