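import Cfsg.Agent.H21.OT14v

set_option autoImplicit false
set_option linter.unusedVariables false

/-! S1360. -/

namespace Cfsg.Agent.H21

open Subgroup
open Cfsg.Agent.L (cj nz SylIn)
open Cfsg.Agent.H14 (IsPiSub)
open Cfsg.Agent.OOT
open scoped Pointwise

universe u
variable {G : Type u} [Group G] [Finite G]

/-- elements of order `p` in the cyclic group generated by a product -/
theorem zpowers_prime_part {x y : G} (hc : x * y = y * x) (hco : (orderOf x).Coprime (orderOf y))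
    {p : ℕ} (hp : p.Prime) (hd : p ∣ orderOf x) {z : G} (hz : z ∈ zpowers (x * y))
    (hzp : orderOf z = p) : z ∈ zpowers x := by
  obtain ⟨w, hw, hwp⟩ := exists_prime_power_elt hp hd
  have h1 : zpowers x ≤ zpowers (x * y) := zpowers_le.2 (mem_zpowers_of_coprime hc hco)
  have h2 : zpowers z = zpowers w := by
    refine eq_of_card_of_cyclic (V := zpowers (x * y)) inferInstance (zpowers_le.2 hz)
      (zpowers_le.2 (h1 hw)) ?_
    rw [card_zpowers_eq hzp, card_zpowers_eq hwp]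
  have h3 : zpowers w ≤ zpowers x := zpowers_le.2 hw
  exact h3 (h2 ▸ mem_zpowers z)

theorem cyc_build {U : Subgroup G} (hU : ∀ a ∈ U, ∀ b ∈ U, a * b = b * a) {e : ℕ} (he : e ≠ 0)
    (free : G → Prop)
    (h : ∀ p : ℕ, p.Prime → p ∣ e → ∃ x ∈ U, orderOf x = p ^ (e.factorization p) ∧
      ∀ z ∈ zpowers x, orderOf z = p → free z) :
    ∃ x ∈ U, orderOf x = e ∧ ∀ p : ℕ, p.Prime → ∀ z ∈ zpowers x, orderOf z = p → free z := by
  classical
  have key : ∀ s : Finset ℕ, s ⊆ e.primeFactors → ∃ x ∈ U,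
      orderOf x = ∏ p ∈ s, p ^ (e.factorization p) ∧
      ∀ p ∈ s, ∀ z ∈ zpowers x, orderOf z = p → free z := by
    intro s
    induction s using Finset.induction_on with
    | empty => exact fun _ => ⟨1, U.one_mem, by simp, by simp⟩
    | insert p s hps ih =>
      intro hs
      obtain ⟨x, hx, hxo, hxf⟩ := ih ((Finset.subset_insert p s).trans hs)
      have hpe : p ∈ e.primeFactors := hs (Finset.mem_insert_self p s)
      have hp : p.Prime := Nat.prime_of_mem_primeFactors hpe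
      have hpd : p ∣ e := Nat.dvd_of_mem_primeFactors hpe
      obtain ⟨y, hy, hyo, hyf⟩ := h p hp hpd
      have hv : e.factorization p ≠ 0 := (hp.factorization_pos_of_dvd he hpd).ne'
      have hco : (orderOf y).Coprime (orderOf x) := by
        rw [hxo, hyo]
        refine Nat.Coprime.prod_right fun q hq => ?_
        have hqp : q.Prime := Nat.prime_of_mem_primeFactors (hs (Finset.mem_insert_of_mem hq))
        refine Nat.Coprime.pow _ _ ((Nat.coprime_primes hp hqp).2 ?_)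
        rintro rfl; exact hps hq
      have hc : y * x = x * y := hU y hy x hx
      refine ⟨y * x, U.mul_mem hy hx, ?_, ?_⟩
      · rw [(show Commute y x from hc).orderOf_mul_eq_mul_orderOf_of_coprime hco, hxo, hyo,
          Finset.prod_insert hps]
      · intro q hq z hz hzq
        rcases Finset.mem_insert.1 hq with rfl | hq
        · exact hyf z (zpowers_prime_part hc hco hp (by rw [hyo]; exact dvd_pow_self _ hv) hz hzq) hzq
        · have hqp : q.Prime := Nat.prime_of_mem_primeFactors (hs (Finset.mem_insert_of_mem hq))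
          have hqd : q ∣ e := Nat.dvd_of_mem_primeFactors (hs (Finset.mem_insert_of_mem hq))
          have hvq : e.factorization q ≠ 0 := (hqp.factorization_pos_of_dvd he hqd).ne'
          rw [hc] at hz
          refine hxf q hq z (zpowers_prime_part hc.symm hco.symm hqp ?_ hz hzq) hzq
          rw [hxo]
          exact (dvd_pow_self q hvq).trans (Finset.dvd_prod_of_mem _ hq)
  obtain ⟨x, hx, hxo, hxf⟩ := key e.primeFactors (Finset.Subset.refl _)
  have hxe : orderOf x = e := by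
    rw [hxo]
    exact Nat.prod_factorization_pow_eq_self he
  refine ⟨x, hx, hxe, ?_⟩
  intro p hp z hz hzp
  refine hxf p ?_ z hz hzp
  rw [Nat.mem_primeFactors]
  refine ⟨hp, ?_, he⟩
  rw [← hzp, ← hxe]
  exact orderOf_dvd_of_mem_zpowers hz

/-- an element of an abelian group of maximal `p`-power order -/
theorem exists_max_order {U : Subgroup G} (hU : IsMulCommutative U) {p : ℕ} (hp : p.Prime) :
    ∃ x ∈ U, orderOf x = p ^ ((Monoid.exponent U).factorization p) := by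
  have he : Monoid.exponent U ≠ 0 := Monoid.exponent_ne_zero_of_finite
  obtain ⟨g, hg⟩ : ∃ g : U, orderOf g = Monoid.exponent U := by
    let _ : CommGroup U := { (inferInstance : Group U) with mul_comm := hU.is_comm.comm }
    exact Monoid.exists_orderOf_eq_exponent (Monoid.ExponentExists.of_finite)
  set e := Monoid.exponent U with hedef
  set v := e.factorization p with hv
  have hdvd : p ^ v ∣ e := Nat.ordProj_dvd e p
  obtain ⟨m, hm⟩ := hdvd
  have hm0 : m ≠ 0 := by rintro rfl; rw [mul_zero] at hm; exact he hm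
  refine ⟨(g : G) ^ m, U.pow_mem g.2 m, ?_⟩
  rw [orderOf_pow' _ hm0, Subgroup.orderOf_coe, hg, hm]
  rw [Nat.gcd_eq_right (Dvd.intro_left _ rfl)]
  exact Nat.mul_div_cancel _ (Nat.pos_of_ne_zero hm0)

omit [Finite G] in
theorem pow_mem_zpowers_conj {x : G} {n : ℕ} {P : Subgroup G} {g : G} (hg : g ∈ nz P) (hx : x ∈ P)
    (h : ∀ y ∈ P, y ^ n ∈ zpowers (x ^ n)) : g * (x ^ n) * g⁻¹ ∈ zpowers (x ^ n) := by
  have h1 : g * x * g⁻¹ ∈ P := (Subgroup.mem_normalizer_iff.1 hg x).1 hx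
  have h2 := h _ h1
  rwa [conj_pow] at h2

variable (hG : IsMinSimpleOddOrder G)
include hG

theorem free_elt {M K U : Subgroup G} (hM : IsCoatom M) (h : IsSigmaDecomposition M K U)
    (hK1 : K ≠ ⊥) {p : ℕ} (hp : p.Prime) (hpd : p ∣ Monoid.exponent U) :
    ∃ x ∈ U, orderOf x = p ^ ((Monoid.exponent U).factorization p) ∧
      ∀ z ∈ zpowers x, orderOf z = p → sigmaCore M ⊓ centralizer ({z} : Set G) = ⊥ := by
  have hpF : Fact p.Prime := ⟨hp⟩
  have hUc : IsMulCommutative U := dec_U_comm hG hM h hK1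
  have hUc' := mulComm_iff.1 hUc
  have he : Monoid.exponent U ≠ 0 := Monoid.exponent_ne_zero_of_finite
  obtain ⟨x₀, hx₀, hxo⟩ := exists_max_order hUc hp
  set v := (Monoid.exponent U).factorization p with hv
  have hv0 : v ≠ 0 := (hp.factorization_pos_of_dvd he hpd).ne'
  by_cases hfree : ∀ z ∈ zpowers x₀, orderOf z = p → sigmaCore M ⊓ centralizer ({z} : Set G) = ⊥
  · exact ⟨x₀, hx₀, hxo, hfree⟩
  push Not at hfree
  obtain ⟨z₀, hz₀, hz₀p, hz₀c⟩ := hfree
  have hUM : U ≤ M := dec_U_le h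
  have hz₀U : z₀ ∈ U := (zpowers_le.2 hx₀) hz₀
  have hpU : p ∣ Nat.card U := by
    rw [← hz₀p]; exact Subgroup.orderOf_dvd_natCard _ hz₀U
  obtain ⟨hpκ, hpσ⟩ := dec_U_pi hG hM h p hp hpU
  have hτ : p ∈ tau2 M := by
    obtain ⟨y, hy, hy1⟩ := exists_ne_one hz₀c
    exact (kappa_or_tau2 hG hM (hUM hz₀U) hp hz₀p hpσ hy.1 hy1
      (mem_cent_singleton.1 hy.2).symm).resolve_left hpκ
  have hE := dec_compl hG hM h
  obtain ⟨A, hAE, hA1, hA2⟩ := exists_ea_sq hG hM hE hτ
  have hAM : A ≤ M := hAE.trans hE.1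
  have hAp : IsPGroup p A := isEA_isPGroup hA1
  obtain ⟨⟨hEA, hEX⟩, -, h18⟩ := BB.S1418 hG M hM _ hE p hτ A ⟨hAE, hA1, hA2⟩
  obtain ⟨-, h17b, -, -, -, A₁, hA₁, hA₁c, hA₁f⟩ := BB.S1417 hG M hM p hτ A ⟨hAM, hA1, hA2⟩
  have hUhall := dec_U_hall hG hM h
  have hAU : A ≤ U := by
    refine piSub_le_normal_hall (OOT.IsPiHallOf.of_le hUhall le_sup_left hE.1) ?_ hAE
      (isPiSub_of_isPGroup (π := {q | q.Prime ∧ q ∉ kappa M ∧ q ∉ sigma M}) ⟨hp, hpκ, hpσ⟩ hAp)
    exact sup_le le_normalizer h.normal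
  obtain ⟨P, hP⟩ := L.exists_sylIn (p := p) U
  have hPM : SylIn p P M := by
    refine ⟨hP.le.trans hUM, hP.isPGroup, fun hd => ?_⟩
    rw [← Subgroup.relIndex_mul_relIndex P U M hP.le hUM] at hd
    rcases hp.dvd_mul.1 hd with hd | hd
    · exact hP.not_dvd hd
    · exact hUhall.2.2 p hp ⟨hp, hpκ, hpσ⟩ hd
  have hPge : ∀ Q : Subgroup G, Q ≤ U → IsPGroup p Q → Q ≤ P := by
    intro Q hQ hQp
    obtain ⟨u, hu, hle⟩ := hP.exists_conj_le hQp hQ
    have : cj u Q = Q :=
      L.mem_nz_iff.1 (cent_le_nz _ (mem_cent_iff.2 fun q hq => hUc' u hu q (hQ hq)))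
    rwa [this] at hle
  have hAP : A ≤ P := hPge A hAU hAp
  have hx₀P : x₀ ∈ P := by
    have : zpowers x₀ ≤ P := hPge _ (zpowers_le.2 hx₀)
      (IsPGroup.of_card (n := v) (by rw [Nat.card_zpowers, hxo]))
    exact this (mem_zpowers x₀)
  clear_value v
  obtain ⟨w, rfl⟩ : ∃ w, v = w + 1 := ⟨v - 1, by omega⟩
  set n := p ^ w with hn
  have hn0 : n ≠ 0 := pow_ne_zero _ hp.ne_zero
  have hz₁ : orderOf (x₀ ^ n) = p := by
    rw [orderOf_pow' _ hn0, hxo, hn, pow_succ, Nat.gcd_eq_right (Dvd.intro _ rfl)]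
    exact Nat.mul_div_cancel_left _ (Nat.pos_of_ne_zero hn0)
  have hzz : zpowers (x₀ ^ n) = zpowers z₀ := by
    refine eq_of_card_of_cyclic (V := zpowers x₀) inferInstance
      (zpowers_le.2 (pow_mem (mem_zpowers x₀) n)) (zpowers_le.2 hz₀) ?_
    rw [card_zpowers_eq hz₁, card_zpowers_eq hz₀p]
  have hz₀A : zpowers z₀ ≤ A :=
    hEX _ (zpowers_le.2 (Subgroup.mem_sup_left hz₀U)) (card_zpowers_eq hz₀p)
  have hz₀1 : zpowers z₀ ≠ ⊥ := by
    rw [Ne, Subgroup.zpowers_eq_bot]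
    exact ne_one_of_orderOf hG hp hz₀p
  by_cases hB : ∀ x ∈ P, x ^ n ∈ zpowers (x₀ ^ n)
  · exfalso
    have huniq := h18 (zpowers z₀) hz₀A (card_zpowers_eq hz₀p) (by rwa [cent_zpowers])
    have hne : zpowers z₀ ≠ ⊤ := by
      intro ht
      have h1 : (⊤ : Subgroup G) ≤ M := by rw [← ht, zpowers_le]; exact hUM hz₀U
      exact hM.1 (top_le_iff.1 h1)
    obtain ⟨N, hN, hzN⟩ := exists_coatom_of_nz hG hz₀1 hne
    have hNM : N = M := huniq.2 N hN ((cent_le_nz _).trans hzN)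
    rw [hNM] at hzN
    have hPn : nz P ≤ nz (zpowers z₀) := by
      rw [← hzz]
      have key : ∀ g ∈ nz P, cj g (zpowers (x₀ ^ n)) ≤ zpowers (x₀ ^ n) := by
        intro g hg
        apply L.cj_le_of_forall
        intro y hy
        obtain ⟨i, rfl⟩ := Subgroup.mem_zpowers_iff.1 hy
        rw [← conj_zpow]
        exact zpow_mem (pow_mem_zpowers_conj hg hx₀P hB) i
      intro g hg
      rw [L.mem_nz_iff]
      exact L.eq_of_le_of_card_le (key g hg) (by rw [L.card_cj])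
    have h3 := (h17b hPM.toSylow).2 (by rw [hPM.map_toSylow]; exact hAP)
    rw [hPM.map_toSylow] at h3
    exact h3.2 (hPn.trans hzN)
  · push Not at hB
    obtain ⟨x, hx, hxn⟩ := hB
    have hxU : x ∈ U := hP.le hx
    have hxp : (x ^ n) ^ p = 1 := by
      rw [← pow_mul, hn, ← pow_succ]
      have h1 : orderOf x ∣ Monoid.exponent U := by
        have := Monoid.order_dvd_exponent (⟨x, hxU⟩ : U)
        rwa [← Subgroup.orderOf_coe] at this
      obtain ⟨k, hk⟩ := hP.isPGroup ⟨x, hx⟩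
      have hk' : x ^ p ^ k = 1 := by simpa [Subtype.ext_iff] using hk
      obtain ⟨j, hj, hjo⟩ := (Nat.dvd_prime_pow hp).1 (orderOf_dvd_of_pow_eq_one hk')
      rw [← orderOf_dvd_iff_pow_eq_one, hjo]
      apply pow_dvd_pow
      rw [hjo] at h1
      have h2 := (hp.pow_dvd_iff_le_factorization he).1 h1
      omega
    have hx1 : x ^ n ≠ 1 := by
      intro h1
      rw [h1] at hxn
      exact hxn (one_mem _)
    have hxo' : orderOf (x ^ n) = p := orderOf_eq_prime hxp hx1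
    have hxA : zpowers (x ^ n) ≤ A :=
      hEX _ (zpowers_le.2 (Subgroup.mem_sup_left (U.pow_mem hxU n))) (card_zpowers_eq hxo')
    have hz₁A : zpowers (x₀ ^ n) ≤ A := by rw [hzz]; exact hz₀A
    have hinf : zpowers (x ^ n) ⊓ zpowers (x₀ ^ n) = ⊥ := by
      by_contra hne
      obtain ⟨y, hy, hy1⟩ := exists_ne_one hne
      have hpr : (Nat.card (zpowers (x ^ n))).Prime := by rw [card_zpowers_eq hxo']; exact hp
      have h1 := zpowers_eq_of_card_prime hpr hy.1 hy1
      apply hxn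
      have h2 : zpowers y ≤ zpowers (x₀ ^ n) := zpowers_le.2 hy.2
      rw [h1] at h2
      exact h2 (mem_zpowers _)
    have hcomm : ∀ a ∈ zpowers (x₀ ^ n), ∀ b ∈ zpowers (x ^ n), a * b = b * a := by
      intro a ha b hb
      exact hUc' a (hAU (hz₁A ha)) b (hAU (hxA hb))
    have hnz : zpowers (x₀ ^ n) ≤ nz (zpowers (x ^ n)) :=
      le_trans (fun a ha => mem_cent_iff.2 (hcomm a ha)) (cent_le_nz _)
    have hsup : zpowers (x ^ n) ⊔ zpowers (x₀ ^ n) = A := by
      apply L.eq_of_le_of_card_le (sup_le hxA hz₁A)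
      rw [card_sup_of_le_nz hnz hinf, card_zpowers_eq hxo', card_zpowers_eq hz₁, hA2, sq]
    obtain ⟨a₁, ha₁, ha₁1⟩ := exists_ne_one (ne_bot_of_card_prime (X := A₁) (by rw [hA₁c]; exact hp))
    have ha₁s : a₁ ∈ zpowers (x ^ n) ⊔ zpowers (x₀ ^ n) := by rw [hsup]; exact hA₁ ha₁
    obtain ⟨b, hb, c, hc, hbc⟩ := (H1.mem_sup_iff_of_le_normalizer hnz).1 ha₁s
    obtain ⟨i, rfl⟩ := Subgroup.mem_zpowers_iff.1 hb
    obtain ⟨j, rfl⟩ := Subgroup.mem_zpowers_iff.1 hc
    have hX : (x ^ i * x₀ ^ j) ^ n = a₁ := by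
      have hcm : Commute (x ^ i) (x₀ ^ j) :=
        hUc' _ (U.zpow_mem hxU i) _ (U.zpow_mem hx₀ j)
      rw [hcm.mul_pow, ← hbc]
      congr 1
      · rw [← zpow_natCast, ← zpow_mul, mul_comm, zpow_mul, zpow_natCast]
      · rw [← zpow_natCast, ← zpow_mul, mul_comm, zpow_mul, zpow_natCast]
    have ha₁A : a₁ ^ p = 1 := hA1.2 a₁ (hA₁ ha₁)
    have ha₁o : orderOf a₁ = p := orderOf_eq_prime ha₁A ha₁1
    have hXU : x ^ i * x₀ ^ j ∈ U := U.mul_mem (U.zpow_mem hxU i) (U.zpow_mem hx₀ j)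
    refine ⟨x ^ i * x₀ ^ j, hXU, ?_, ?_⟩
    · apply orderOf_eq_prime_pow
      · rw [← hn, hX]; exact ha₁1
      · rw [pow_succ, pow_mul, ← hn, hX]; exact ha₁A
    · intro z hz hzp
      have h1 : zpowers z = zpowers a₁ := by
        refine eq_of_card_of_cyclic (V := zpowers (x ^ i * x₀ ^ j)) inferInstance
          (zpowers_le.2 hz) (zpowers_le.2 ?_) ?_
        · rw [← hX]; exact pow_mem (mem_zpowers _) n
        · rw [card_zpowers_eq hzp, card_zpowers_eq ha₁o]
      have h2 : zpowers a₁ = A₁ :=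
        zpowers_eq_of_card_prime (by rw [hA₁c]; exact hp) ha₁ ha₁1
      rw [← cent_zpowers, h1, h2]
      exact hA₁f

omit [Finite G] hG in
theorem kappa_empty_of_bot [Finite G] {M K : Subgroup G} (hK : IsPiHallOf (kappa M) K M)
    (h : K = ⊥) : kappa M = ∅ := by
  rw [Set.eq_empty_iff_forall_notMem]
  intro p hp
  have h1 := dvd_of_hall hK (kappa_prime hp) hp hp.2.1
  rw [h, Subgroup.card_bot] at h1
  exact (kappa_prime hp).one_lt.ne' (Nat.dvd_one.1 h1)

end Cfsg.Agent.H21
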