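import Cfsg.Agent.H21.OT15b
import Cfsg.Agent.H21.BBx

set_option autoImplicit false
set_option linter.unusedVariables false

/-! S1360. -/

namespace Cfsg.Agent.H21

open Subgroup
open Cfsg.Agent.L (cj nz SylIn)
open Cfsg.Agent.H14 (IsPiSub)
open Cfsg.Agent.OOT
open scoped Pointwise

universe u
variable {G : Type u} [Group G] [Finite G]


variable (hG : IsMinSimpleOddOrder G)
include hG

theorem row1360 {M K U : Subgroup G} (hM : IsCoatom M) (h : IsSigmaDecomposition M K U) :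
    ∃ U₀ : Subgroup G, U₀ ≤ U ∧ Monoid.exponent U₀ = Monoid.exponent U ∧
      ∀ u ∈ U₀, u ∈ sigmaHat M → u = 1 := by
  by_cases hK1 : K = ⊥
  · have hκ := kappa_empty_of_bot h.hall hK1
    have hE : IsComplIn U (sigmaCore M) M := by
      have := h.compl
      rwa [hK1, bot_sup_eq] at this
    obtain ⟨-, E₀, h1, h2, h3⟩ := BB.S1421 hG M hM U hE
      (fun e he he1 ht => free_of_kappa_empty hG hM h hκ (hE.1 he) he1 ht)
    refine ⟨E₀, h1, h2, ?_⟩
    rintro u hu ⟨-, y, hy, hy1, huy⟩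
    by_contra hu1
    have h4 : y ∈ sigmaCore M ⊓ centralizer ({u} : Set G) := ⟨hy, mem_cent_singleton.2 huy.symm⟩
    rw [h3 u hu hu1, Subgroup.mem_bot] at h4
    exact hy1 h4
  · have hUc' := mulComm_iff.1 (dec_U_comm hG hM h hK1)
    have he : Monoid.exponent U ≠ 0 := Monoid.exponent_ne_zero_of_finite
    obtain ⟨x, hx, hxo, hxf⟩ := cyc_build hUc' he
      (fun z => sigmaCore M ⊓ centralizer ({z} : Set G) = ⊥)
      (fun p hp hpd => free_elt hG hM h hK1 hp hpd)
    refine ⟨zpowers x, zpowers_le.2 hx, ?_, ?_⟩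
    · rw [IsCyclic.exponent_eq_card, Nat.card_zpowers, hxo]
    · rintro u hu ⟨-, y, hy, hy1, huy⟩
      by_contra hu1
      obtain ⟨p, hp, hd⟩ := Nat.exists_prime_and_dvd (n := orderOf u)
        (fun h => hu1 (orderOf_eq_one_iff.1 h))
      obtain ⟨z, hz, hzp⟩ := exists_prime_power_elt hp hd
      have h4 : y ∈ sigmaCore M ⊓ centralizer ({z} : Set G) :=
        ⟨hy, mem_cent_singleton.2 (commute_of_mem_zpowers hz huy).symm⟩
      rw [hxf p hp z ((zpowers_le.2 hu) hz) hzp, Subgroup.mem_bot] at h4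
      exact hy1 h4

end Cfsg.Agent.H21
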