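import Cfsg.Agent.H21.OT15b
import Cfsg.Agent.H23.CoprimeHall

set_option autoImplicit false
set_option linter.unusedVariables false

/-! Frobenius groups `D R` acting on `Q` modulo `C_Q(D)`, via BG 3.10 (S1446). -/

namespace Cfsg.Agent.H21

open Subgroup
open Cfsg.Agent.L (cj nz SylIn)
open Cfsg.Agent.H14 (IsPiSub)
open Cfsg.Agent.OOT
open scoped commutatorElement

universe u
variable {G : Type u} [Group G] [Finite G]

theorem core_quot_normal {Q D R N : Subgroup G} [hNn : N.Normal]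
    (hN : N = Q ⊓ centralizer (D : Set G)) (hQnil : Group.IsNilpotent Q) (hNQ : N ≠ Q)
    (hRD : R ≤ nz D) (hDQ : D ≤ nz Q) (hRQ : R ≤ nz Q) (hinf : D ⊓ R = ⊥)
    (hfrob : ∀ r ∈ R, r ≠ 1 → D ⊓ centralizer ({r} : Set G) = ⊥)
    (hRp : (Nat.card R).Prime) (hodd : Odd (Nat.card (D ⊔ R : Subgroup G)))
    (hsol : Group.IsSolvable (D ⊔ R : Subgroup G))
    (hcop : (Nat.card (D ⊔ R : Subgroup G)).Coprime (Nat.card Q)) :
    Nat.card Q = Nat.card N *
        (Nat.card ((Q ⊓ centralizer (R : Set G)).map (QuotientGroup.mk' N))) ^ (Nat.card R) ∧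
      (IsCyclic (Q ⊓ centralizer (R : Set G) : Subgroup G) →
        ⁅D, D⁆ ≤ centralizer (Q : Set G)) := by
  set π := QuotientGroup.mk' N with hπ
  have hker : ∀ g : G, π g = 1 ↔ g ∈ N := fun g => by
    rw [← MonoidHom.mem_ker, QuotientGroup.ker_mk']
  have hNleQ : N ≤ Q := by rw [hN]; exact inf_le_left
  have hQs : Group.IsSolvable Q := by have := hQnil; infer_instance
  have hNs : Group.IsSolvable N := H1.isSolvable_of_le hNleQ hQs
  have hcopN : (Nat.card (D ⊔ R : Subgroup G)).Coprime (Nat.card N) :=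
    Nat.Coprime.coprime_dvd_right (card_dvd_of_le hNleQ) hcop
  have hcopD : (Nat.card D).Coprime (Nat.card Q) :=
    Nat.Coprime.coprime_dvd_left (card_dvd_of_le le_sup_left) hcop
  have hcopR : (Nat.card R).Coprime (Nat.card Q) :=
    Nat.Coprime.coprime_dvd_left (card_dvd_of_le le_sup_right) hcop
  have hDRN : ∀ x ∈ (D ⊔ R : Subgroup G), x ∈ N → x = 1 := by
    intro x h1 h2
    have h3 : x ∈ (D ⊔ R) ⊓ N := ⟨h1, h2⟩
    rw [(Subgroup.disjoint_of_coprime_natCard hcopN).eq_bot, Subgroup.mem_bot] at h3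
    exact h3
  have hD1 : D ≠ ⊥ := by
    rintro rfl
    apply hNQ
    rw [hN]
    apply inf_eq_left.2
    rw [le_cent_comm]
    exact bot_le
  have hR1 : R ≠ ⊥ := ne_bot_of_card_prime hRp
  have hmapinj : ∀ A : Subgroup G, A ≤ D ⊔ R → A ≠ ⊥ → A.map π ≠ ⊥ := by
    intro A hA hA1 h
    apply hA1
    rw [eq_bot_iff]
    intro a ha
    rw [Subgroup.mem_bot]
    refine hDRN a (hA ha) ((hker a).1 ?_)
    have : π a ∈ A.map π := ⟨a, ha, rfl⟩
    rw [h, Subgroup.mem_bot] at this
    exact this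
  have hcardmap : ∀ A : Subgroup G, A ≤ D ⊔ R → Nat.card (A.map π) = Nat.card A := by
    intro A hA
    symm
    apply Nat.card_eq_of_bijective (fun a : A => (⟨π a, ⟨a, a.2, rfl⟩⟩ : A.map π))
    constructor
    · intro a b hab
      have h1 : π a = π b := congrArg Subtype.val hab
      have h2 : π ((a : G) * (b : G)⁻¹) = 1 := by rw [map_mul, map_inv, h1, mul_inv_cancel]
      have h3 := hDRN _ (hA (A.mul_mem a.2 (A.inv_mem b.2))) ((hker _).1 h2)
      exact Subtype.ext (mul_inv_eq_one.1 h3)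
    · rintro ⟨_, a, ha, rfl⟩
      exact ⟨⟨a, ha⟩, rfl⟩
  have hRcard : Nat.card (R.map π) = Nat.card R := hcardmap R le_sup_right
  have hRp' : (Nat.card (R.map π)).Prime := by rw [hRcard]; exact hRp
  have hsup : D.map π ⊔ R.map π = (D ⊔ R).map π := (Subgroup.map_sup _ _ _).symm
  have hQRmap := H23.map_inf_centralizer (A := R) (G := Q) (N := N)
    (Nat.Coprime.coprime_dvd_right (card_dvd_of_le hNleQ) hcopR) (Or.inr hNs) hNleQ
  have hQDmap := H23.map_inf_centralizer (A := D) (G := Q) (N := N)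
    (Nat.Coprime.coprime_dvd_right (card_dvd_of_le hNleQ) hcopD) (Or.inr hNs) hNleQ
  have hnzmap : ∀ A B : Subgroup G, A ≤ nz B → A.map π ≤ normalizer ((B.map π : Subgroup _) : Set _) :=
    fun A B h => (Subgroup.map_mono h).trans (Subgroup.le_normalizer_map π)
  obtain ⟨-, h2, h3⟩ := BB.S1446 (D.map π) (R.map π) (Q.map π)
    (hmapinj D le_sup_left hD1) (hmapinj R le_sup_right hR1)
    (by
      rw [eq_bot_iff]
      rintro _ ⟨⟨d, hd, rfl⟩, ⟨r, hr, e⟩⟩
      rw [Subgroup.mem_bot]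
      have h1 : π (d * r⁻¹) = 1 := by rw [map_mul, map_inv, e, mul_inv_cancel]
      have h2 := hDRN _ (Subgroup.mul_mem _ (Subgroup.mem_sup_left hd)
        (Subgroup.mem_sup_right (R.inv_mem hr))) ((hker _).1 h1)
      have h3 : d ∈ D ⊓ R := ⟨hd, by rw [mul_inv_eq_one.1 h2]; exact hr⟩
      rw [hinf, Subgroup.mem_bot] at h3
      rw [h3, map_one])
    (hnzmap R D hRD)
    (by
      rintro _ ⟨r, hr, rfl⟩ hne
      have hr1 : r ≠ 1 := by rintro rfl; exact hne (map_one _)
      rw [eq_bot_iff]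
      rintro _ ⟨⟨d, hd, rfl⟩, hc⟩
      rw [Subgroup.mem_bot]
      have h1 : π d * π r = π r * π d := mem_cent_singleton.1 hc
      have h2 : π (r * d * r⁻¹ * d⁻¹) = 1 := by
        simp only [map_mul, map_inv]
        rw [← h1]; group
      have h3 : r * d * r⁻¹ ∈ D := (Subgroup.mem_normalizer_iff.1 (hRD hr) d).1 hd
      have h4 := hDRN _ (Subgroup.mem_sup_left (D.mul_mem h3 (D.inv_mem hd))) ((hker _).1 h2)
      have h5 : d ∈ D ⊓ centralizer ({r} : Set G) := by
        refine ⟨hd, mem_cent_singleton.2 ?_⟩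
        rw [mul_inv_eq_one, mul_inv_eq_iff_eq_mul] at h4
        exact h4.symm
      rw [hfrob r hr hr1, Subgroup.mem_bot] at h5
      rw [h5, map_one])
    (by rw [hsup]; exact H1.isSolvable_map _ hsol)
    (by rw [hsup, hcardmap _ le_rfl]; exact hodd)
    (by
      intro h
      apply hNQ
      apply le_antisymm hNleQ
      intro y hy
      rw [← hker]
      have : π y ∈ Q.map π := ⟨y, hy, rfl⟩
      rw [h, Subgroup.mem_bot] at this
      exact this)
    (H1.isNilpotent_map _ hQnil) (hnzmap D Q hDQ) (hnzmap R Q hRQ)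
    (by
      rw [hsup, hcardmap _ le_rfl]
      exact Nat.Coprime.coprime_dvd_right (Subgroup.card_map_dvd Q π) hcop)
    (by
      rw [← hQDmap, ← hN]
      rw [eq_bot_iff]
      rintro _ ⟨y, hy, rfl⟩
      rw [Subgroup.mem_bot]
      exact (hker y).2 hy)
    (by
      intro x hx hx1
      rw [cent_eq_of_prime hRp' hx hx1])
  have hcQ : Nat.card Q = Nat.card N * Nat.card (Q.map π) := by
    have h4 := Subgroup.card_mul_index (N.subgroupOf Q)
    rw [H1.card_subgroupOf hNleQ] at h4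
    rw [← h4]
    congr 1
    have h5 := Subgroup.index_ker (π.comp Q.subtype)
    rw [MonoidHom.range_comp, Subgroup.range_subtype] at h5
    rw [← h5]
    congr 1
    ext x
    rw [Subgroup.mem_subgroupOf, MonoidHom.mem_ker, MonoidHom.comp_apply, Subgroup.coe_subtype, hker]
  refine ⟨?_, ?_⟩
  · rw [hcQ, h2, hRcard, ← hQRmap]
  · intro hcyc
    have h4 := h3 (by
      rw [← hQRmap]
      exact isCyclic_of_surjective
        ((π.subgroupMap (Q ⊓ centralizer (R : Set G)) : _ →* _)) (π.subgroupMap_surjective _))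
    have hDn : ⁅D, D⁆ ≤ D := Subgroup.commutator_le_self D
    have h5 : ⁅Q, ⁅D, D⁆⁆ ≤ N := by
      rw [Subgroup.commutator_le]
      intro y hy d hd
      rw [← hker]
      have h6 : π d ∈ ⁅D.map π, D.map π⁆ := by
        rw [← Subgroup.map_commutator]; exact ⟨d, hd, rfl⟩
      have h7 := mem_cent_iff.1 (h4 h6) (π y) ⟨y, hy, rfl⟩
      rw [map_commutatorElement, commutatorElement_eq_one_iff_mul_comm]
      exact h7.symm
    rw [le_cent_comm]
    refine H23.le_centralizer_of_commutator_le (N := N) (hDn.trans hDQ)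
      (Nat.Coprime.coprime_dvd_left (card_dvd_of_le hDn) hcopD) h5 ?_
    rw [hN]
    exact inf_le_right.trans (Subgroup.centralizer_le hDn)

omit [Finite G] in
theorem nz_subgroupOf {A B H : Subgroup G} (h : A ≤ nz B) :
    A.subgroupOf H ≤ nz (B.subgroupOf H) := by
  intro g hg
  rw [Subgroup.mem_subgroupOf] at hg
  change g ∈ Subgroup.normalizer _
  rw [Subgroup.mem_normalizer_iff]
  intro x
  have := Subgroup.mem_normalizer_iff.1 (h hg) (x : G)
  simpa [Subgroup.mem_subgroupOf] using this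

omit [Finite G] in
theorem inf_cent_subgroupOf {A B H : Subgroup G} (hB : B ≤ H) :
    (A ⊓ centralizer (B : Set G)).subgroupOf H =
      A.subgroupOf H ⊓ centralizer ((B.subgroupOf H : Subgroup H) : Set H) := by
  ext x
  rw [Subgroup.mem_subgroupOf]
  constructor
  · rintro ⟨h1, h2⟩
    refine ⟨h1, mem_cent_iff.2 fun b hb => Subtype.ext ?_⟩
    exact mem_cent_iff.1 h2 (b : G) hb
  · rintro ⟨h1, h2⟩
    refine ⟨h1, mem_cent_iff.2 fun b hb => ?_⟩
    exact congrArg Subtype.val (mem_cent_iff.1 h2 ⟨b, hB hb⟩ hb)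

omit [Finite G] in
theorem sup_subgroupOf' {A B H : Subgroup G} (hA : A ≤ H) (hB : B ≤ H) :
    (A ⊔ B).subgroupOf H = A.subgroupOf H ⊔ B.subgroupOf H :=
  Subgroup.subgroupOf_sup hA hB

/-- `D R` Frobenius with complement `R` of prime order acting coprimely on the nilpotent group `Q`:
`C_Q(R)` is not contained in `C_Q(D)`, and if it is cyclic then `[D,D]` centralizes `Q`. -/
theorem core_quot {Q D R N : Subgroup G}
    (hN : N = Q ⊓ centralizer (D : Set G)) (hQnil : Group.IsNilpotent Q) (hNQ : N ≠ Q)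
    (hRD : R ≤ nz D) (hDQ : D ≤ nz Q) (hRQ : R ≤ nz Q) (hQN : Q ≤ nz N) (hDN : D ≤ nz N)
    (hRN : R ≤ nz N) (hinf : D ⊓ R = ⊥)
    (hfrob : ∀ r ∈ R, r ≠ 1 → D ⊓ centralizer ({r} : Set G) = ⊥)
    (hRp : (Nat.card R).Prime) (hodd : Odd (Nat.card (D ⊔ R : Subgroup G)))
    (hsol : Group.IsSolvable (D ⊔ R : Subgroup G))
    (hcop : (Nat.card (D ⊔ R : Subgroup G)).Coprime (Nat.card Q)) :
    ¬ Q ⊓ centralizer (R : Set G) ≤ N ∧
      (IsCyclic (Q ⊓ centralizer (R : Set G) : Subgroup G) →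
        ⁅D, D⁆ ≤ centralizer (Q : Set G)) := by
  set H := nz N with hH
  have hNH : N ≤ H := L.le_nz N
  have hNn : (N.subgroupOf H).Normal := by
    rw [Subgroup.normal_subgroupOf_iff_le_normalizer hNH]
  have hDRH : D ⊔ R ≤ H := sup_le hDN hRN
  have e1 := sup_subgroupOf' hDN hRN
  obtain ⟨k1, k2⟩ := core_quot_normal (Q := Q.subgroupOf H) (D := D.subgroupOf H)
    (R := R.subgroupOf H) (N := N.subgroupOf H)
    (by
      rw [← inf_cent_subgroupOf hDN]
      congr 1)
    (H1.isNilpotent_subgroupOf hQN hQnil)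
    (by
      intro h
      apply hNQ
      have h2 := congrArg (Subgroup.map H.subtype) h
      rwa [Subgroup.map_subgroupOf_eq_of_le hNH, Subgroup.map_subgroupOf_eq_of_le hQN] at h2)
    (nz_subgroupOf hRD) (nz_subgroupOf hDQ) (nz_subgroupOf hRQ)
    (by
      have h2 : (D ⊓ R).subgroupOf H = ⊥ := by
        rw [hinf]; exact Subgroup.bot_subgroupOf H
      rw [← h2]; rfl)
    (by
      rintro r hr hr1
      rw [eq_bot_iff]
      rintro x ⟨hx1, hx2⟩
      have h3 : (x : G) ∈ D ⊓ centralizer ({(r : G)} : Set G) :=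
        ⟨hx1, mem_cent_singleton.2 (congrArg Subtype.val (mem_cent_singleton.1 hx2))⟩
      rw [hfrob r hr (fun h => hr1 (Subtype.ext h)), Subgroup.mem_bot] at h3
      exact Subgroup.mem_bot.2 (Subtype.ext h3))
    (by rw [H1.card_subgroupOf hRN]; exact hRp)
    (by rw [← e1, H1.card_subgroupOf hDRH]; exact hodd)
    (by rw [← e1]; exact H1.isSolvable_subgroupOf hDRH hsol)
    (by rw [← e1, H1.card_subgroupOf hDRH, H1.card_subgroupOf hQN]; exact hcop)
  rw [← inf_cent_subgroupOf hRN] at k1 k2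
  refine ⟨?_, ?_⟩
  · intro hle
    have h1 : ((Q ⊓ centralizer (R : Set G)).subgroupOf H).map (QuotientGroup.mk' (N.subgroupOf H))
        = ⊥ := by
      rw [Subgroup.map_eq_bot_iff, QuotientGroup.ker_mk']
      exact Subgroup.comap_mono hle
    rw [h1, Subgroup.card_bot, one_pow, mul_one, H1.card_subgroupOf hQN,
      H1.card_subgroupOf hNH] at k1
    apply hNQ
    exact L.eq_of_le_of_card_le (by rw [hN]; exact inf_le_left) k1.le
  · intro hcyc
    have hQR : (Q ⊓ centralizer (R : Set G)) ≤ H := inf_le_left.trans hQN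
    have h2 := k2 (by
      exact isCyclic_of_injective (Subgroup.subgroupOfEquivOfLe hQR).toMonoidHom
        (Subgroup.subgroupOfEquivOfLe hQR).injective)
    have hDD : ⁅D, D⁆ ≤ H := (Subgroup.commutator_le_self D).trans hDN
    intro x hx
    rw [mem_cent_iff]
    intro y hy
    have h3 : (⟨x, hDD hx⟩ : H) ∈ ⁅D.subgroupOf H, D.subgroupOf H⁆ := by
      have h4 : (⁅D.subgroupOf H, D.subgroupOf H⁆).map H.subtype = ⁅D, D⁆ := by
        rw [Subgroup.map_commutator, Subgroup.map_subgroupOf_eq_of_le hDN]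
      rw [← h4] at hx
      obtain ⟨z, hz, e⟩ := hx
      have : (⟨x, hDD (by rw [← h4]; exact ⟨z, hz, e⟩)⟩ : H) = z := Subtype.ext e.symm
      rw [this]; exact hz
    exact congrArg Subtype.val (mem_cent_iff.1 (h2 h3) ⟨y, hQN hy⟩ hy)

end Cfsg.Agent.H21
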