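import Cfsg.Agent.H21.OT15c
import Cfsg.Agent.H21.BB15

set_option autoImplicit false
set_option linter.unusedVariables false

/-! Structure of `M` with `M_F ≠ M_σ` (BG 15.2). -/

namespace Cfsg.Agent.H21

open Subgroup
open Cfsg.Agent.L (cj nz SylIn)
open Cfsg.Agent.H14 (IsPiSub)
open Cfsg.Agent.OOT
open scoped commutatorElement

universe u
variable {G : Type u} [Group G]

structure NF (M K Q D : Subgroup G) (q : ℕ) : Prop where
  hM : IsCoatom M
  pm : PM M K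
  Kp : (Nat.card K).Prime
  q_eq : Nat.card (Kst M K) = q
  qp : q.Prime
  qβ : q ∈ beta M
  der : sigmaCore M = ⁅M, M⁆
  Q_le : Q ≤ fittingHallOf M
  Q_nz : M ≤ nz Q
  Q_p : IsPGroup q Q
  Q_hall : IsPiHallOf {q} Q (sigmaCore M)
  D_hall : IsPiHallOf {p | p ∉ ({q} : Set ℕ)} D (sigmaCore M)
  K_nz : K ≤ nz D
  D_nil : Group.IsNilpotent D
  Q₀_nz : M ≤ nz (Q ⊓ centralizer (D : Set G))
  Q₀_lt : Q ⊓ centralizer (D : Set G) < Q
  Q₀_pow : ∀ a ∈ Q, ∀ b ∈ Q, a ^ q ∈ Q ⊓ centralizer (D : Set G) ∧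
    a * b * a⁻¹ * b⁻¹ ∈ Q ⊓ centralizer (D : Set G)
  chief : ∀ N : Subgroup G, Q ⊓ centralizer (D : Set G) < N → N < Q → ¬ M ≤ nz N
  kst_le : Kst M K ≤ Q
  kst_not : ¬ Kst M K ≤ Q ⊓ centralizer (D : Set G)
  D_der : ⁅D, D⁆ ≤ centralizer (Q : Set G)

variable [Finite G]

variable (hG : IsMinSimpleOddOrder G)
include hG

theorem exists_NF {M K U : Subgroup G} (hM : IsCoatom M) (h : IsSigmaDecomposition M K U)
    (hne : fittingHallOf M ≠ sigmaCore M) :
    U = ⊥ ∧ ∃ Q D : Subgroup G, NF M K Q D (Nat.card (Kst M K)) := by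
  obtain ⟨hU, hder, hKp, hqp, -, hqβ, Q, hQF, hQn, hQp, hQi, hD⟩ := BB.S1437 hG M hM K U h hne
  refine ⟨hU, ?_⟩
  set q := Nat.card (Kst M K) with hq
  have hqF : Fact q.Prime := ⟨hqp⟩
  have hK1 : K ≠ ⊥ := ne_bot_of_card_prime hKp
  have hPM : PM M K := dec_PM hM h hK1
  have hQs : Q ≤ sigmaCore M := hQF.trans (fhOf_le_ms hG hM)
  have hQhall : IsPiHallOf {q} Q (sigmaCore M) := by
    refine ⟨hQs, isPiSub_of_isPGroup (Set.mem_singleton q) hQp, ?_⟩
    intro p hp hpq hd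
    rw [Set.mem_singleton_iff.1 hpq] at hd
    exact hQi hd
  have hKM : K ≤ M := hPM.K_le
  have hMsol : Group.IsSolvable M := coatom_sol hG hM
  have hKσ : IsPiSub {p | p ∉ sigma M} K := fun p hp hd => kappa_not_sigma (hPM.hall.2.1 p hp hd)
  have hcopK : (Nat.card K).Coprime (Nat.card (sigmaCore M)) := by
    refine Nat.coprime_of_dvd fun p hp h1 h2 => ?_
    exact hKσ p hp h1 ((ms_hall hG hM).2.1 p hp h2)
  obtain ⟨D, hDhall, hKD⟩ := H23.exists_invariant_hall (A := K) (G := sigmaCore M)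
    (hKM.trans (le_nz_ms M)) hcopK (H1.isSolvable_of_le (ms_le M) hMsol) {p | p ∉ ({q} : Set ℕ)}
  have hcompl : IsComplIn Q D (sigmaCore M) :=
    (OOT.IsPiHallOf.isComplIn (π := {q}) (fun p _ => Iff.rfl) hQhall hDhall).1
  obtain ⟨hDnil, hQ₀n, hQ₀lt, hcard, hpow, hchief⟩ := hD D hcompl
  have hDs : D ≤ sigmaCore M := hDhall.1
  have hDM : D ≤ M := hDs.trans (ms_le M)
  have hkQ : Kst M K ≤ Q := by
    refine piSub_le_normal_hall hQhall ((ms_le M).trans hQn) (kst_le_ms M K) ?_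
    exact isPiSub_of_isPGroup (Set.mem_singleton q) (IsPGroup.of_card (n := 1) (by rw [← hq, pow_one]))
  have hQD : Q ⊓ D = ⊥ := hcompl.2.2.1
  have hinf : D ⊓ K = ⊥ := by
    rw [eq_bot_iff, ← K_inf_ms hG hM hPM.hall]
    exact le_inf inf_le_right (inf_le_left.trans hDs)
  have hqK : q ∉ ({Nat.card K} : Set ℕ) := by
    intro he
    rw [Set.mem_singleton_iff] at he
    refine hKσ q hqp (by rw [← he]) (beta_sub_sigma hG hM hqβ)
  have hcop : (Nat.card (D ⊔ K : Subgroup G)).Coprime (Nat.card Q) := by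
    rw [card_sup_of_le_nz hKD hinf]
    refine Nat.coprime_of_dvd fun p hp h1 h2 => ?_
    have hpq : p = q := hQhall.2.1 p hp h2
    rw [hpq] at h1
    rcases hqp.dvd_mul.1 h1 with h1 | h1
    · exact hDhall.2.1 q hqp h1 rfl
    · exact hqK ((Nat.prime_dvd_prime_iff_eq hqp hKp).1 h1)
  have hGodd : Odd (Nat.card G) := hG.1
  have hDK : D ⊔ K ≤ M := sup_le hDM hKM
  have hQk : Q ⊓ centralizer (K : Set G) = Kst M K := by
    apply le_antisymm
    · exact inf_le_inf_right _ hQs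
    · exact le_inf hkQ (kst_le_cent M K)
  have hQnil : Group.IsNilpotent Q := hQp.isNilpotent
  obtain ⟨c1, c2⟩ := core_quot (Q := Q) (D := D) (R := K) (N := Q ⊓ centralizer (D : Set G)) rfl
    hQnil hQ₀lt.ne hKD (hDM.trans hQn) (hKM.trans hQn)
    ((hQs.trans (ms_le M)).trans hQ₀n) (hDM.trans hQ₀n) (hKM.trans hQ₀n) hinf
    (by
      intro r hr hr1
      rw [eq_bot_iff, ← hQD]
      have h1 : D ⊓ centralizer ({r} : Set G) ≤ Kst M K := by
        rw [← hPM.cent_eq hG hr hr1]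
        exact inf_le_inf_right _ hDs
      exact le_inf (h1.trans hkQ) inf_le_left)
    hKp (by
      have := Subgroup.card_subgroup_dvd_card (D ⊔ K)
      exact Odd.of_dvd_nat hGodd this)
    (H1.isSolvable_of_le hDK hMsol) hcop
  rw [hQk] at c1 c2
  refine ⟨Q, D, hM, hPM, hKp, rfl, hqp, hqβ, hder, hQF, hQn, hQp, hQhall, hDhall, hKD, hDnil, hQ₀n,
    hQ₀lt, hpow, hchief, hkQ, c1, c2 ?_⟩
  exact isCyclic_of_prime_card (p := q) hq.symm

end Cfsg.Agent.H21
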