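import Cfsg.Agent.H21.OT15d
import Cfsg.Agent.H21.OT15a
import Cfsg.Agent.H18.CN4

set_option autoImplicit false
set_option linter.unusedVariables false

/-! S1355, S1364. -/

namespace Cfsg.Agent.H21

open Subgroup
open Cfsg.Agent.L (cj nz SylIn)
open Cfsg.Agent.H14 (IsPiSub)
open Cfsg.Agent.OOT
open scoped commutatorElement

universe u
variable {G : Type u} [Group G]

theorem comm_factor {M E N : Subgroup G} (hN : N ≤ M) (hn : M ≤ nz N)
    (hf : ∀ m ∈ M, ∃ e ∈ E, ∃ n ∈ N, m = e * n) (hE : E ≤ M) : ⁅M, M⁆ ≤ ⁅E, E⁆ ⊔ N := by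
  rw [Subgroup.commutator_le]
  intro a ha b hb
  obtain ⟨e, he, s, hs, rfl⟩ := hf a ha
  obtain ⟨f, hf', t, ht, rfl⟩ := hf b hb
  have hNn : (N.subgroupOf M).Normal := (Subgroup.normal_subgroupOf_iff_le_normalizer hN).2 hn
  let π := QuotientGroup.mk' (N.subgroupOf M)
  have hker : ∀ g : M, π g = 1 ↔ (g : G) ∈ N := fun g => by
    rw [← MonoidHom.mem_ker, QuotientGroup.ker_mk', Subgroup.mem_subgroupOf]
  have hes : (e * s) ∈ M := ha
  have hft : (f * t) ∈ M := hb
  have h1 : π ⟨e * s, ha⟩ = π ⟨e, hE he⟩ := by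
    rw [← mul_inv_eq_one, ← map_inv, ← map_mul, hker]
    show e * s * e⁻¹ ∈ N
    exact (Subgroup.mem_normalizer_iff.1 (hn (hE he)) s).1 hs
  have h2 : π ⟨f * t, hb⟩ = π ⟨f, hE hf'⟩ := by
    rw [← mul_inv_eq_one, ← map_inv, ← map_mul, hker]
    show f * t * f⁻¹ ∈ N
    exact (Subgroup.mem_normalizer_iff.1 (hn (hE hf')) t).1 ht
  have h3 : π (⁅(⟨e, hE he⟩ : M), ⟨f, hE hf'⟩⁆⁻¹ * ⁅(⟨e * s, ha⟩ : M), ⟨f * t, hb⟩⁆) = 1 := by
    rw [map_mul, map_inv, map_commutatorElement, map_commutatorElement, h1, h2, inv_mul_cancel]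
  rw [hker] at h3
  have h4 : ⁅e * s, f * t⁆ = ⁅e, f⁆ * (⁅e, f⁆⁻¹ * ⁅e * s, f * t⁆) := by group
  rw [h4]
  exact Subgroup.mul_mem _ (Subgroup.mem_sup_left (Subgroup.commutator_mem_commutator he hf'))
    (Subgroup.mem_sup_right h3)

theorem commutator_map_subtype (M : Subgroup G) : (commutator M).map M.subtype = ⁅M, M⁆ := by
  rw [commutator_def, Subgroup.map_commutator, ← MonoidHom.range_eq_map, Subgroup.range_subtype]

theorem nil_image {M X : Subgroup G} (hX : X ≤ M) (hXn : Group.IsNilpotent X) (N : Subgroup M)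
    [N.Normal] (h : ∀ m ∈ ⁅M, M⁆, ∃ x ∈ X, ∃ n ∈ N.map M.subtype, m = x * n) :
    Group.IsNilpotent ((commutator M).map (QuotientGroup.mk' N)) := by
  have hle : (commutator M).map (QuotientGroup.mk' N) ≤ (X.subgroupOf M).map (QuotientGroup.mk' N) := by
    rintro _ ⟨m, hm, rfl⟩
    have hm' : (m : G) ∈ ⁅M, M⁆ := by rw [← commutator_map_subtype]; exact ⟨m, hm, rfl⟩
    obtain ⟨x, hx, _, ⟨n, hn, rfl⟩, e⟩ := h m hm'
    refine ⟨⟨x, hX hx⟩, hx, ?_⟩
    have e' : m = ⟨x, hX hx⟩ * n := Subtype.ext e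
    rw [e', map_mul, show (QuotientGroup.mk' N) n = 1 from (QuotientGroup.eq_one_iff n).mpr hn,
      mul_one]
  exact H1.isNilpotent_of_le hle (H1.isNilpotent_map _ (H1.isNilpotent_subgroupOf hX hXn))

variable [Finite G]

/-- a normal cyclic subgroup is centralized by the commutator subgroup -/
theorem comm_le_cent_cyclic {M V : Subgroup G} (hM : M ≤ nz V) (hV : IsCyclic V) :
    ⁅M, M⁆ ≤ centralizer (V : Set G) := by
  have h1 := Subgroup.commutator_mono hM hM
  refine h1.trans ?_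
  have hVn : (V.subgroupOf (nz V)).Normal :=
    (Subgroup.normal_subgroupOf_iff_le_normalizer (L.le_nz V)).2 le_rfl
  have hVc : IsCyclic (V.subgroupOf (nz V)) :=
    isCyclic_of_injective (Subgroup.subgroupOfEquivOfLe (L.le_nz V)).toMonoidHom
      (Subgroup.subgroupOfEquivOfLe (L.le_nz V)).injective
  have h2 := H1.commutator_le_centralizer_of_cyclic hVn hVc
  rw [← commutator_map_subtype]
  rintro _ ⟨x, hx, rfl⟩
  rw [mem_cent_iff]
  intro v hv
  exact congrArg Subtype.val (mem_cent_iff.1 (h2 hx) ⟨v, L.le_nz V hv⟩ hv)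

variable (hG : IsMinSimpleOddOrder G)
include hG

theorem derived_lt {M : Subgroup G} (hM : IsCoatom M) : ⁅M, M⁆ < M := by
  refine lt_of_le_of_ne (Subgroup.commutator_le_self M) ?_
  have hs : Group.IsSolvable M := coatom_sol hG hM
  have h1 : Nontrivial M := by
    rw [Subgroup.nontrivial_iff_ne_bot]; exact coatom_ne_bot hG hM
  intro h
  have h2 : commutator M = ⊤ := by
    apply Subgroup.map_injective M.subtype_injective
    rw [commutator_map_subtype, h, ← MonoidHom.range_eq_map, Subgroup.range_subtype]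
  exact (Group.IsSolvable.commutator_lt_top_of_nontrivial M).ne h2

theorem exists_dec' {M : Subgroup G} (hM : IsCoatom M) :
    ∃ K U : Subgroup G, IsSigmaDecomposition M K U := by
  obtain ⟨K, hK⟩ := exists_kappa_hall hG hM
  obtain ⟨U, hU⟩ := exists_dec hG hM hK
  exact ⟨K, U, hU⟩

theorem NF.compl {M K Q D : Subgroup G} {q : ℕ} (h : NF M K Q D q) :
    IsComplIn Q D (sigmaCore M) :=
  (OOT.IsPiHallOf.isComplIn (π := {q}) (fun p _ => Iff.rfl) h.Q_hall h.D_hall).1

theorem row1355 {M : Subgroup G} (hM : IsCoatom M) :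
    fittingHallOf M ≠ ⊥ ∧ fittingHallOf M ≤ sigmaCore M ∧ sigmaCore M ≤ ⁅M, M⁆ ∧ ⁅M, M⁆ < M ∧
      Group.IsNilpotent ↥((commutator ↥M).map (QuotientGroup.mk' (fittingHall ↥M))) := by
  have hMF : (fittingHall M).map M.subtype = fittingHallOf M := rfl
  refine ⟨?_, fhOf_le_ms hG hM, OOT.sigmaCore_le_derived hG hM, derived_lt hG hM, ?_⟩
  · by_cases he : fittingHallOf M = sigmaCore M
    · rw [he]; exact sigmaCore_ne_bot hG hM
    · obtain ⟨K, U, hKU⟩ := exists_dec' hG hM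
      obtain ⟨-, Q, D, h⟩ := exists_NF hG hM hKU he
      intro h0
      have h1 : Q ≤ ⊥ := by rw [← h0]; exact h.Q_le
      exact absurd (h.Q₀_lt.trans_le h1) (not_lt_bot)
  · by_cases he : fittingHallOf M = sigmaCore M
    · obtain ⟨E, hE⟩ := exists_compl hG hM
      have hE' := (BB.S1415 hG M hM E hE).1
      refine nil_image ((Subgroup.commutator_le_self E).trans hE.1) hE' _ ?_
      have hf : ∀ m ∈ M, ∃ e ∈ E, ∃ n ∈ sigmaCore M, m = e * n := hE.2.2.2
      have h1 := comm_factor (ms_le M) (le_nz_ms M) hf hE.1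
      rw [hMF, he]
      intro m hm
      rw [sup_comm] at h1
      obtain ⟨a, ha, b, hb, e⟩ := (H1.mem_sup_iff_of_le_normalizer' (N := sigmaCore M)
        (((Subgroup.commutator_le_self E).trans hE.1).trans (le_nz_ms M))).1 (h1 hm)
      exact ⟨a, ha, b, hb, e.symm⟩
    · obtain ⟨K, U, hKU⟩ := exists_dec' hG hM
      obtain ⟨-, Q, D, h⟩ := exists_NF hG hM hKU he
      refine nil_image (h.D_hall.1.trans (ms_le M)) h.D_nil _ ?_
      rw [hMF, ← h.der]
      intro m hm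
      obtain ⟨d, hd, y, hy, e⟩ := (complIn_symm (h.compl hG)).2.2.2 m hm
      exact ⟨d, hd, y, h.Q_le hy, e⟩

/-- `F(M) ≤ M'` when `κ(M) ≠ ∅` -/
theorem fitting_le_derived {M : Subgroup G} (hM : IsCoatom M) (hκ : (kappa M).Nonempty) :
    fittingOf M ≤ ⁅M, M⁆ := by
  obtain ⟨K, hK⟩ := exists_PM hG hM hκ
  obtain ⟨U, hU⟩ := exists_dec hG hM hK.hall
  obtain ⟨M', D, -⟩ := hK.exists_dual hG
  rw [dec_derived hG hM hU hK.ne]
  refine piSub_le_normal_hall (dec_UMs_hall hG hM hU) (dec_UMs_nz hG hM hU) (fittingOf_le M) ?_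
  intro p hp hd hpκ
  have hpF : Fact p.Prime := ⟨hp⟩
  set P := piCoreOf {p} (fittingOf M) with hP
  have hPhall : IsPiHallOf {p} P (fittingOf M) := nil_piCore_hall (fittingOf_nilpotent M) _
  have hPM : P ≤ M := hPhall.1.trans (fittingOf_le M)
  have hMP : M ≤ nz P := (le_normalizer_fittingOf M).trans (normalizer_le_normalizer_piCoreOf _ _)
  have hpP : p ∣ Nat.card P := dvd_of_hall hPhall hp rfl hd
  have hPp : IsPGroup p P := isPGroup_of_isPiSub hPhall.2.1
  obtain ⟨g, hg, hle⟩ := OOT.IsPiHallOf.exists_conj_le (coatom_sol hG hM) hK.hall hPM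
    (isPiSub_of_isPGroup hpκ hPp)
  rw [L.mem_nz_iff.1 (hMP hg)] at hle
  obtain ⟨X, hXP, hXc⟩ := exists_prime_sub' hp hpP
  have hKc : IsCyclic K := (D.cyclic hG).1
  have hPc : IsCyclic P := isCyclic_of_injective (Subgroup.inclusion hle)
    (Subgroup.inclusion_injective hle)
  have hMX : M ≤ nz X := le_nz_of_cyclic hPc hXP hMP
  have h1 := hK.inf_nz hG (hXP.trans hle) (by rw [hXc]; exact hp)
  rw [inf_eq_left.2 hMX] at h1
  have h2 : IsCyclic M := by rw [h1]; exact D.cyclic_Z hG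
  have h3 := OOT.sigmaCore_le_derived hG hM
  have h4 : ⁅M, M⁆ ≤ ⊥ := by
    rw [Subgroup.commutator_le]
    intro a ha b hb
    rw [Subgroup.mem_bot, commutatorElement_eq_one_iff_mul_comm]
    exact comm_of_cyclic h2 a ha b hb
  exact sigmaCore_ne_bot hG hM (le_bot_iff.1 (h3.trans h4))

/-- no `τ₂` when `U = 1` and `K ≠ 1` -/
theorem tau2_empty_of_U {M K : Subgroup G} (hM : IsCoatom M) (h : IsSigmaDecomposition M K ⊥)
    (hK1 : K ≠ ⊥) {p : ℕ} (hp : p ∈ tau2 M) : False := by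
  have h1 := dvd_of_tau2 hG hM hp
  by_cases hk : p ∈ kappa M
  · exact kappa_not_tau2 hk hp
  · have h2 := dvd_of_hall (dec_U_hall hG hM h) hp.1 ⟨hp.1, hk, hp.2.1⟩ h1
    rw [Subgroup.card_bot] at h2
    exact hp.1.one_lt.ne' (Nat.dvd_one.1 h2)

/-- `C_M(Q)` part: `M_σ ∩ C(Q)` is nilpotent -/
theorem NF.cent_nil {M K Q D : Subgroup G} {q : ℕ} (h : NF M K Q D q) :
    Group.IsNilpotent (sigmaCore M ⊓ centralizer (Q : Set G) : Subgroup G) := by
  set S := sigmaCore M with hS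
  set C := S ⊓ centralizer (Q : Set G) with hC
  have hQS : Q ≤ S := h.Q_hall.1
  have hSQ : S ≤ nz Q := (ms_le M).trans h.Q_nz
  have hn : (Q.subgroupOf S).Normal := (Subgroup.normal_subgroupOf_iff_le_normalizer hQS).2 hSQ
  let π := QuotientGroup.mk' (Q.subgroupOf S)
  have hker : ∀ g : S, π g = 1 ↔ (g : G) ∈ Q := fun g => by
    rw [← MonoidHom.mem_ker, QuotientGroup.ker_mk', Subgroup.mem_subgroupOf]
  have hDS : D ≤ S := h.D_hall.1
  have hDn : Group.IsNilpotent D := h.D_nil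
  have hquot : Group.IsNilpotent (S ⧸ Q.subgroupOf S) := by
    refine Group.nilpotent_of_surjective (π.comp (Subgroup.inclusion hDS)) ?_
    intro y
    obtain ⟨s, rfl⟩ := QuotientGroup.mk'_surjective _ y
    obtain ⟨d, hd, y, hy, e⟩ := (complIn_symm (h.compl hG)).2.2.2 s s.2
    refine ⟨⟨d, hd⟩, ?_⟩
    show π (Subgroup.inclusion hDS ⟨d, hd⟩) = π s
    have e' : s = Subgroup.inclusion hDS ⟨d, hd⟩ * ⟨y, hQS hy⟩ := Subtype.ext e
    rw [e', map_mul, (hker _).2 (show ((⟨y, hQS hy⟩ : S) : G) ∈ Q from hy), mul_one]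
  refine Subgroup.isNilpotent_of_ker_le_center
    (π.comp (Subgroup.inclusion (inf_le_left : C ≤ S))) ?_
  intro c hc
  rw [MonoidHom.mem_ker, MonoidHom.comp_apply, hker] at hc
  rw [Subgroup.mem_center_iff]
  intro g
  exact Subtype.ext (mem_cent_iff.1 g.2.2 c hc)

theorem row1364 {M K U : Subgroup G} (hM : IsCoatom M) (h : IsSigmaDecomposition M K U)
    (hK1 : K ≠ ⊥) :
    IsCyclic (Kst M K) ∧ Kst M K ≠ ⊥ ∧ Kst M K ≤ fittingHallOf M ∧
      ¬ IsCyclic (fittingHallOf M) := by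
  have hPM : PM M K := dec_PM hM h hK1
  obtain ⟨M', Dl, -⟩ := hPM.exists_dual hG
  refine ⟨(Dl.cyclic hG).2, hPM.kst_ne hG, ?_, ?_⟩
  · by_cases he : fittingHallOf M = sigmaCore M
    · rw [he]; exact kst_le_ms M K
    · obtain ⟨hU, Q, D, hN⟩ := exists_NF hG hM h he
      exact hN.kst_le.trans hN.Q_le
  · intro hc
    have hMc := comm_le_cent_cyclic (le_normalizer_fhOf M) hc
    by_cases he : fittingHallOf M = sigmaCore M
    · rw [he] at hMc hc
      have h1 := dec_derived hG hM h hK1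
      have h2 := mulComm_iff.1 (dec_U_comm hG hM h hK1)
      have hUc : U ≤ centralizer (sigmaCore M : Set G) := by
        refine le_trans ?_ hMc
        rw [h1]; exact le_sup_left
      have h3 : ⁅⁅M, M⁆, ⁅M, M⁆⁆ = ⊥ := by
        have hUU : U ≤ centralizer (U : Set G) := fun a ha => mem_cent_iff.2 (h2 a ha)
        have hSS : sigmaCore M ≤ centralizer (sigmaCore M : Set G) :=
          fun a ha => mem_cent_iff.2 (comm_of_cyclic hc a ha)
        have h5 : U ⊔ sigmaCore M ≤ centralizer ((U ⊔ sigmaCore M : Subgroup G) : Set G) :=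
          sup_le (le_cent_comm.1 (sup_le hUU (le_cent_comm.1 hUc)))
            (le_cent_comm.1 (sup_le hUc hSS))
        rw [h1, Subgroup.commutator_eq_bot_iff_le_centralizer]
        exact h5
      have h4 := dec_kst_le hG hM h hK1
      rw [h3] at h4
      exact hPM.kst_ne hG (le_bot_iff.1 h4)
    · obtain ⟨hU, Q, D, hN⟩ := exists_NF hG hM h he
      rw [← hN.der] at hMc
      have h1 : D ≤ centralizer (Q : Set G) :=
        (hN.D_hall.1.trans hMc).trans (Subgroup.centralizer_le hN.Q_le)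
      exact hN.Q₀_lt.ne (inf_eq_left.2 (le_cent_comm.1 h1))

end Cfsg.Agent.H21
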