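import Cfsg.Agent.H21.OT15e
import Cfsg.Agent.H2.BG15f

set_option autoImplicit false
set_option linter.unusedVariables false

/-! S1356, S1357. -/

namespace Cfsg.Agent.H21

open Subgroup
open Cfsg.Agent.L (cj nz SylIn)
open Cfsg.Agent.H14 (IsPiSub)
open Cfsg.Agent.OOT
open scoped commutatorElement

universe u
variable {G : Type u} [Group G]

variable [Finite G]

variable (hG : IsMinSimpleOddOrder G)
include hG

theorem row1356 {M : Subgroup G} (hM : IsCoatom M) :
    ⁅⁅M, M⁆, ⁅M, M⁆⁆ ≤ fittingOf M ∧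
      fittingOf M = (M ⊓ centralizer (fittingHallOf M : Set G)) ⊔ fittingHallOf M ∧
      ((kappa M).Nonempty → fittingOf M ≤ ⁅M, M⁆) := by
  have hMd : M ≤ nz ⁅M, M⁆ := by
    have h1 := Subgroup.le_normalizer_map (H := commutator M) M.subtype
    rw [commutator_map_subtype, Subgroup.normalizer_eq_top, ← MonoidHom.range_eq_map,
      Subgroup.range_subtype] at h1
    exact h1
  have hMdd : M ≤ nz ⁅⁅M, M⁆, ⁅M, M⁆⁆ := by
    intro m hm
    rw [L.mem_nz_iff, ← commutator_cj, L.mem_nz_iff.1 (hMd hm)]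
  have hle2 : ⁅⁅M, M⁆, ⁅M, M⁆⁆ ≤ M :=
    (Subgroup.commutator_le_self _).trans (Subgroup.commutator_le_self M)
  refine ⟨?_, ?_, fitting_le_derived hG hM⟩
  · by_cases he : fittingHallOf M = sigmaCore M
    · obtain ⟨E, hE⟩ := exists_compl hG hM
      have hE' := (BB.S1420 hG M hM E hE).2.1
      have hEM : ⁅E, E⁆ ≤ M := (Subgroup.commutator_le_self E).trans hE.1
      have h1 := comm_factor (ms_le M) (le_nz_ms M) hE.2.2.2 hE.1
      have h2 : ⁅⁅E, E⁆ ⊔ sigmaCore M, ⁅E, E⁆ ⊔ sigmaCore M⁆ ≤ sigmaCore M := by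
        refine commutator_le_of_factor (K := ⁅E, E⁆) (mulComm_iff.1 hE') le_sup_left
          (sup_le (hEM.trans (le_nz_ms M)) ((ms_le M).trans (le_nz_ms M))) ?_
        intro m hm
        rw [sup_comm] at hm
        obtain ⟨a, ha, b, hb, e⟩ := (H1.mem_sup_iff_of_le_normalizer' (N := sigmaCore M)
          (hEM.trans (le_nz_ms M))).1 hm
        exact ⟨a, ha, b, hb, e.symm⟩
      have h3 : sigmaCore M ≤ fittingOf M := by
        rw [← he]; exact fhOf_le_fittingOf M
      exact ((Subgroup.commutator_mono h1 h1).trans h2).trans h3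
    · obtain ⟨K, U, hKU⟩ := exists_dec' hG hM
      obtain ⟨-, Q, D, h⟩ := exists_NF hG hM hKU he
      have hDM : D ≤ M := h.D_hall.1.trans (ms_le M)
      have h1 := comm_factor (M := sigmaCore M) (E := D) (N := Q) h.Q_hall.1
        ((ms_le M).trans h.Q_nz) (complIn_symm (h.compl hG)).2.2.2 h.D_hall.1
      rw [← h.der]
      refine le_fittingOf ((Subgroup.commutator_le_self _).trans (ms_le M)) ?_ ?_
      · have := hMdd
        rwa [← h.der] at this
      · have hDn : Group.IsNilpotent D := h.D_nil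
        have hF : Fact (Nat.card (Kst M K)).Prime := ⟨h.qp⟩
        have hQn : Group.IsNilpotent Q := h.Q_p.isNilpotent
        exact H1.isNilpotent_of_le h1 (H18.nil_sup (H1.isNilpotent_of_le
          (Subgroup.commutator_le_self D) hDn) hQn h.D_der)
  · set H := fittingHallOf M with hH
    set F := fittingOf M with hF
    have hHF : H ≤ F := fhOf_le_fittingOf M
    have hFn : Group.IsNilpotent F := fittingOf_nilpotent M
    have hHhall : IsPiHallOf {p | p ∣ Nat.card H} H F :=
      OOT.IsPiHallOf.of_le (fhOf_hall M) hHF (fittingOf_le M)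
    apply le_antisymm
    · intro x hx
      have h2 := nil_piCore_hall hFn {p | p ∉ {p | p ∣ Nat.card H}}
      have h3 := (OOT.IsPiHallOf.isComplIn (π := {p | p ∣ Nat.card H}) (fun p _ => Iff.rfl)
        hHhall h2).1
      obtain ⟨a, ha, b, hb, e⟩ := (complIn_symm h3).2.2.2 x hx
      rw [e]
      refine Subgroup.mul_mem _ (Subgroup.mem_sup_left ⟨fittingOf_le M (h2.1 ha), ?_⟩)
        (Subgroup.mem_sup_right hb)
      refine (nil_cent hFn h2.1 hHF ?_) ha
      refine Nat.coprime_of_dvd fun p hp h4 h5 => ?_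
      exact h2.2.1 p hp h4 h5
    · refine sup_le ?_ hHF
      have hCn : M ≤ nz (M ⊓ centralizer (H : Set G)) := by
        intro m hm
        rw [L.mem_nz_iff, L.cj_inf, L.cj_eq_self_of_mem hm, cj_centralizer,
          L.mem_nz_iff.1 (le_normalizer_fhOf M hm)]
      refine le_fittingOf inf_le_left hCn ?_
      by_cases he : fittingHallOf M = sigmaCore M
      · obtain ⟨⟨X, hXc, hXτ, hX⟩, -⟩ := BB.S1438 hG M hM (sigmaCore M) le_rfl
          (sigmaCore_ne_bot hG hM) (by rw [Subgroup.relIndex_self]; exact Nat.coprime_one_right _)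
        rw [hH, he, hX]
        have hXC : X ≤ centralizer (sigmaCore M : Set G) := by
          have : X ≤ M ⊓ centralizer (sigmaCore M : Set G) := by rw [hX]; exact le_sup_right
          exact this.trans inf_le_right
        refine H18.nil_sup ?_ ?_ ?_
        · have : Group.IsNilpotent (sigmaCore M) := by rw [← he]; exact fhOf_nilpotent M
          exact H1.isNilpotent_of_le inf_le_left this
        · exact H10.isNilpotent_of_comm fun a b =>
            Subtype.ext (comm_of_cyclic hXc a a.2 b b.2)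
        · rw [le_cent_comm]
          exact hXC.trans (Subgroup.centralizer_le inf_le_left)
      · obtain ⟨K, U, hKU⟩ := exists_dec' hG hM
        obtain ⟨hU, Q, D, h⟩ := exists_NF hG hM hKU he
        have hQ1 : Q ≠ ⊥ := fun h0 => by
          have := h.Q₀_lt; rw [h0] at this
          exact not_lt_bot this
        have hH1 : fittingHallOf M ≠ ⊥ := fun h0 => hQ1 (le_bot_iff.1 (h0 ▸ h.Q_le))
        have hco : (Nat.card (fittingHallOf M)).Coprime
            ((fittingHallOf M).relIndex (sigmaCore M)) := by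
          refine Nat.Coprime.coprime_dvd_right ?_ (fhOf_coprime M)
          rw [← Subgroup.relIndex_mul_relIndex _ _ _ (fhOf_le_ms hG hM) (ms_le M)]
          exact Dvd.intro _ rfl
        obtain ⟨⟨X, hXc, hXτ, hX⟩, -⟩ := BB.S1438 hG M hM (fittingHallOf M) (fhOf_le_ms hG hM)
          hH1 hco
        have hX1 : X = ⊥ := by
          by_contra hX1
          obtain ⟨Y, hY, hYp⟩ := exists_prime_sub hX1
          rw [hU] at hKU
          exact tau2_empty_of_U hG hM hKU h.pm.ne (hXτ _ hYp (card_dvd_of_le hY))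
        rw [hH, hX, hX1, sup_bot_eq]
        refine H1.isNilpotent_of_le ?_ (h.cent_nil hG)
        exact inf_le_inf_left _ (Subgroup.centralizer_le h.Q_le)

theorem row1357 {M K U : Subgroup G} (hM : IsCoatom M) (h : IsSigmaDecomposition M K U)
    (hne : fittingHallOf M ≠ sigmaCore M) :
    U = ⊥ ∧ IsTISubset (fittingOf M : Set G) ∧ (Nat.card K).Prime := by
  obtain ⟨hU, Q, D, hN⟩ := exists_NF hG hM h hne
  refine ⟨hU, isTI_of (M := M) (le_normalizer_fittingOf M) ?_, hN.Kp⟩
  intro g x hx hx1 hgx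
  by_contra hg
  have hg' : g⁻¹ ∉ M := fun h => hg (inv_mem_iff.1 h)
  have hX : H2.X7 M g⁻¹ ≠ ⊥ := by
    intro h0
    apply hx1
    rw [← Subgroup.mem_bot, ← h0]
    refine ⟨hx, ?_⟩
    change x ∈ cj g⁻¹ (fittingOf M)
    rw [L.mem_cj]
    simpa using hgx
  have h1 := H2.N7.comm_le hG ⟨hM, hg', hX⟩
  apply hne
  apply fhOf_eq_ms hG hM
  have h2 := OOT.sigmaCore_le_derived hG hM
  exact H1.isNilpotent_of_le (h2.trans h1) (fittingOf_nilpotent M)

end Cfsg.Agent.H21
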