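import Cfsg.Agent.H21.OT15e

set_option autoImplicit false
set_option linter.unusedVariables false

/-! S1376 (BG 15.8, 15.9). -/

namespace Cfsg.Agent.H21

open Subgroup
open Cfsg.Agent.L (cj nz SylIn)
open Cfsg.Agent.H14 (IsPiSub)
open Cfsg.Agent.OOT
open scoped commutatorElement

universe u
variable {G : Type u} [Group G]

variable [Finite G]

theorem complIn_cj {A B M : Subgroup G} (h : IsComplIn A B M) (g : G) :
    IsComplIn (cj g A) (cj g B) (cj g M) := by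
  obtain ⟨h1, h2, h3, h4⟩ := h
  refine ⟨L.cj_mono h1, L.cj_mono h2, by rw [← L.cj_inf, h3, L.cj_bot], ?_⟩
  intro m hm
  obtain ⟨n, hn, rfl⟩ := mem_of_cj hm
  obtain ⟨a, ha, b, hb, rfl⟩ := h4 n hn
  refine ⟨g * a * g⁻¹, L.conj_mem_cj ha, g * b * g⁻¹, L.conj_mem_cj hb, ?_⟩
  group

theorem dec_cj {M K U : Subgroup G} (h : IsSigmaDecomposition M K U) (g : G) :
    IsSigmaDecomposition (cj g M) (cj g K) (cj g U) := by
  refine ⟨isCyclic_cj.2 h.cyclic, ?_, ?_, ?_⟩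
  · rw [kappa_cj]
    refine ⟨L.cj_mono h.hall.1, fun p hp hd => h.hall.2.1 p hp (by rwa [L.card_cj] at hd), ?_⟩
    intro p hp hpk hd
    rw [L.relIndex_cj] at hd
    exact h.hall.2.2 p hp hpk hd
  · have h1 := complIn_cj h.compl g
    rw [L.cj_sup, ← sigmaCore_cj] at h1
    exact h1
  · change cj g K ≤ nz (cj g U)
    rw [L.nz_cj]
    exact L.cj_mono h.normal

variable (hG : IsMinSimpleOddOrder G)
include hG

/-- a decomposition with `U K` a given complement of `N_σ` -/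
theorem exists_dec_in {N F : Subgroup G} (hN : IsCoatom N)
    (hF : IsPiHallOf {p | p ∉ sigma N} F N) :
    ∃ K U : Subgroup G, IsSigmaDecomposition N K U ∧ U ⊔ K = F := by
  obtain ⟨K, U, h⟩ := exists_dec' hG hN
  have h1 := compl_hall hG hN (dec_compl hG hN h)
  obtain ⟨g, hg, hle⟩ := OOT.IsPiHallOf.exists_conj_le (coatom_sol hG hN) hF h1.1 h1.2.1
  refine ⟨cj g K, cj g U, ?_, ?_⟩
  · have := dec_cj h g
    rwa [L.cj_eq_self_of_mem hg] at this
  · rw [← L.cj_sup]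
    apply L.eq_of_le_of_card_le hle
    rw [L.card_cj, OOT.IsPiHallOf.card_eq hF h1]

theorem sup_kappa_empty {M N : Subgroup G} (hM : IsCoatom M) {x : G} (hx : x ∈ sigmaCore M)
    (hx1 : x ≠ 1) (hS : Sup M x N) (hκ : (kappa N).Nonempty) : kappa M = ∅ := by
  by_contra hne
  obtain ⟨K₁, hK₁⟩ := exists_PM hG hM (Set.nonempty_iff_ne_empty.2 hne)
  obtain ⟨K, hK⟩ := exists_PM hG hS.coatom hκ
  obtain ⟨N', D, -⟩ := hK.exists_dual hG
  rcases D.classes hG hK₁ with ⟨g, hg⟩ | ⟨g, hg⟩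
  · apply hS.not_conj g⁻¹
    rw [hg, L.cj_inv_cj]
  · obtain ⟨r, hr, hrx⟩ := Nat.exists_prime_and_dvd (n := orderOf x)
      (fun h => hx1 (orderOf_eq_one_iff.1 h))
    have hrN : r ∈ tau2 N := hS.tau2 r hr hrx
    have hrM : r ∈ sigma N' := by
      have := ms_pi hG hM hx r hr hrx
      rwa [hg, sigma_cj] at this
    obtain ⟨E, hE⟩ := exists_compl hG hS.coatom
    obtain ⟨B, hB, hB1, hB2⟩ := exists_ea_sq hG hS.coatom hE hrN
    exact dual_no_ea hG D.symm hr hrM (hB.trans hE.1) hB1 hB2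

structure Cfg (M N N' K U : Subgroup G) (r : ℕ) (b : G) : Prop where
  hM : IsCoatom M
  hN : IsCoatom N
  κM : kappa M = ∅
  dec : IsSigmaDecomposition N K U
  K1 : K ≠ ⊥
  dual : Dual N K N' (Kst N K)
  Kp : (Nat.card K).Prime
  rp : r ∈ tau2 N
  rσ : r ∈ sigma M
  UK : N ⊓ M = U ⊔ K
  U_le : U ≤ sigmaCore M
  compl : IsComplIn (M ⊓ N') (sigmaCore M) M
  K_F : K ≤ fittingOf (M ⊓ N')
  bU : b ∈ U
  b1 : b ≠ 1
  bN : UniqIn (centralizer ({b} : Set G)) N

theorem exists_Cfg {M N : Subgroup G} (hM : IsCoatom M) {x : G} (hx : x ∈ sigmaCore M)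
    (hx1 : x ≠ 1) (hS : Sup M x N) (hκ : (kappa N).Nonempty) :
    ∃ (N' K U : Subgroup G) (r : ℕ) (b : G), Cfg M N N' K U r b := by
  have hκM := sup_kappa_empty hG hM hx hx1 hS hκ
  have hN := hS.coatom
  obtain ⟨K, U, hdec, hUK⟩ := exists_dec_in hG hN (compl_hall hG hN hS.compl)
  have hK1 : K ≠ ⊥ := by
    intro h
    have := kappa_empty_of_bot hdec.hall h
    rw [this] at hκ
    exact Set.not_nonempty_empty hκ
  have hPM := dec_PM hN hdec hK1
  obtain ⟨N', D, -⟩ := hPM.exists_dual hG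
  obtain ⟨r, hr, hrx⟩ := Nat.exists_prime_and_dvd (n := orderOf x)
    (fun h => hx1 (orderOf_eq_one_iff.1 h))
  have hrF : Fact r.Prime := ⟨hr⟩
  have hrN : r ∈ tau2 N := hS.tau2 r hr hrx
  have hrM : r ∈ sigma M := ms_pi hG hM hx r hr hrx
  have hrU : r ∣ Nat.card U := dvd_of_hall (dec_U_hall hG hN hdec) hr
    ⟨hr, fun h => kappa_not_tau2 h hrN, hrN.2.1⟩ (dvd_of_tau2 hG hN hrN)
  have hU1 : U ≠ ⊥ := by
    rintro rfl
    rw [Subgroup.card_bot] at hrU
    exact hr.one_lt.ne' (Nat.dvd_one.1 hrU)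
  have hnP : ¬ IsP1 N := fun h => hU1 ((dec_P1_iff hG hN hdec).1 h)
  have hKp := (hPM.p2 hG hnP).1
  obtain ⟨R, hR⟩ := L.exists_sylIn (p := r) U
  have hUc := mulComm_iff.1 (dec_U_comm hG hN hdec hK1)
  have hE := dec_compl hG hN hdec
  obtain ⟨B, hBE, hB1, hB2⟩ := exists_ea_sq hG hN hE hrN
  have hBU : B ≤ U := by
    refine piSub_le_normal_hall (OOT.IsPiHallOf.of_le (dec_U_hall hG hN hdec) le_sup_left hE.1) ?_
      hBE (isPiSub_of_isPGroup (π := {q | q.Prime ∧ q ∉ kappa N ∧ q ∉ sigma N})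
        ⟨hr, fun h => kappa_not_tau2 h hrN, hrN.2.1⟩ (isEA_isPGroup hB1))
    exact sup_le le_normalizer hdec.normal
  have hBR : B ≤ R := by
    obtain ⟨u, hu, hle⟩ := hR.exists_conj_le (isEA_isPGroup hB1) hBU
    rwa [L.mem_nz_iff.1 (cent_le_nz _ (mem_cent_iff.2 fun q hq => hUc u hu q (hBU hq)))] at hle
  have hRc : ¬ IsCyclic R := fun h => not_cyclic_of_ea_sq hr hB1 hB2
    (isCyclic_of_injective (Subgroup.inclusion hBR) (Subgroup.inclusion_injective hBR))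
  have hUM : U ≤ M := by
    have : U ⊔ K ≤ M := by rw [hUK]; exact inf_le_left
    exact le_sup_left.trans this
  obtain ⟨E', hE'⟩ := exists_compl hG hM
  have hRM : nz R ≤ M := (BB.S1420 hG M hM E' hE').2.2.1 r R hrM hR.isPGroup (hR.le.trans hUM) hRc
  obtain ⟨-, h2, h3, -, h5, h6⟩ := thm_14_12 hG hN hdec hK1 hU1 D hr hrU hR hM hRM
  -- the element `b`
  have hBN : B ≤ N := hBU.trans (dec_U_le hdec)
  obtain ⟨b, hb, hb1, hcb⟩ : ∃ b ∈ B, b ≠ 1 ∧
      sigmaCore N ⊓ centralizer ({b} : Set G) ≠ ⊥ := by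
    by_contra hcon
    push Not at hcon
    have h1 := H23.iSup_centralizer_of_not_isCyclic (A := B) (G := sigmaCore N) hB1.1
      (not_cyclic_of_ea_sq hr hB1 hB2) (hBN.trans (le_nz_ms N)) (by
        rw [hB2]
        refine Nat.Coprime.pow_left _ ?_
        rw [hr.coprime_iff_not_dvd]
        intro hd
        exact hrN.2.1 ((ms_hall hG hN).2.1 r hr hd))
    apply sigmaCore_ne_bot hG hN
    rw [← h1, iSup_eq_bot]
    rintro ⟨a, ha, ha1⟩
    exact hcon a ha ha1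
  have hbo : orderOf b = r := orderOf_eq_prime (hB1.2 b hb) hb1
  have hbu : UniqIn (centralizer ((zpowers b : Subgroup G) : Set G)) N := by
    refine (BB.S1418 hG N hN _ hE r hrN B ⟨hBE, hB1, hB2⟩).2.2 (zpowers b)
      (by rwa [zpowers_le]) (card_zpowers_eq hbo) ?_
    rwa [cent_zpowers]
  rw [cent_zpowers] at hbu
  exact ⟨N', K, U, r, b, hM, hN, hκM, hdec, hK1, D, hKp, hrN, hrM, h3, h2, h6, h5, hBU hb, hb1, hbu⟩

omit hG in
theorem Cfg.b_mem {M N N' K U : Subgroup G} {r : ℕ} {b : G} (c : Cfg M N N' K U r b) :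
    b ∈ sigmaCore M := c.U_le c.bU

/-- no `σ(M)'`-element of `M` centralizes `b` -/
theorem Cfg.cent_b {M N N' K U : Subgroup G} {r : ℕ} {b : G} (c : Cfg M N N' K U r b) {e : G}
    (he : e ∈ M) (he1 : e ≠ 1) (hπ : PiElt {p | p ∉ sigma M} e) (heb : e * b = b * e) : False := by
  obtain ⟨s, hs, hd⟩ := Nat.exists_prime_and_dvd (n := orderOf e)
    (fun h => he1 (orderOf_eq_one_iff.1 h))
  have hsF : Fact s.Prime := ⟨hs⟩
  obtain ⟨z, hz, hzs⟩ := exists_prime_power_elt hs hd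
  have hz1 : z ≠ 1 := ne_one_of_orderOf hG hs hzs
  have hzb : z * b = b * z := commute_of_mem_zpowers hz heb
  have hsσ : s ∉ sigma M := hπ s hs hd
  have hzM : z ∈ M := (zpowers_le.2 he) hz
  have hzN : z ∈ N := c.bN.1 (mem_cent_singleton.2 hzb)
  have hzUK : z ∈ U ⊔ K := by rw [← c.UK]; exact ⟨hzN, hzM⟩
  have hcard : Nat.card (U ⊔ K : Subgroup G) = Nat.card U * Nat.card K :=
    dec_card_UK hG c.hN c.dec
  have hsU : ¬ s ∣ Nat.card U := fun h =>
    hsσ ((ms_hall hG c.hM).2.1 s hs (h.trans (card_dvd_of_le c.U_le)))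
  have hsK : s ∣ Nat.card K := by
    have h1 : s ∣ Nat.card (U ⊔ K : Subgroup G) := by
      rw [← hzs]; exact Subgroup.orderOf_dvd_natCard _ hzUK
    rw [hcard] at h1
    exact (hs.dvd_mul.1 h1).resolve_left hsU
  have hKhall : IsPiHallOf {s} K (U ⊔ K) := by
    refine ⟨le_sup_right, ?_, ?_⟩
    · intro p hp hd
      rw [(Nat.prime_dvd_prime_iff_eq hp c.Kp).1 hd, ← (Nat.prime_dvd_prime_iff_eq hs c.Kp).1 hsK]
      rfl
    · intro p hp hps hd
      rw [Set.mem_singleton_iff.1 hps] at hd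
      have h1 := L.card_mul_relIndex (T := K) (U := U ⊔ K) le_sup_right
      rw [hcard, mul_comm (Nat.card U)] at h1
      have h2 := Nat.eq_of_mul_eq_mul_left Nat.card_pos h1
      rw [h2] at hd
      exact hsU hd
  have hUKN : U ⊔ K ≤ N := by rw [← c.UK]; exact inf_le_left
  obtain ⟨g, hg, hle⟩ := OOT.IsPiHallOf.exists_conj_le
    (H1.isSolvable_of_le hUKN (coatom_sol hG c.hN)) hKhall
    (K := zpowers z) (by rwa [zpowers_le]) (by
      refine isPiSub_of_isPGroup (Set.mem_singleton s) (IsPGroup.of_card (n := 1) ?_)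
      rw [card_zpowers_eq hzs, pow_one])
  obtain ⟨k, hk, u, hu, rfl⟩ := (H1.mem_sup_iff_of_le_normalizer' c.dec.normal).1 hg
  have hzk : k * u * z * (k * u)⁻¹ ∈ K := hle (L.conj_mem_cj (mem_zpowers z))
  have hzk' : u * z * u⁻¹ ∈ K := by
    have := K.mul_mem (K.mul_mem (K.inv_mem hk) hzk) hk
    have e : k⁻¹ * (k * u * z * (k * u)⁻¹) * k = u * z * u⁻¹ := by group
    rwa [e] at this
  have hUc := mulComm_iff.1 (dec_U_comm hG c.hN c.dec c.K1)
  have hne : u * z * u⁻¹ ≠ 1 := by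
    intro h
    apply hz1
    rwa [mul_inv_eq_one, mul_eq_left] at h
  have h1 := dec_free hG c.hN c.dec hzk' hne
  apply c.b1
  rw [← Subgroup.mem_bot, ← h1]
  refine ⟨c.bU, mem_cent_singleton.2 ?_⟩
  have h2 : u * b = b * u := hUc u hu b c.bU
  have h3 : u⁻¹ * b = b * u⁻¹ := hUc u⁻¹ (U.inv_mem hu) b c.bU
  calc b * (u * z * u⁻¹) = (b * u) * z * u⁻¹ := by group
    _ = u * (b * z) * u⁻¹ := by rw [← h2]; group
    _ = u * z * (b * u⁻¹) := by rw [← hzb]; group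
    _ = u * z * u⁻¹ * b := by rw [← h3]; group

end Cfsg.Agent.H21
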