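import Cfsg.Agent.H21.OT15f

set_option autoImplicit false
set_option linter.unusedVariables false

/-! S1376 continued: `τ₂(M) = ∅`. -/

namespace Cfsg.Agent.H21

open Subgroup
open Cfsg.Agent.L (cj nz SylIn)
open Cfsg.Agent.H14 (IsPiSub)
open Cfsg.Agent.OOT
open scoped commutatorElement

universe u
variable {G : Type u} [Group G]

variable [Finite G]

theorem nil_comm_le {X K : Subgroup G} (hX : Group.IsNilpotent X) {q : ℕ} (hq : q.Prime)
    (hc : ∀ a ∈ piCoreOf {q} X, ∀ b ∈ piCoreOf {q} X, a * b = b * a) (hK : K ≤ ⁅X, X⁆)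
    (hKq : Nat.card K = q) : False := by
  have h1 := nil_piCore_hall hX {q}
  have h2 := nil_piCore_hall hX {p | p ∉ ({q} : Set ℕ)}
  have h3 := (OOT.IsPiHallOf.isComplIn (π := {q}) (fun p _ => Iff.rfl) h1 h2).1
  have h4 : ⁅X, X⁆ ≤ piCoreOf {p | p ∉ ({q} : Set ℕ)} X :=
    commutator_le_of_factor hc h1.1 (le_normalizer_piCoreOf _ _) h3.2.2.2
  exact h2.2.1 q hq ((hKq ▸ dvd_rfl : q ∣ Nat.card K).trans (card_dvd_of_le (hK.trans h4))) rfl

variable (hG : IsMinSimpleOddOrder G)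
include hG

theorem NF.cent_of_cent {M K Q D : Subgroup G} {q : ℕ} (h : NF M K Q D q)
    (hMK : ∀ m ∈ M, ∃ k ∈ K, ∃ s ∈ sigmaCore M, m = k * s) {A : Subgroup G}
    (hA : A ≤ sigmaCore M) (hAq : IsPiSub {p | p ∉ ({q} : Set ℕ)} A)
    (hAK : ∀ a ∈ A, ∀ k ∈ Kst M K, a * k = k * a) : Q ≤ centralizer (A : Set G) := by
  have hM := h.hM
  have hQM : Q ≤ M := h.Q_hall.1.trans (ms_le M)
  have hDM : D ≤ M := h.D_hall.1.trans (ms_le M)
  set Q₀ := Q ⊓ centralizer (D : Set G) with hQ₀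
  have hQ₀Q : Q₀ ≤ Q := inf_le_left
  have hsol : Group.IsSolvable (sigmaCore M) := H1.isSolvable_of_le (ms_le M) (coatom_sol hG hM)
  have mem₀ : ∀ g ∈ M, ∀ c ∈ Q₀, g * c * g⁻¹ ∈ Q₀ := fun g hg c hc =>
    (Subgroup.mem_normalizer_iff.1 (h.Q₀_nz hg) c).1 hc
  have mem₀' : ∀ g ∈ M, ∀ c ∈ Q₀, g⁻¹ * c * g ∈ Q₀ := fun g hg c hc => by
    have := mem₀ g⁻¹ (M.inv_mem hg) c hc
    rwa [inv_inv] at this
  -- conjugate `A` into `D` by an element of `Q`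
  obtain ⟨g, hg, hle⟩ := OOT.IsPiHallOf.exists_conj_le hsol h.D_hall hA hAq
  obtain ⟨d, hd, y, hy, rfl⟩ := (complIn_symm (h.compl hG)).2.2.2 g hg
  have hAy : cj y A ≤ D := by
    have h1 := L.cj_mono (g := d⁻¹) hle
    rw [← L.cj_cj, L.cj_inv_cj, L.cj_eq_self_of_mem (D.inv_mem hd)] at h1
    exact h1
  -- the subgroup generated by `Q₀` and the `D`-conjugates of `K*`
  let S : Set G := (Q₀ : Set G) ∪ {w | ∃ d ∈ D, ∃ k ∈ Kst M K, w = d * k * d⁻¹}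
  let W := Subgroup.closure S
  have hSQ : W ≤ Q := by
    rw [Subgroup.closure_le]
    rintro w (hw | ⟨d, hd, k, hk, rfl⟩)
    · exact hQ₀Q hw
    · exact (Subgroup.mem_normalizer_iff.1 (h.Q_nz (hDM hd)) k).1 (h.kst_le hk)
  have hQ₀W : Q₀ ≤ W := fun x hx => Subgroup.subset_closure (Or.inl hx)
  have hKW : Kst M K ≤ W := fun x hx =>
    Subgroup.subset_closure (Or.inr ⟨1, D.one_mem, x, hx, by group⟩)
  have hlt : Q₀ < W := lt_of_le_of_ne hQ₀W (fun he => h.kst_not (by rw [← hQ₀, he]; exact hKW))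
  have hn : ∀ g : G, (∀ w ∈ S, g * w * g⁻¹ ∈ W) → g ∈ nz W := by
    intro g hg
    rw [L.mem_nz_iff]
    refine L.eq_of_le_of_card_le ?_ (by rw [L.card_cj])
    change (Subgroup.closure S).map _ ≤ W
    rw [MonoidHom.map_closure, Subgroup.closure_le]
    rintro _ ⟨w, hw, rfl⟩
    exact hg w hw
  have hQn : Q ≤ nz W := by
    intro g hg
    apply hn
    intro w hw
    have hwQ : w ∈ Q := hSQ (Subgroup.subset_closure hw)
    have h1 := (h.Q₀_pow g hg w hwQ).2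
    have e : g * w * g⁻¹ = (g * w * g⁻¹ * w⁻¹) * w := by group
    rw [e]
    exact W.mul_mem (hQ₀W h1) (Subgroup.subset_closure hw)
  have hDn : D ≤ nz W := by
    intro g hg
    apply hn
    rintro w (hw | ⟨d, hd, k, hk, rfl⟩)
    · exact hQ₀W (mem₀ g (hDM hg) w hw)
    · refine Subgroup.subset_closure (Or.inr ⟨g * d, D.mul_mem hg hd, k, hk, ?_⟩)
      group
  have hKn : K ≤ nz W := by
    intro g hg
    apply hn
    rintro w (hw | ⟨d, hd, k, hk, rfl⟩)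
    · exact hQ₀W (mem₀ g (h.pm.K_le hg) w hw)
    · refine Subgroup.subset_closure (Or.inr ⟨g * d * g⁻¹,
        (Subgroup.mem_normalizer_iff.1 (h.K_nz hg) d).1 hd, k, hk, ?_⟩)
      have h1 : g * k = k * g := kst_comm hg hk
      calc g * (d * k * d⁻¹) * g⁻¹ = g * d * g⁻¹ * (g * k) * d⁻¹ * g⁻¹ := by group
        _ = g * d * g⁻¹ * (k * g) * d⁻¹ * g⁻¹ := by rw [h1]
        _ = _ := by group
  have hMn : M ≤ nz W := by
    intro m hm
    obtain ⟨k, hk, s, hs, rfl⟩ := hMK m hm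
    obtain ⟨a, ha, b, hb, rfl⟩ := (h.compl hG).2.2.2 s hs
    exact Subgroup.mul_mem _ (hKn hk) (Subgroup.mul_mem _ (hQn ha) (hDn hb))
  have hWQ : W = Q := by
    by_contra hne
    exact h.chief W hlt (lt_of_le_of_ne hSQ hne) hMn
  -- commutators
  have key : ∀ w ∈ W, w ∈ Q ∧ ∀ a ∈ cj y A, w * a * w⁻¹ * a⁻¹ ∈ Q₀ := by
    intro w hw
    induction hw using Subgroup.closure_induction with
    | mem w hw =>
      refine ⟨hSQ (Subgroup.subset_closure hw), ?_⟩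
      intro a ha
      have haD : a ∈ D := hAy ha
      rcases hw with hw | ⟨d, hd, k, hk, rfl⟩
      · have h1 : a * w⁻¹ * a⁻¹ ∈ Q₀ := mem₀ a (hDM haD) _ (Q₀.inv_mem hw)
        have e : w * a * w⁻¹ * a⁻¹ = w * (a * w⁻¹ * a⁻¹) := by group
        rw [e]; exact Q₀.mul_mem hw h1
      · obtain ⟨a₀, ha₀, rfl⟩ := mem_of_cj ha
        have ha₀M : a₀ ∈ M := (hA.trans (ms_le M)) ha₀
        have hyM : y ∈ M := hQM hy
        have hkQ : k ∈ Q := h.kst_le hk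
        -- `[k, a] ∈ Q₀`
        have h1 : k * (y * a₀ * y⁻¹) * k⁻¹ * (y * a₀ * y⁻¹)⁻¹ ∈ Q₀ := by
          have c1 : k⁻¹ * y⁻¹ * k * y ∈ Q₀ := by
            have := (h.Q₀_pow k⁻¹ (Q.inv_mem hkQ) y⁻¹ (Q.inv_mem hy)).2
            rwa [inv_inv, inv_inv] at this
          set c := k⁻¹ * y⁻¹ * k * y with hc
          have c2 : a₀ * c⁻¹ * a₀⁻¹ ∈ Q₀ := mem₀ a₀ ha₀M _ (Q₀.inv_mem c1)
          have h2 : a₀ * k⁻¹ = k⁻¹ * a₀ := hAK a₀ ha₀ k⁻¹ ((Kst M K).inv_mem hk)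
          have h3 := mem₀ (y * k) (M.mul_mem hyM (hQM hkQ)) _ (Q₀.mul_mem c1 c2)
          have e : y * k * (c * (a₀ * c⁻¹ * a₀⁻¹)) * (y * k)⁻¹ =
              k * (y * a₀ * y⁻¹) * k⁻¹ * (y * a₀ * y⁻¹)⁻¹ := by
            calc y * k * (c * (a₀ * c⁻¹ * a₀⁻¹)) * (y * k)⁻¹
                = y * (k * c) * a₀ * c⁻¹ * (a₀⁻¹ * k⁻¹) * y⁻¹ := by group
              _ = y * (k * c) * a₀ * c⁻¹ * (k⁻¹ * a₀⁻¹) * y⁻¹ := by
                  have h4 : a₀⁻¹ * k⁻¹ = k⁻¹ * a₀⁻¹ := hAK a₀⁻¹ (A.inv_mem ha₀) k⁻¹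
                    ((Kst M K).inv_mem hk)
                  rw [h4]
              _ = _ := by rw [hc]; group
          rw [← e]; exact h3
        -- `d⁻¹ a d = a c'` with `c' ∈ [D, D]`
        set a := y * a₀ * y⁻¹ with ha'
        have h4 : a⁻¹ * d⁻¹ * a * d ∈ ⁅D, D⁆ := by
          have := Subgroup.commutator_mem_commutator (D.inv_mem haD) (D.inv_mem hd)
          rwa [commutatorElement_def, inv_inv, inv_inv] at this
        set c' := a⁻¹ * d⁻¹ * a * d with hc'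
        have h5 : c' * k⁻¹ = k⁻¹ * c' := mem_cent_iff.1 (h.D_der h4) k⁻¹ (Q.inv_mem hkQ)
        have h6 := mem₀ d (hDM hd) _ h1
        have e : d * (k * a * k⁻¹ * a⁻¹) * d⁻¹ = d * k * d⁻¹ * a * (d * k * d⁻¹)⁻¹ * a⁻¹ := by
          symm
          calc d * k * d⁻¹ * a * (d * k * d⁻¹)⁻¹ * a⁻¹
              = d * k * a * (c' * k⁻¹) * d⁻¹ * a⁻¹ := by rw [hc']; group
            _ = d * k * a * (k⁻¹ * c') * d⁻¹ * a⁻¹ := by rw [h5]
            _ = _ := by rw [hc']; group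
        rw [← e]; exact h6
    | one =>
      refine ⟨Q.one_mem, fun a ha => ?_⟩
      have e : (1 : G) * a * (1 : G)⁻¹ * a⁻¹ = 1 := by group
      rw [e]; exact Q₀.one_mem
    | mul v w _ _ hv hw =>
      refine ⟨Q.mul_mem hv.1 hw.1, fun a ha => ?_⟩
      have h1 := mem₀ v (hQM hv.1) _ (hw.2 a ha)
      have e : v * w * a * (v * w)⁻¹ * a⁻¹ =
        v * (w * a * w⁻¹ * a⁻¹) * v⁻¹ * (v * a * v⁻¹ * a⁻¹) := by group
      rw [e]; exact Q₀.mul_mem h1 (hv.2 a ha)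
    | inv v _ hv =>
      refine ⟨Q.inv_mem hv.1, fun a ha => ?_⟩
      have h1 := mem₀' v (hQM hv.1) _ (Q₀.inv_mem (hv.2 a ha))
      have e : v⁻¹ * a * v⁻¹⁻¹ * a⁻¹ = v⁻¹ * (v * a * v⁻¹ * a⁻¹)⁻¹ * v := by group
      rw [e]; exact h1
  have hcomm : ⁅Q, cj y A⁆ ≤ Q₀ := by
    rw [Subgroup.commutator_le]
    intro w hw a ha
    rw [← hWQ] at hw
    exact (key w hw).2 a ha
  have hqF : Fact q.Prime := ⟨h.qp⟩
  have h1 : Q ≤ centralizer ((cj y A : Subgroup G) : Set G) := by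
    refine H23.le_centralizer_of_commutator_le (N := Q₀) (hAy.trans (hDM.trans h.Q_nz)) ?_ hcomm ?_
    · refine Nat.coprime_of_dvd fun p hp h1 h2 => ?_
      rw [L.card_cj] at h1
      exact hAq p hp h1 (h.Q_hall.2.1 p hp h2)
    · rw [hQ₀]
      exact inf_le_right.trans (Subgroup.centralizer_le hAy)
  have h2 := L.cj_mono (g := y⁻¹) h1
  rw [cj_centralizer, L.cj_inv_cj, L.cj_eq_self_of_mem (Q.inv_mem hy)] at h2
  exact h2

end Cfsg.Agent.H21
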