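import Cfsg.Agent.H21.OT15i
import Cfsg.Agent.H21.OT15ax
import Cfsg.Agent.H21.OT15ex
import Cfsg.Agent.H21.OT15bx
import Cfsg.Agent.H21.OT14qx
import Cfsg.Agent.H21.BB2

/-! Re-export of the Bender-Glauberman 15 files. -/
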