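import Cfsg.Agent.H21.OT15g

set_option autoImplicit false
set_option linter.unusedVariables false

/-! S1376, end. -/

namespace Cfsg.Agent.H21

open Subgroup
open Cfsg.Agent.L (cj nz SylIn)
open Cfsg.Agent.H14 (IsPiSub)
open Cfsg.Agent.OOT
open scoped commutatorElement Pointwise

universe u
variable {G : Type u} [Group G]

variable [Finite G]

/-- Frobenius group from a free action -/
theorem frob_of_free {M E N : Subgroup G} (hE : IsComplIn E N M) (hn : M ≤ nz N) (hE1 : E ≠ ⊥)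
    (hN1 : N ≠ ⊥) (hfree : ∀ e ∈ E, e ≠ 1 → N ⊓ centralizer ({e} : Set G) = ⊥) :
    IsFrobeniusComplement (E.subgroupOf M) := by
  have hEM : E ≤ M := hE.1
  refine ⟨?_, ?_, ?_⟩
  · intro h
    apply hE1
    rw [← Subgroup.map_subgroupOf_eq_of_le hEM, h, Subgroup.map_bot]
  · intro h
    have h1 : M ≤ E := Subgroup.subgroupOf_eq_top.1 h
    have h2 : N ≤ E := hE.2.1.trans h1
    apply hN1
    rw [eq_bot_iff, ← hE.2.2.1]
    exact le_inf h2 le_rfl
  · intro g hg
    rw [eq_bot_iff]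
    rintro y ⟨hy1, hy2⟩
    rw [Subgroup.mem_bot]
    by_contra hy
    obtain ⟨e, he, s, hs, hes⟩ := hE.2.2.2 (g : G) g.2
    have hyE : (y : G) ∈ E := hy1
    have hy2'' : g⁻¹ * y * g ∈ E.subgroupOf M := H1.mem_conj_smul.1 hy2
    have hy2' : (g : G)⁻¹ * y * g ∈ E := hy2''
    have hy1' : (y : G) ≠ 1 := fun h => hy (Subtype.ext h)
    set w := e⁻¹ * (y : G) * e with hw
    have hwE : w ∈ E := E.mul_mem (E.mul_mem (E.inv_mem he) hyE) he
    have hw1 : w ≠ 1 := by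
      intro h
      apply hy1'
      have : (y : G) = e * w * e⁻¹ := by rw [hw]; group
      rw [this, h]; group
    have hws : s⁻¹ * w * s ∈ E := by
      have : s⁻¹ * w * s = (g : G)⁻¹ * y * g := by rw [hes, hw]; group
      rw [this]; exact hy2'
    have hc1 : w⁻¹ * (s⁻¹ * w * s) ∈ E ⊓ N := by
      refine ⟨E.mul_mem (E.inv_mem hwE) hws, ?_⟩
      have h1 : w⁻¹ * s⁻¹ * w⁻¹⁻¹ ∈ N :=
        (Subgroup.mem_normalizer_iff.1 (hn (hEM (E.inv_mem hwE))) _).1 (N.inv_mem hs)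
      have h2 : w⁻¹ * (s⁻¹ * w * s) = (w⁻¹ * s⁻¹ * w⁻¹⁻¹) * s := by group
      rw [h2]; exact N.mul_mem h1 hs
    rw [hE.2.2.1, Subgroup.mem_bot] at hc1
    have hsw : s * w = w * s := by
      have h1 : s⁻¹ * w * s = w := by
        rw [inv_mul_eq_one] at hc1
        exact hc1.symm
      calc s * w = s * (s⁻¹ * w * s) := by rw [h1]
        _ = w * s := by group
    have hs1 : s ≠ 1 := by
      rintro rfl
      apply hg
      rw [Subgroup.mem_subgroupOf, hes, mul_one]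
      exact he
    have h3 : s ∈ N ⊓ centralizer ({w} : Set G) :=
      ⟨hs, mem_cent_singleton.2 hsw⟩
    rw [hfree w hwE hw1, Subgroup.mem_bot] at h3
    exact hs1 h3

/-- the kernel -/
theorem frob_kernel_of_free {M E N : Subgroup G} {π : Set ℕ} (hNh : IsPiHallOf π N M)
    (hE : IsComplIn E N M) (hn : M ≤ nz N) (hs : Group.IsSolvable M)
    (hfree : ∀ e ∈ E, e ≠ 1 → N ⊓ centralizer ({e} : Set G) = ⊥) :
    frobeniusKernel (E.subgroupOf M) = ((N.subgroupOf M : Subgroup M) : Set M) := by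
  have hEh : IsPiHallOf {p | p ∉ π} E M :=
    complIn_hall (π := π) (fun p _ => Iff.rfl) (complIn_symm hE) hNh
  ext m
  constructor
  · intro hm
    show (m : G) ∈ N
    rcases hm with rfl | hm
    · exact N.one_mem
    obtain ⟨c, hc, b, hb, e, hcb, h3, h4⟩ := exists_piPart π (m : G)
    have hzM : zpowers (m : G) ≤ M := by rw [zpowers_le]; exact m.2
    have hbM := hzM hb
    have hcM := hzM hc
    have hcN : c ∈ N := piElt_mem_normal_hall hNh hn hcM h3
    obtain ⟨g, hg, hle⟩ := OOT.IsPiHallOf.exists_conj_le hs hEh (K := zpowers b)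
      (by rwa [zpowers_le]) (piSub_zpowers.2 h4)
    have hgb : g * b * g⁻¹ ∈ E := hle (L.conj_mem_cj (mem_zpowers b))
    by_cases hb1 : b = 1
    · rw [e, hb1, mul_one]; exact hcN
    · exfalso
      have hgb1 : g * b * g⁻¹ ≠ 1 := by
        intro h
        apply hb1
        rwa [mul_inv_eq_one, mul_eq_left] at h
      have h5 := hfree _ hgb hgb1
      have h6 : g * c * g⁻¹ ∈ N ⊓ centralizer ({g * b * g⁻¹} : Set G) := by
        refine ⟨(Subgroup.mem_normalizer_iff.1 (hn hg) c).1 hcN, mem_cent_singleton.2 ?_⟩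
        calc g * c * g⁻¹ * (g * b * g⁻¹) = g * (c * b) * g⁻¹ := by group
          _ = g * (b * c) * g⁻¹ := by rw [hcb]
          _ = _ := by group
      rw [h5, Subgroup.mem_bot] at h6
      have hc1 : c = 1 := by rwa [mul_inv_eq_one, mul_eq_left] at h6
      refine hm ⟨g⁻¹, M.inv_mem hg⟩ ?_
      refine H1.mem_conj_smul.2 ?_
      rw [Subgroup.mem_subgroupOf]
      show (g⁻¹)⁻¹ * (m : G) * g⁻¹ ∈ E
      rw [e, hc1, one_mul, inv_inv]
      exact hgb
  · intro hm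
    have hmN : (m : G) ∈ N := hm
    by_cases h1 : m = 1
    · exact Or.inl h1
    · right
      intro g hg
      have h2 : g⁻¹ * m * g ∈ E.subgroupOf M := H1.mem_conj_smul.1 hg
      have h3 : (g : G)⁻¹ * m * g ∈ E := h2
      have h4 : (g : G)⁻¹ * m * (g : G)⁻¹⁻¹ ∈ N :=
        (Subgroup.mem_normalizer_iff.1 (hn (M.inv_mem g.2)) (m : G)).1 hmN
      rw [inv_inv] at h4
      have h5 : (g : G)⁻¹ * m * g ∈ E ⊓ N := ⟨h3, h4⟩
      rw [hE.2.2.1, Subgroup.mem_bot] at h5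
      apply h1
      apply Subtype.ext
      show (m : G) = 1
      have : (m : G) = g * ((g : G)⁻¹ * m * g) * (g : G)⁻¹ := by group
      rw [this, h5]; group

variable (hG : IsMinSimpleOddOrder G)
include hG

theorem nbeta_facts {N K N' K' : Subgroup G} (D : Dual N K N' K') {s : ℕ} (hs : s ∈ sigma N')
    (hsβ : s ∉ beta N') :
    IsSigmaDecomposition N' K' ⊥ ∧ K ≤ ⁅sigmaCore N', sigmaCore N'⁆ := by
  have hP1 : IsP1 N' := by
    by_contra h
    exact hsβ (D.pm'.sigma_sub_beta hG h hs)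
  obtain ⟨U, hU⟩ := exists_dec hG D.pm'.coatom D.pm'.hall
  have hU1 : U = ⊥ := (dec_P1_iff hG D.pm'.coatom hU).1 hP1
  subst hU1
  refine ⟨hU, ?_⟩
  have h1 := dec_kst_le hG D.pm'.coatom hU D.pm'.ne
  rw [dec_derived hG D.pm'.coatom hU D.pm'.ne, bot_sup_eq, D.e'] at h1
  exact h1

theorem prime_ne_two {p : ℕ} (hp : p.Prime) {H : Subgroup G} (hd : p ∣ Nat.card H) : p ≠ 2 := by
  rintro rfl
  exact (Nat.not_even_iff_odd.2 (OOT.odd_sub hG H)) (even_iff_two_dvd.2 hd)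

theorem Cfg.no_q {M N N' K U : Subgroup G} {r : ℕ} {b : G} (c : Cfg M N N' K U r b) :
    Nat.card K ∉ tau2 M := by
  intro hq2
  set q := Nat.card K with hq
  have hqp : q.Prime := c.Kp
  have hqF : Fact q.Prime := ⟨hqp⟩
  have D := c.dual
  have hN' := D.pm'.coatom
  obtain ⟨A, hAE, hA1, hA2⟩ := exists_ea_sq hG c.hM c.compl hq2
  have hAM : A ≤ M := hAE.trans inf_le_left
  have hKs : K ≤ sigmaCore N' := by rw [← D.e']; exact kst_le_ms _ _
  have hqσ' : q ∈ sigma N' := (ms_hall hG hN').2.1 q hqp (by rw [hq]; exact card_dvd_of_le hKs)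
  have hqβ : q ∉ beta N' := tau2_not_beta hG c.hM hq2
  obtain ⟨hdec, hKc⟩ := nbeta_facts hG D hqσ' hqβ
  have hnil : Group.IsNilpotent (sigmaCore N') := by
    by_cases he : fittingHallOf N' = sigmaCore N'
    · rw [← he]; exact fhOf_nilpotent N'
    · exfalso
      obtain ⟨-, Q, D', hNF⟩ := exists_NF hG hN' hdec he
      apply hqβ
      have := hNF.qβ
      rwa [D.e', ← hq] at this
  obtain ⟨-, ⟨hA0, -⟩, -⟩ := BB.S1419 hG M c.hM _ c.compl q hq2 (by
    intro S hS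
    refine nil_comm_le hnil hqp ?_ hKc hq.symm
    set Qs := piCoreOf {q} (sigmaCore N') with hQs
    have hQp : IsPGroup q Qs := isPGroup_of_isPiSub (isPiSub_piCoreOf _ _)
    obtain ⟨g, hg, hle⟩ := (L.sylIn_top S).exists_conj_le hQp le_top
    have hS' := mulComm_iff.1 hS
    intro a ha b' hb'
    have h1 := hS' _ (hle (L.conj_mem_cj ha)) _ (hle (L.conj_mem_cj hb'))
    have h2 : g * (a * b') * g⁻¹ = g * (b' * a) * g⁻¹ := by
      calc g * (a * b') * g⁻¹ = g * a * g⁻¹ * (g * b' * g⁻¹) := by group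
        _ = g * b' * g⁻¹ * (g * a * g⁻¹) := h1
        _ = _ := by group
    simpa using h2) A ⟨hAE, hA1, hA2⟩
  obtain ⟨e, he, he1⟩ := exists_ne_one (ne_bot_of_card_prime (by rw [hA0]; exact hqp))
  have heA : e ∈ A := he.1
  refine c.cent_b hG (hAM heA) he1 ?_ (mem_cent_iff.1 he.2 b c.b_mem)
  have hAq : IsPiSub {p | p ∉ sigma M} A :=
    isPiSub_of_isPGroup (π := {p | p ∉ sigma M}) hq2.2.1 (isEA_isPGroup hA1)
  exact piElt_of_mem hAq heA

theorem Cfg.tau2_empty {M N N' K U : Subgroup G} {r : ℕ} {b : G} (c : Cfg M N N' K U r b)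
    {p : ℕ} (hp2 : p ∈ tau2 M) : False := by
  have hq2 := c.no_q hG
  set q := Nat.card K with hq
  have hqp : q.Prime := c.Kp
  have hqF : Fact q.Prime := ⟨hqp⟩
  have hp : p.Prime := hp2.1
  have hpF : Fact p.Prime := ⟨hp⟩
  have hpq : p ≠ q := by rintro rfl; exact hq2 hp2
  have D := c.dual
  have hN' := D.pm'.coatom
  have hM := c.hM
  obtain ⟨A, hAE, hA1, hA2⟩ := exists_ea_sq hG hM c.compl hp2
  have hAp : IsPGroup p A := isEA_isPGroup hA1
  have hAM : A ≤ M := hAE.trans inf_le_left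
  have hAN' : A ≤ N' := hAE.trans inf_le_right
  have hKs : K ≤ sigmaCore N' := by rw [← D.e']; exact kst_le_ms _ _
  have hKE : K ≤ M ⊓ N' := c.K_F.trans (fittingOf_le _)
  have hKM : K ≤ M := hKE.trans inf_le_left
  have hqσ : q ∉ sigma M := (compl_hall hG hM c.compl).2.1 q hqp
    (by rw [hq]; exact card_dvd_of_le hKE)
  obtain ⟨⟨hEA, -⟩, ⟨hcA, -⟩, -⟩ := BB.S1418 hG M hM _ c.compl p hp2 A ⟨hAE, hA1, hA2⟩
  -- `K` centralizes `A`
  have hAF : A ≤ fittingOf (M ⊓ N') := le_fittingOf hAE hEA hAp.isNilpotent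
  have hKA : K ≤ centralizer (A : Set G) := by
    refine nil_cent (fittingOf_nilpotent _) c.K_F hAF ?_
    rw [← hq, hA2]
    exact Nat.Coprime.pow_right _ ((Nat.coprime_primes hqp hp).2 (Ne.symm hpq))
  have hpσ' : p ∈ sigma N' := by
    by_contra h
    have h1 := mem_tau2_of_ea hG hN' hp hAN' hA1 hA2 h
    have h2 := (BB.S1417 hG N' hN' p h1 A ⟨hAN', hA1, hA2⟩).2.2.2.1
    apply c.K1
    rw [eq_bot_iff, ← h2]
    exact le_inf hKs hKA
  have hpβ : p ∉ beta N' := tau2_not_beta hG hM hp2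
  obtain ⟨hdec, hKc⟩ := nbeta_facts hG D hpσ' hpβ
  have hcAM : centralizer (A : Set G) ≤ M := hcA.trans inf_le_left
  have hrank : PRankLE q 1 M := by
    by_contra h
    exact hq2 ⟨hqp, hqσ, rank_le_two hG hM hqp hqσ, h⟩
  have hq2' : q ≠ 2 := prime_ne_two hG hqp (H := K) (by rw [hq])
  have hcyc : ∀ Q : Subgroup G, IsPGroup q Q → Q ≤ M → IsCyclic Q := fun Q hQ hQM =>
    OOT.isCyclic_of_pRankLE_one hq2' hQ (H10.pRankLE_mono hQM hrank)
  have hAs : A ≤ sigmaCore N' := le_ms hG hN' hAN' (isPiSub_of_isPGroup hpσ' hAp)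
  by_cases he : fittingHallOf N' = sigmaCore N'
  · have hnil : Group.IsNilpotent (sigmaCore N') := by rw [← he]; exact fhOf_nilpotent N'
    set Qs := piCoreOf {q} (sigmaCore N') with hQs
    have hQp : IsPGroup q Qs := isPGroup_of_isPiSub (isPiSub_piCoreOf _ _)
    have hQA : Qs ≤ centralizer (A : Set G) := by
      refine nil_cent hnil (piCoreOf_le _ _) hAs ?_
      rw [hA2]
      refine Nat.Coprime.pow_right _ ?_
      refine Nat.Coprime.symm ?_
      rw [hp.coprime_iff_not_dvd]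
      intro hd
      exact hpq (isPiSub_piCoreOf {q} (sigmaCore N') p hp hd)
    have h1 := hcyc Qs hQp (hQA.trans hcAM)
    exact nil_comm_le hnil hqp (comm_of_cyclic h1) hKc hq.symm
  · obtain ⟨-, Q, D', hNF⟩ := exists_NF hG hN' hdec he
    have hqe : Nat.card (Kst N' (Kst N K)) = q := by rw [D.e']
    have hMK : ∀ m ∈ N', ∃ k ∈ Kst N K, ∃ s ∈ sigmaCore N', m = k * s := by
      have h1 := dec_compl_K hG hN' hdec
      rw [bot_sup_eq] at h1
      exact h1.2.2.2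
    have hQA : Q ≤ centralizer (A : Set G) := by
      refine hNF.cent_of_cent hG hMK hAs ?_ ?_
      · rw [hqe]
        exact isPiSub_of_isPGroup (π := {p | p ∉ ({q} : Set ℕ)}) hpq hAp
      · intro a ha k hk
        rw [D.e'] at hk
        exact (mem_cent_iff.1 (hKA hk) a ha).symm
    have hQp : IsPGroup q Q := by rw [← hqe]; exact hNF.Q_p
    have h1 := hcyc Q hQp (hQA.trans hcAM)
    have h2 := comm_le_cent_cyclic hNF.Q_nz h1
    rw [← hNF.der] at h2
    exact hNF.Q₀_lt.ne (inf_eq_left.2 (le_cent_comm.1 (hNF.D_hall.1.trans h2)))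

theorem Cfg.free {M N N' K U : Subgroup G} {r : ℕ} {b : G} (c : Cfg M N N' K U r b) :
    ∀ e ∈ M ⊓ N', e ≠ 1 → sigmaCore M ⊓ centralizer ({e} : Set G) = ⊥ := by
  have hM := c.hM
  have hEM : M ⊓ N' ≤ M := inf_le_left
  have hEh := compl_hall hG hM c.compl
  have hrk : ∀ p : ℕ, p.Prime → p ∣ Nat.card ↥(M ⊓ N') → PRankLE p 1 M := by
    intro p hp hd
    by_contra h
    have hps := hEh.2.1 p hp hd
    exact c.tau2_empty hG ⟨hp, hps, rank_le_two hG hM hp hps, h⟩
  intro e he he1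
  obtain ⟨K₀, U₀, h₀⟩ := exists_dec' hG hM
  refine free_of_kappa_empty hG hM h₀ c.κM (hEM he) he1 ?_
  intro p hp hd
  have hdE : p ∣ Nat.card ↥(M ⊓ N') := hd.trans (Subgroup.orderOf_dvd_natCard _ he)
  have h1 := hrk p hp hdE
  have h2 := hEh.2.1 p hp hdE
  by_cases h3 : p ∣ Nat.card ↥⁅M, M⁆
  · exact Or.inr ⟨hp, h2, h3, h1⟩
  · exact Or.inl ⟨hp, h2, hdE.trans (card_dvd_of_le hEM), h3, h1⟩

theorem Cfg.E_ne {M N N' K U : Subgroup G} {r : ℕ} {b : G} (c : Cfg M N N' K U r b) :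
    M ⊓ N' ≠ ⊥ := by
  intro h1
  have hKE : K ≤ M ⊓ N' := c.K_F.trans (fittingOf_le _)
  rw [h1, le_bot_iff] at hKE
  exact c.K1 hKE

theorem Cfg.ms_nil {M N N' K U : Subgroup G} {r : ℕ} {b : G} (c : Cfg M N N' K U r b) :
    Group.IsNilpotent (sigmaCore M) := by
  have hKE : K ≤ M ⊓ N' := c.K_F.trans (fittingOf_le _)
  exact ms_nilpotent hG c.hM c.κM c.Kp (card_dvd_of_le (hKE.trans inf_le_left))
    ((compl_hall hG c.hM c.compl).2.1 _ c.Kp (card_dvd_of_le hKE))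

/-- `M` is a Frobenius group with kernel `M_F` -/
theorem Cfg.frob {M N N' K U : Subgroup G} {r : ℕ} {b : G} (c : Cfg M N N' K U r b) :
    IsFrobeniusComplement ((M ⊓ N').subgroupOf M) ∧
      frobeniusKernel ((M ⊓ N').subgroupOf M) = ((fittingHall M : Subgroup M) : Set M) := by
  have hM := c.hM
  refine ⟨frob_of_free c.compl (le_nz_ms M) (c.E_ne hG) (sigmaCore_ne_bot hG hM) (c.free hG), ?_⟩
  rw [frob_kernel_of_free (ms_hall hG hM) c.compl (le_nz_ms M) (coatom_sol hG hM) (c.free hG)]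
  have h1 : (fittingHall M).map M.subtype = sigmaCore M := fhOf_eq_ms hG hM (c.ms_nil hG)
  congr 1
  apply Subgroup.map_injective M.subtype_injective
  rw [h1, Subgroup.map_subgroupOf_eq_of_le (ms_le M)]

theorem row1376 {M N : Subgroup G} (hM : IsCoatom M) {x : G} (hx : x ∈ sigmaCore M)
    (hx1 : x ≠ 1) (hS : Sup M x N) (hκ : (kappa N).Nonempty) :
    kappa M = ∅ ∧ (∃ E : Subgroup ↥M, IsFrobeniusComplement E ∧ IsCyclic E) ∧
      ¬ IsTISubset (fittingHallOf M : Set G) := by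
  obtain ⟨N', K, U, r, b, c⟩ := exists_Cfg hG hM hx hx1 hS hκ
  refine ⟨c.κM, ?_, ?_⟩
  swap
  · -- not TI
    have hKE : K ≤ M ⊓ N' := c.K_F.trans (fittingOf_le _)
    have hKd : Nat.card K ∣ Nat.card M := card_dvd_of_le (hKE.trans inf_le_left)
    have hqσ : Nat.card K ∉ sigma M := (compl_hall hG hM c.compl).2.1 _ c.Kp (card_dvd_of_le hKE)
    have hn := ms_nilpotent hG hM c.κM c.Kp hKd hqσ
    rw [fhOf_eq_ms hG hM hn]
    intro hTI
    apply sup_not_cent_le hG hM hS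
    intro g hg
    by_contra hgM
    apply hx1
    refine hTI g ?_ x hx ?_
    · intro h
      have h1 : g ∈ nz (sigmaCore M) := h
      rw [nz_ms hG hM (sigmaCore_ne_bot hG hM)] at h1
      exact hgM h1
    · have h1 : g * x = x * g := mem_cent_singleton.1 hg
      rw [h1, mul_inv_cancel_right]
      exact hx
  set E := M ⊓ N' with hE
  have hEM : E ≤ M := inf_le_left
  have hEh := compl_hall hG hM c.compl
  have hrk : ∀ p : ℕ, p.Prime → p ∣ Nat.card E → PRankLE p 1 M := by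
    intro p hp hd
    by_contra h
    have hps := hEh.2.1 p hp hd
    exact c.tau2_empty hG ⟨hp, hps, rank_le_two hG hM hp hps, h⟩
  -- `E` acts freely
  have hfree : ∀ e ∈ E, e ≠ 1 → sigmaCore M ⊓ centralizer ({e} : Set G) = ⊥ := by
    intro e he he1
    obtain ⟨K₀, U₀, h₀⟩ := exists_dec' hG hM
    refine free_of_kappa_empty hG hM h₀ c.κM (hEM he) he1 ?_
    intro p hp hd
    have hdE : p ∣ Nat.card E := hd.trans (Subgroup.orderOf_dvd_natCard _ he)
    have h1 := hrk p hp hdE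
    have h2 := hEh.2.1 p hp hdE
    by_cases h3 : p ∣ Nat.card ↥⁅M, M⁆
    · exact Or.inr ⟨hp, h2, h3, h1⟩
    · exact Or.inl ⟨hp, h2, hdE.trans (card_dvd_of_le hEM), h3, h1⟩
  -- `E` is abelian
  have hr : r.Prime := c.rp.1
  have hrF : Fact r.Prime := ⟨hr⟩
  have hrM : r ∣ Nat.card M := c.rσ.2.1
  have hr2 : r ≠ 2 := prime_ne_two hG hr hrM
  obtain ⟨S, hS', hEodd⟩ : ∃ S : Subgroup G, (SylIn r S M ∧ M ≤ nz S) ∧ Odd (Nat.card E) := by
    have hKE : K ≤ E := c.K_F.trans (fittingOf_le _)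
    have hn := ms_nilpotent hG hM c.κM c.Kp (card_dvd_of_le (hKE.trans hEM))
      (hEh.2.1 _ c.Kp (card_dvd_of_le hKE))
    have h1 := nil_piCore_hall hn {r}
    refine ⟨piCoreOf {r} (sigmaCore M), ⟨⟨h1.1.trans (ms_le M), isPGroup_of_isPiSub h1.2.1, ?_⟩,
      (le_nz_ms M).trans (normalizer_le_normalizer_piCoreOf _ _)⟩, OOT.odd_sub hG E⟩
    intro hd
    rw [← Subgroup.relIndex_mul_relIndex _ _ _ h1.1 (ms_le M)] at hd
    rcases hr.dvd_mul.1 hd with hd | hd
    · exact h1.2.2 r hr rfl hd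
    · exact (ms_hall hG hM).2.2 r hr c.rσ hd
  have hS1 : S ≠ ⊥ := ne_bot_of_sylIn hS'.1 hrM
  have hSs : S ≤ sigmaCore M :=
    le_ms hG hM hS'.1.le (isPiSub_of_isPGroup c.rσ hS'.1.isPGroup)
  have hrE : ¬ r ∣ Nat.card E := fun h => hEh.2.1 r hr h c.rσ
  have hcomm := narrow_comm_cent hr2 hS'.1.isPGroup
    (OOT.narrow_of_not_beta hG hM hrM (tau2_not_beta hG c.hN c.rp) hS'.1) (hEM.trans hS'.2)
    (H1.isSolvable_of_le hEM (coatom_sol hG hM)) hEodd
    (Nat.Coprime.symm ((Nat.Prime.coprime_iff_not_dvd hr).2 hrE))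
  have hEc : ∀ a ∈ E, ∀ b ∈ E, a * b = b * a := by
    intro a ha b hb
    rw [← commutatorElement_eq_one_iff_mul_comm]
    by_contra h
    have h1 : ⁅a, b⁆ ∈ ⁅E, E⁆ := Subgroup.commutator_mem_commutator ha hb
    have h2 := hfree _ ((Subgroup.commutator_le_self E) h1) h
    apply hS1
    rw [eq_bot_iff, ← h2]
    refine le_inf hSs ?_
    intro s hs
    exact mem_cent_singleton.2 (mem_cent_iff.1 (hcomm h1) s hs).symm
  have hEZ : IsZGroup E := by
    refine OOT.isZGroup_of_rankLE_one hEodd ?_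
    intro p hp
    have : Fact p.Prime := ⟨hp⟩
    by_cases hd : p ∣ Nat.card E
    · exact H10.pRankLE_mono hEM (hrk p hp hd)
    · exact OOT.pRankLE_of_not_dvd hd
  have hEn : Group.IsNilpotent E := H10.isNilpotent_of_comm fun a b =>
    Subtype.ext (hEc a a.2 b b.2)
  have hEcyc : IsCyclic E := inferInstance
  exact ⟨E.subgroupOf M, (c.frob hG).1, isCyclic_of_injective
    (Subgroup.subgroupOfEquivOfLe hEM).toMonoidHom (Subgroup.subgroupOfEquivOfLe hEM).injective⟩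

end Cfsg.Agent.H21
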