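import Cfsg.Agent.H21.OT16e

set_option autoImplicit false
set_option linter.unusedVariables false

/-! S1385. -/

namespace Cfsg.Agent.H21

open Subgroup
open Cfsg.Agent.L (cj nz SylIn)
open Cfsg.Agent.H14 (IsPiSub)
open Cfsg.Agent.OOT
open scoped commutatorElement Pointwise

universe u
variable {G : Type u} [Group G]

variable [Finite G]

variable (hG : IsMinSimpleOddOrder G)
include hG

theorem typeI_of_kappa {M : Subgroup G} (hM : IsCoatom M) (hκ : kappa M = ∅) :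
    H2.WTypeI M := by
  obtain ⟨K, U, h⟩ := exists_dec' hG hM
  have hK : K = ⊥ := by
    by_contra hK
    obtain ⟨X, hX, hXp⟩ := exists_prime_sub hK
    have := h.hall.2.1 _ hXp (card_dvd_of_le hX)
    rw [hκ] at this
    exact this
  subst hK
  exact (H14.TY.typeI_iff hG hM h).2 ⟨rfl, U_ne_of_K hG hM h⟩

theorem types_of_dec {M K U : Subgroup G} (hM : IsCoatom M) (h : IsSigmaDecomposition M K U)
    (hK : K ≠ ⊥) : IsOfTypeII M ∨ IsOfTypeIII M ∨ IsOfTypeIV M ∨ IsOfTypeV M := by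
  by_cases hU : U = ⊥
  · by_cases hF : fittingHallOf M = sigmaCore M
    · exact Or.inr (Or.inr (Or.inr ((H14.TY.typeV_iff hG hM h).2 ⟨hK, hU, hF⟩)))
    · rcases (H14.TY.typeIII_IV_iff hG hM h).2 ⟨hK, hU, hF⟩ with h1 | h1
      · exact Or.inr (Or.inl h1)
      · exact Or.inr (Or.inr (Or.inl h1))
  · exact Or.inl ((H14.TY.typeII_iff hG hM h).2 ⟨hK, hU⟩)

theorem Dual.selfNorm {M K M' K' : Subgroup G} (D : Dual M K M' K') :
    IsSelfNormalizingCyclic K K' := by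
  have hcyc := D.cyclic_Z hG
  have hZ : Zof M K = K ⊔ K' := by rw [← D.e]
  refine ⟨D.pm.ne, D.pm'.ne, ?_, fun a ha b hb => D.comm ha hb, ?_, ?_⟩
  · exact (Subgroup.disjoint_of_coprime_natCard (D.coprime hG)).eq_bot
  · rw [← hZ]; exact hcyc
  · intro X hX hXne
    rw [← hZ] at hX ⊢
    have hXhat : X ⊆ Zhat M K := by
      intro x hx
      have h1 := hX hx
      refine ⟨h1.1, ?_⟩
      rw [D.e]
      exact h1.2
    apply le_antisymm
    · intro g hg
      obtain ⟨x, hx⟩ := hXne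
      have h1 : g * x * g⁻¹ ∈ X := (Subgroup.mem_set_normalizer_iff.1 hg x).1 hx
      exact D.pm.Zhat_conj hG (hXhat hx) (hXhat h1).1
    · intro g hg
      rw [Subgroup.mem_set_normalizer_iff]
      intro x
      have hc := comm_of_cyclic hcyc
      constructor
      · intro hx
        have : g * x * g⁻¹ = x := by
          rw [hc g hg x (hXhat hx).1, mul_inv_cancel_right]
        rwa [this]
      · intro hx
        have h1 := (hXhat hx).1
        have h2 : g⁻¹ * (g * x * g⁻¹) * g = g * x * g⁻¹ := by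
          rw [hc g⁻¹ ((Zof M K).inv_mem hg) _ h1, inv_mul_cancel_right]
        have h3 : g * x * g⁻¹ = x := by rw [← h2]; group
        rwa [h3] at hx

/-- S1385, weak form -/
theorem row1385w :
    (∀ M : Subgroup G, IsCoatom M → H2.WTypeI M) ∨
      ∃ W₁ W₂ S T : Subgroup G, IsSelfNormalizingCyclic W₁ W₂ ∧ IsCoatom S ∧ IsCoatom T ∧
        IsComplIn ⁅S, S⁆ W₁ S ∧ IsComplIn ⁅T, T⁆ W₂ T ∧ S ⊓ T = W₁ ⊔ W₂ ∧
        (IsOfTypeII S ∨ IsOfTypeII T) ∧
        (IsOfTypeII S ∨ IsOfTypeIII S ∨ IsOfTypeIV S ∨ IsOfTypeV S) ∧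
        (IsOfTypeII T ∨ IsOfTypeIII T ∨ IsOfTypeIV T ∨ IsOfTypeV T) ∧
        ∀ M : Subgroup G, IsCoatom M → H2.WTypeI M ∨ ∃ g : G,
          M = S.map (MulAut.conj g).toMonoidHom ∨ M = T.map (MulAut.conj g).toMonoidHom := by
  by_cases hall : ∀ M : Subgroup G, IsCoatom M → kappa M = ∅
  · exact Or.inl fun M hM => typeI_of_kappa hG hM (hall M hM)
  · right
    push Not at hall
    obtain ⟨S, hS, hκ⟩ := hall
    obtain ⟨K, hK⟩ := exists_PM hG hS hκ
    obtain ⟨T, D, hor⟩ := hK.exists_dual hG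
    have hT := D.pm'.coatom
    obtain ⟨U, hU⟩ := exists_dec hG hS hK.hall
    obtain ⟨U', hU'⟩ := exists_dec hG hT D.pm'.hall
    refine ⟨K, Kst S K, S, T, D.selfNorm hG, hS, hT, ?_, ?_, D.inf_eq hG, ?_,
      types_of_dec hG hS hU hK.ne, types_of_dec hG hT hU' D.pm'.ne, ?_⟩
    · rw [dec_derived hG hS hU hK.ne]
      exact complIn_symm (dec_compl_K hG hS hU)
    · rw [dec_derived hG hT hU' D.pm'.ne]
      exact complIn_symm (dec_compl_K hG hT hU')
    · rcases hor with h | h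
      · exact Or.inl ((H14.TY.typeII_iff hG hS hU).2 ⟨hK.ne, fun e => h ((dec_P1_iff hG hS hU).2 e)⟩)
      · exact Or.inr ((H14.TY.typeII_iff hG hT hU').2
          ⟨D.pm'.ne, fun e => h ((dec_P1_iff hG hT hU').2 e)⟩)
    · intro M hM
      by_cases hκM : kappa M = ∅
      · exact Or.inl (typeI_of_kappa hG hM hκM)
      · obtain ⟨K₁, hK₁⟩ := exists_PM hG hM (Set.nonempty_iff_ne_empty.2 hκM)
        right
        rcases D.classes hG hK₁ with ⟨g, hg⟩ | ⟨g, hg⟩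
        · exact ⟨g, Or.inl hg⟩
        · exact ⟨g, Or.inr hg⟩

/-- S1385, given that weak type I is type I -/
theorem row1385_of (hw : ∀ L : Subgroup G, IsCoatom L → H2.WTypeI L → IsOfTypeI L) :
    (∀ M : Subgroup G, IsCoatom M → IsOfTypeI M) ∨
      ∃ W₁ W₂ S T : Subgroup G, IsSelfNormalizingCyclic W₁ W₂ ∧ IsCoatom S ∧ IsCoatom T ∧
        IsComplIn ⁅S, S⁆ W₁ S ∧ IsComplIn ⁅T, T⁆ W₂ T ∧ S ⊓ T = W₁ ⊔ W₂ ∧
        (IsOfTypeII S ∨ IsOfTypeII T) ∧
        (IsOfTypeII S ∨ IsOfTypeIII S ∨ IsOfTypeIV S ∨ IsOfTypeV S) ∧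
        (IsOfTypeII T ∨ IsOfTypeIII T ∨ IsOfTypeIV T ∨ IsOfTypeV T) ∧
        ∀ M : Subgroup G, IsCoatom M → IsOfTypeI M ∨ ∃ g : G,
          M = S.map (MulAut.conj g).toMonoidHom ∨ M = T.map (MulAut.conj g).toMonoidHom := by
  rcases row1385w hG with h | ⟨W₁, W₂, S, T, h1, h2, h3, h4, h5, h6, h7, h8, h9, h10⟩
  · exact Or.inl fun M hM => hw M hM (h M hM)
  · exact Or.inr ⟨W₁, W₂, S, T, h1, h2, h3, h4, h5, h6, h7, h8, h9,
      fun M hM => (h10 M hM).imp_left (hw M hM)⟩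

end Cfsg.Agent.H21
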