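import Cfsg.Agent.H21.OT14v
import Cfsg.Agent.H21.OT14r

set_option autoImplicit false
set_option linter.unusedVariables false

/-! Core of S1391 (tame embedding), free of types. -/

namespace Cfsg.Agent.H21

open Subgroup
open Cfsg.Agent.L (cj nz SylIn)
open Cfsg.Agent.H14 (IsPiSub)
open Cfsg.Agent.OOT
open scoped commutatorElement Pointwise

universe u
variable {G : Type u} [Group G]

variable [Finite G]

variable (hG : IsMinSimpleOddOrder G)
include hG

variable {M K U : Subgroup G} (hM : IsCoatom M) (h : IsSigmaDecomposition M K U)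
include hM h

/-- type (ii) elements of `A₀(M)` -/
theorem A0_cases {x : G} (hx : x ∈ sigmaA0 M K) :
    x ∈ sigmaCore M ∨ (x ∈ sigmaA M U ∧ x ∉ sigmaCore M) ∨
      (K ≠ ⊥ ∧ ∃ m ∈ M, ∃ z ∈ Zhat M K, x = m * z * m⁻¹) := by
  by_cases h1 : x ∈ sigmaCore M
  · exact Or.inl h1
  · right
    by_cases h2 : x ∈ sigmaA M U
    · exact Or.inl ⟨h2, h1⟩
    · right
      by_cases hK : K = ⊥
      · exfalso
        apply h2
        refine ⟨hx.1, ?_⟩
        subst hK
        have h3 := complIn_sup h.compl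
        rw [bot_sup_eq] at h3
        show x ∈ U ⊔ sigmaCore M
        rw [h3]
        exact hx.1.1
      · refine ⟨hK, ?_⟩
        have := A0_diff hG hM h hK
        have h3 : x ∈ sigmaA0 M K \ sigmaA M U := ⟨hx, h2⟩
        rw [← this] at h3
        exact h3

/-- elements of `Ẑ` are not conjugate to elements of `U M_σ` -/
theorem Zhat_not_conj (hK : K ≠ ⊥) {z g : G} (hz : z ∈ Zhat M K)
    (hg : g * z * g⁻¹ ∈ U ⊔ sigmaCore M) : False := by
  have hPM := dec_PM hM h hK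
  obtain ⟨k, hk, y, hy, hk1, hy1, rfl⟩ := mem_Zhat hz
  have h1 : PiElt {p | p ∉ kappa M} (g * (k * y) * g⁻¹) :=
    piElt_of_mem (dec_UMs_hall hG hM h).2.1 hg
  rw [piElt_conj] at h1
  have hc : k * y = y * k := kst_comm hk hy
  have hco : (orderOf y).Coprime (orderOf k) :=
    coprime_orderOf (π := sigma M) (hPM.kst_pi hG hy) (hPM.K_pi hk)
  have h2 := h1.of_mem_zpowers (mem_zpowers_of_coprime hc hco.symm)
  have h3 : PiElt (kappa M) k := piElt_of_mem hPM.hall.2.1 hk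
  exact hk1 (eq_one_of_piElt (π := kappa M) (π' := {p | p ∉ kappa M})
    (fun p _ hp hp' => hp' hp) h3 h2)

theorem sigmaA_not_Ms {x g : G} (hx : x ∈ sigmaCore M) (hg : g * x * g⁻¹ ∈ M) :
    g * x * g⁻¹ ∈ sigmaCore M :=
  mem_ms hG hM hg (piElt_conj.2 (ms_pi hG hM hx))

theorem fusion_ms {x g : G} (hx : x ∈ sigmaCore M) (hx1 : x ≠ 1) (hg : g * x * g⁻¹ ∈ M) :
    ∃ m ∈ M, m * x * m⁻¹ = g * x * g⁻¹ := by
  have h1 : x ∈ cj g⁻¹ M := by
    rw [L.mem_cj]; simpa using hg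
  obtain ⟨c, hc, he⟩ := conj_trans hG hM hx hx1 h1
  refine ⟨g * c, ?_, ?_⟩
  · have h2 : cj (g * c) M = M := by rw [← L.cj_cj, he, L.cj_cj_inv]
    have h3 : g * c ∈ nz M := L.mem_nz_iff.2 h2
    rwa [show nz M = M from coatom_normalizer_self hG hM] at h3
  · have h2 : c * x = x * c := mem_cent_singleton.1 hc
    calc g * c * x * (g * c)⁻¹ = g * (c * x) * c⁻¹ * g⁻¹ := by group
      _ = g * (x * c) * c⁻¹ * g⁻¹ := by rw [h2]
      _ = g * x * g⁻¹ := by group

theorem fusion_A0 {x : G} (hx : x ∈ sigmaA0 M K) (hx1 : x ≠ 1) {g : G}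
    (hg : g * x * g⁻¹ ∈ sigmaA0 M K) : ∃ m ∈ M, m * x * m⁻¹ = g * x * g⁻¹ := by
  rcases A0_cases hG hM h hx with hx2 | ⟨hx2, hx3⟩ | ⟨hK, m, hm, z, hz, rfl⟩
  · exact fusion_ms hG hM h hx2 hx1 hg.1.1
  · have hxM : x ∈ M := hx2.1.1
    refine ⟨g, ?_, rfl⟩
    obtain ⟨b, hb, c, hc, e, hcb, hσ, hσ', hb1, hbM, hu⟩ := sigmaA_elt hG hM h hx2 hx3
    rcases A0_cases hG hM h hg with hy | ⟨hy, hy'⟩ | ⟨hK, m, hm, z, hz, e2⟩
    · exfalso
      apply hx3
      have h1 : PiElt (sigma M) x := piElt_conj.1 (ms_pi hG hM hy)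
      exact mem_ms hG hM hxM h1
    · obtain ⟨b', hb', c', hc', e', hcb', hσc', hσb', hb1', hbM', hu'⟩ := sigmaA_elt hG hM h hy hy'
      have h1 : (g * c * g⁻¹) * (g * b * g⁻¹) = c' * b' := by
        rw [← e', e]; group
      have h2 : (g * c * g⁻¹) * (g * b * g⁻¹) = (g * b * g⁻¹) * (g * c * g⁻¹) := by
        calc (g * c * g⁻¹) * (g * b * g⁻¹) = g * (c * b) * g⁻¹ := by group
          _ = g * (b * c) * g⁻¹ := by rw [hcb]
          _ = _ := by group
      obtain ⟨-, h3⟩ := piPart_unique (π := sigma M) h1 h2 hcb' (piElt_conj.2 hσ)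
        (piElt_conj.2 hσ') hσc' hσb'
      rw [← h3] at hu'
      exact uniqIn_cent_conj hG hM hu hu'
    · exfalso
      have h1 : x = (g⁻¹ * m) * z * (g⁻¹ * m)⁻¹ := by
        have : x = g⁻¹ * (g * x * g⁻¹) * g := by group
        rw [this, e2]; group
      refine Zhat_not_conj hG hM h hK hz (g := g⁻¹ * m) ?_
      rw [← h1]
      exact hx2.2
  · have hPM := dec_PM hM h hK
    refine ⟨g, ?_, rfl⟩
    rcases A0_cases hG hM h hg with hy | ⟨hy, hy'⟩ | ⟨-, m', hm', z', hz', e2⟩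
    · exfalso
      have h1 : (g * m) * z * (g * m)⁻¹ ∈ U ⊔ sigmaCore M := by
        have e : (g * m) * z * (g * m)⁻¹ = g * (m * z * m⁻¹) * g⁻¹ := by group
        rw [e]; exact Subgroup.mem_sup_right hy
      exact Zhat_not_conj hG hM h hK hz h1
    · exfalso
      have h1 : (g * m) * z * (g * m)⁻¹ ∈ U ⊔ sigmaCore M := by
        have e : (g * m) * z * (g * m)⁻¹ = g * (m * z * m⁻¹) * g⁻¹ := by group
        rw [e]; exact hy.2
      exact Zhat_not_conj hG hM h hK hz h1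
    · have h1 : (m'⁻¹ * g * m) * z * (m'⁻¹ * g * m)⁻¹ ∈ Zof M K := by
        have e : (m'⁻¹ * g * m) * z * (m'⁻¹ * g * m)⁻¹ = m'⁻¹ * (g * (m * z * m⁻¹) * g⁻¹) * m' := by
          group
        have e3 : m'⁻¹ * (m' * z' * m'⁻¹) * m' = z' := by group
        rw [e, e2, e3]
        exact hz'.1
      have h2 := hPM.Z_le (hPM.Zhat_conj hG hz h1)
      have e : g = m' * (m'⁻¹ * g * m) * m⁻¹ := by group
      rw [e]
      exact M.mul_mem (M.mul_mem hm' h2) (M.inv_mem hm)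

/-- support elements lie in `M_σ` -/
theorem support_ms {x : G} (hx : x ∈ sigmaA0 M K) (hc : ¬ centralizer ({x} : Set G) ≤ M) :
    x ∈ sigmaCore M := by
  rcases A0_cases hG hM h hx with hx2 | ⟨hx2, hx3⟩ | ⟨hK, m, hm, z, hz, rfl⟩
  · exact hx2
  · exfalso
    obtain ⟨b, hb, c, -, e, hcb, hσ, hσ', hb1, hbM, hu⟩ := sigmaA_elt hG hM h hx2 hx3
    exact hc ((cent_le_of_mem_zpowers hb).trans hu.1)
  · exfalso
    have hPM := dec_PM hM h hK
    obtain ⟨M', D, -⟩ := hPM.exists_dual hG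
    obtain ⟨k, hk, y, hy, hk1, hy1, rfl⟩ := mem_Zhat hz
    have h1 := D.cent_mul hG hk hk1 hy hy1
    apply hc
    rw [← cj_cent, h1]
    have h2 := L.cj_mono (g := m) hPM.Z_le
    rwa [L.cj_eq_self_of_mem hm] at h2

/-- the order of `N_σ` is coprime to the centralizers -/
theorem core_coprime {x : G} (hx : x ∈ sigmaCore M) (hx1 : x ≠ 1) {N : Subgroup G}
    (hS : Sup M x N) {y : G} (hy : y ∈ sigmaA0 M K) (hy1 : y ≠ 1) :
    (Nat.card (sigmaCore N)).Coprime (Nat.card ↥(M ⊓ centralizer ({y} : Set G))) := by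
  refine Nat.coprime_of_dvd fun q hq h1 h2 => ?_
  have hqF : Fact q.Prime := ⟨hq⟩
  have hqN : q ∈ sigma N := (ms_hall hG hS.coatom).2.1 q hq h1
  have hqM : q ∣ Nat.card M := h2.trans (card_dvd_of_le inf_le_left)
  have hκ := row1436_kappa hG hM hx hx1 hS hqN hqM
  have hτ := row1436_tau2 hG hM hx hx1 hS hqN hqM
  have hqσ : q ∉ sigma M := fun h => sigma_not_of_not_conj hG hM hS.coatom hS.not_conj h hqN
  -- `σ'`-elements of `M` act freely on `M_σ`
  have hfree : ∀ e ∈ M, e ≠ 1 → PiElt {p | p ∉ sigma M} e →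
      sigmaCore M ⊓ centralizer ({e} : Set G) = ⊥ := by
    intro e he he1 hpe
    refine free_of_kappa_empty hG hM h hκ he he1 ?_
    intro p hp hd
    have hps := hpe p hp hd
    have hpM : p ∣ Nat.card M := hd.trans (Subgroup.orderOf_dvd_natCard _ he)
    have h3 : PRankLE p 1 M := by
      by_contra h4
      have : p ∈ tau2 M := ⟨hp, hps, rank_le_two hG hM hp hps, h4⟩
      rw [hτ] at this; exact this
    by_cases h5 : p ∣ Nat.card ↥⁅M, M⁆
    · exact Or.inr ⟨hp, hps, h5, h3⟩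
    · exact Or.inl ⟨hp, hps, hpM, h5, h3⟩
  have hyM : y ∈ sigmaCore M := by
    obtain ⟨⟨hyM, w, hw, hw1, hyw⟩, -⟩ := hy
    obtain ⟨c, hc, b, hb, e, hcb, h3, h4⟩ := exists_piPart (sigma M) y
    have hb1 : b = 1 := by
      by_contra hb1
      have h5 := hfree b ((zpowers_le.2 hyM) hb) hb1 h4
      have h6 : w ∈ sigmaCore M ⊓ centralizer ({b} : Set G) :=
        ⟨hw, mem_cent_singleton.2 (commute_of_mem_zpowers hb hyw).symm⟩
      rw [h5, Subgroup.mem_bot] at h6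
      exact hw1 h6
    refine mem_ms hG hM hyM ?_
    rw [e, hb1, mul_one]; exact h3
  obtain ⟨z, hz⟩ := exists_prime_orderOf_dvd_card' (G := ↥(M ⊓ centralizer ({y} : Set G))) q h2
  have hzo : orderOf (z : G) = q := by rw [Subgroup.orderOf_coe, hz]
  have hz1 : (z : G) ≠ 1 := ne_one_of_orderOf hG hq hzo
  have h5 := hfree z z.2.1 hz1 (by
    intro p hp hd
    rw [hzo] at hd
    rw [(Nat.prime_dvd_prime_iff_eq hp hq).1 hd]; exact hqσ)
  have h6 : y ∈ sigmaCore M ⊓ centralizer ({(z : G)} : Set G) :=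
    ⟨hyM, mem_cent_singleton.2 (mem_cent_singleton.1 z.2.2).symm⟩
  rw [h5, Subgroup.mem_bot] at h6
  exact hy1 h6

end Cfsg.Agent.H21
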