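import Cfsg.Agent.H21.OT16b
import Cfsg.Agent.H21.OT15i

set_option autoImplicit false
set_option linter.unusedVariables false

/-! Core of S1391 (tame embedding), free of types: the supporting subgroup. -/

namespace Cfsg.Agent.H21

open Subgroup
open Cfsg.Agent.L (cj nz SylIn)
open Cfsg.Agent.H14 (IsPiSub)
open Cfsg.Agent.OOT
open scoped commutatorElement Pointwise

universe u
variable {G : Type u} [Group G]

structure Tame (M : Subgroup G) (x : G) (N : Subgroup G) : Prop where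
  sup : Sup M x N
  fh : fittingHallOf N = sigmaCore N
  compl : IsComplIn (fittingHallOf N) (M ⊓ N) N
  cnz : centralizer ({x} : Set G) ≤
    normalizer ((fittingHallOf N ⊓ centralizer ({x} : Set G) : Subgroup G) : Set G)
  ccompl : IsComplIn (fittingHallOf N ⊓ centralizer ({x} : Set G))
    (M ⊓ centralizer ({x} : Set G)) (centralizer ({x} : Set G))
  not_ms : x ∉ sigmaCore N
  hat : x ∈ sigmaHat N
  U_ne : ∀ K U : Subgroup G, IsSigmaDecomposition N K U → U ≠ ⊥
  memA : ∀ K U : Subgroup G, IsSigmaDecomposition N K U → x ∈ sigmaA N U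
  frob : (kappa N).Nonempty → ∃ E : Subgroup ↥M, IsFrobeniusComplement E ∧
    frobeniusKernel E = ((fittingHall ↥M : Subgroup ↥M) : Set ↥M)

variable [Finite G]

variable (hG : IsMinSimpleOddOrder G)
include hG

theorem tame {M N : Subgroup G} (hM : IsCoatom M) {x : G} (hx : x ∈ sigmaCore M)
    (hx1 : x ≠ 1) (hS : Sup M x N) : Tame M x N := by
  have hN := hS.coatom
  have hfh : fittingHallOf N = sigmaCore N := fhOf_eq_ms hG hN hS.nil
  have hxN : x ∈ N := hS.uniq.1 (mem_cent_singleton.2 rfl)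
  have hnot : x ∉ sigmaCore N := fun h => hx1 (eq_one_of_piElt (π := tau2 N) (π' := sigma N)
    (fun p _ hp hp' => hp.2.1 hp') hS.tau2 (ms_pi hG hN h))
  have hhat : x ∈ sigmaHat N := by
    obtain ⟨y, hy, hy1⟩ := exists_ne_one hS.cent_ne
    exact ⟨hxN, y, hy.1, hy1, (mem_cent_singleton.1 hy.2).symm⟩
  have hmem : ∀ K U : Subgroup G, IsSigmaDecomposition N K U → x ∈ U ⊔ sigmaCore N := by
    intro K U h
    refine piElt_mem_normal_hall (dec_UMs_hall hG hN h) (dec_UMs_nz hG hN h) hxN ?_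
    intro p hp hd hk
    exact kappa_not_tau2 hk (hS.tau2 p hp hd)
  refine ⟨hS, hfh, ?_, ?_, ?_, hnot, hhat, ?_, fun K U h => ⟨hhat, hmem K U h⟩, ?_⟩
  · rw [hfh]; exact complIn_symm hS.compl
  · rw [hfh]; exact cent_nz hG hS.uniq.1
  · rw [hfh]; exact complIn_symm (cent_compl hG hM hx hx1 hS)
  · intro K U h hU
    have := hmem K U h
    rw [hU, bot_sup_eq] at this
    exact hnot this
  · intro hκ
    obtain ⟨N', K, U, r, b, c⟩ := exists_Cfg hG hM hx hx1 hS hκ
    exact ⟨_, (c.frob hG).1, (c.frob hG).2⟩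

/-- the whole package -/
theorem tame_all {M K U : Subgroup G} (hM : IsCoatom M) (h : IsSigmaDecomposition M K U)
    {X : Set G} (hX : X ⊆ sigmaA0 M K \ {1}) :
    (∀ x ∈ X, ∀ g : G, g * x * g⁻¹ ∈ X → ∃ m ∈ M, m * x * m⁻¹ = g * x * g⁻¹) ∧
    (∀ x ∈ X, ¬ centralizer ({x} : Set G) ≤ M → x ∈ sigmaCore M ∧
      ∃! N : Subgroup G, IsCoatom N ∧ centralizer ({x} : Set G) ≤ N) ∧
    ∀ x ∈ X, ¬ centralizer ({x} : Set G) ≤ M → ∀ N : Subgroup G, IsCoatom N →
      centralizer ({x} : Set G) ≤ N → Tame M x N ∧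
        ∀ y ∈ X, (Nat.card (fittingHallOf N)).Coprime
          (Nat.card ↥(M ⊓ centralizer ({y} : Set G))) := by
  refine ⟨?_, ?_, ?_⟩
  · intro x hx g hg
    exact fusion_A0 hG hM h (hX hx).1 (hX hx).2 (hX hg).1
  · intro x hx hc
    have h1 := support_ms hG hM h (hX hx).1 hc
    obtain ⟨N, hS⟩ := thm_14_4 hG hM h1 (hX hx).2 hc
    exact ⟨h1, N, ⟨hS.coatom, hS.uniq.1⟩, fun N' hN' => hS.uniq.2 N' hN'.1 hN'.2⟩
  · intro x hx hc N hN hcN
    have h1 := support_ms hG hM h (hX hx).1 hc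
    obtain ⟨N₁, hS⟩ := thm_14_4 hG hM h1 (hX hx).2 hc
    have h2 : N = N₁ := hS.uniq.2 N hN hcN
    subst h2
    have hT := tame hG hM h1 (hX hx).2 hS
    refine ⟨hT, fun y hy => ?_⟩
    rw [hT.fh]
    exact core_coprime hG hM h h1 (hX hx).2 hS (hX hy).1 (hX hy).2

end Cfsg.Agent.H21
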