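import Cfsg.Agent.H21.OT16c
import Cfsg.Agent.H14.Types

set_option autoImplicit false
set_option linter.unusedVariables false

/-! S1390 (printed and weak) and the weak form of S1391. -/

namespace Cfsg.Agent.H21

open Subgroup
open Cfsg.Agent.L (cj nz SylIn)
open Cfsg.Agent.H14 (IsPiSub)
open Cfsg.Agent.OOT
open Cfsg.Agent.H2 (WTypeI wA wA_eq WTypeI.of_typeI)
open scoped commutatorElement Pointwise

universe u
variable {G : Type u} [Group G]

variable [Finite G]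

variable (hG : IsMinSimpleOddOrder G)
include hG

/-- `A(M) ⊆ A₀(M)` -/
theorem sigmaA_sub {M K U : Subgroup G} (hM : IsCoatom M) (h : IsSigmaDecomposition M K U) :
    sigmaA M U ⊆ sigmaA0 M K := by
  rintro a ⟨h1, h2⟩
  refine ⟨h1, ?_⟩
  rintro ⟨k, hk, hk1, m, hm, rfl⟩
  have h3 : PiElt {p | p ∉ kappa M} (m * k * m⁻¹) := piElt_of_mem (dec_UMs_hall hG hM h).2.1 h2
  rw [piElt_conj] at h3
  exact hk1 (eq_one_of_piElt (π := kappa M) (π' := {p | p ∉ kappa M})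
    (fun p _ hp hp' => hp' hp) (piElt_of_mem h.hall.2.1 hk) h3)

theorem U_ne_of_K {M U : Subgroup G} (hM : IsCoatom M) (h : IsSigmaDecomposition M ⊥ U) :
    U ≠ ⊥ := by
  rintro rfl
  have h1 := complIn_sup h.compl
  rw [bot_sup_eq, bot_sup_eq] at h1
  have h2 := OOT.sigmaCore_le_derived hG hM
  rw [h1] at h2
  exact (derived_lt hG hM).not_ge h2

theorem fh_eq_of_dec {M K U : Subgroup G} (hM : IsCoatom M) (h : IsSigmaDecomposition M K U)
    (hU : U ≠ ⊥ ∨ K = ⊥) : fittingHallOf M = sigmaCore M := by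
  by_contra hne
  obtain ⟨h1, Q, D, hN⟩ := exists_NF hG hM h hne
  rcases hU with hU | hU
  · exact hU h1
  · exact hN.pm.ne hU

/-- (weak) type I: the given complement `U` is part of a standard factorisation -/
theorem dec_of_wtypeI {M U : Subgroup G} (hM : IsCoatom M) (hI : WTypeI M)
    (hU : IsComplIn (fittingHallOf M) U M) : IsSigmaDecomposition M ⊥ U ∧ U ≠ ⊥ := by
  obtain ⟨K, V, h⟩ := exists_dec' hG hM
  obtain ⟨hK, hV⟩ := (H14.TY.typeI_iff hG hM h).1 hI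
  subst hK
  rw [fh_eq_of_dec hG hM h (Or.inr rfl)] at hU
  have hd : IsSigmaDecomposition M ⊥ U := by
    refine ⟨inferInstance, h.hall, ?_, bot_le⟩
    rw [bot_sup_eq]
    exact complIn_symm hU
  exact ⟨hd, U_ne_of_K hG hM hd⟩

/-- type I or II: the given `U` is part of a standard factorisation -/
theorem dec_of_type {M U : Subgroup G} (hM : IsCoatom M)
    (hU : (WTypeI M ∧ IsComplIn (fittingHallOf M) U M) ∨
      (IsOfTypeII M ∧ IsComplIn (fittingHallOf M) U ⁅M, M⁆)) :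
    ∃ K : Subgroup G, IsSigmaDecomposition M K U ∧ U ≠ ⊥ ∧
      ((WTypeI M ∧ K = ⊥) ∨ (¬ WTypeI M ∧ K ≠ ⊥)) := by
  rcases hU with ⟨hI, hU⟩ | ⟨hII, hU⟩
  · obtain ⟨hd, hU1⟩ := dec_of_wtypeI hG hM hI hU
    exact ⟨⊥, hd, hU1, Or.inl ⟨hI, rfl⟩⟩
  · obtain ⟨K, V, h⟩ := exists_dec' hG hM
    obtain ⟨hK, hV⟩ := (H14.TY.typeII_iff hG hM h).1 hII
    rw [fh_eq_of_dec hG hM h (Or.inl hV)] at hU
    have hder := dec_derived hG hM h hK
    have hnI : ¬ WTypeI M := fun h1 => hK ((H14.TY.typeI_iff hG hM h).1 h1).1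
    -- both `U` and `V` are complements of `M_σ` in `M'`
    have hms : IsPiHallOf (sigma M) (sigmaCore M) ⁅M, M⁆ :=
      OOT.IsPiHallOf.of_le (ms_hall hG hM) (OOT.sigmaCore_le_derived hG hM)
        (Subgroup.commutator_le_self M)
    have hVc : IsComplIn (sigmaCore M) V ⁅M, M⁆ := by
      rw [hder, sup_comm]
      exact complIn_of_sup ((dec_U_le h).trans (le_nz_ms M)) (dec_U_inf_ms hG hM h) rfl
    have h1 := complIn_hall (π := sigma M) (π' := {p | p ∉ sigma M}) (fun p _ => Iff.rfl) hU hms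
    have h2 := complIn_hall (π := sigma M) (π' := {p | p ∉ sigma M}) (fun p _ => Iff.rfl) hVc hms
    have hsol : Group.IsSolvable ↥(⁅M, M⁆ : Subgroup G) :=
      H1.isSolvable_of_le (Subgroup.commutator_le_self M) (coatom_sol hG hM)
    obtain ⟨g, hg, hle⟩ := OOT.IsPiHallOf.exists_conj_le hsol h1 h2.1 h2.2.1
    have he : cj g V = U := by
      apply L.eq_of_le_of_card_le hle
      rw [L.card_cj, OOT.IsPiHallOf.card_eq h1 h2]
    have hgM : g ∈ M := (Subgroup.commutator_le_self M) hg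
    refine ⟨cj g K, ?_, ?_, Or.inr ⟨hnI, ?_⟩⟩
    · have := dec_cj h g
      rwa [L.cj_eq_self_of_mem hgM, he] at this
    · rintro rfl
      apply hV
      rw [← L.cj_inv_cj g V, he, L.cj_bot]
    · intro hb
      apply hK
      rw [← L.cj_inv_cj g K, hb, L.cj_bot]

theorem dec_uniq_set {M K U : Subgroup G} (hM : IsCoatom M) (h : IsSigmaDecomposition M K U)
    (hF : fittingHallOf M = sigmaCore M) {X : Set G} (hX : X ⊆ (U : Set G) \ {1})
    (hXne : X.Nonempty) (hXc : fittingHallOf M ⊓ centralizer X ≠ ⊥) :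
    centralizer X ≤ M ∧ ∀ L : Subgroup G, IsCoatom L → centralizer X ≤ L → L = M := by
  rw [hF] at hXc
  have hcl : centralizer ((Subgroup.closure X : Subgroup G) : Set G) = centralizer X :=
    Subgroup.centralizer_closure X
  have h1 : Subgroup.closure X ≤ U := by
    rw [Subgroup.closure_le]
    exact fun x hx => (hX hx).1
  have h2 : Subgroup.closure X ≠ ⊥ := by
    intro h3
    obtain ⟨x, hx⟩ := hXne
    have h4 : x ∈ Subgroup.closure X := Subgroup.subset_closure hx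
    rw [h3, Subgroup.mem_bot] at h4
    exact (hX hx).2 h4
  have h3 := dec_uniq hG hM h h1 h2 (by rw [hcl]; exact hXc)
  rw [hcl] at h3
  exact h3

/-- weak form of S1390 (type I) -/
theorem row1390w {M : Subgroup G} (hM : IsCoatom M) (hW : WTypeI M) {U : Subgroup G}
    (hU : IsComplIn (fittingHallOf M) U M) :
    (∀ (p : ℕ), p.Prime → ∀ P : Sylow p U, IsMulCommutative (P : Subgroup U) ∧
      PRankLE p 2 (P : Subgroup U)) ∧
    (∀ X : Set G, X ⊆ (U : Set G) \ {1} → X.Nonempty → fittingHallOf M ⊓ centralizer X ≠ ⊥ →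
        centralizer X ≤ M ∧ ∀ L : Subgroup G, IsCoatom L → centralizer X ≤ L → L = M) := by
  obtain ⟨h, hU1⟩ := dec_of_wtypeI hG hM hW hU
  have hF := fh_eq_of_dec hG hM h (Or.inr rfl)
  exact ⟨fun p hp P => dec_sylow_U hG hM h p hp P, fun X hX hXne hXc =>
    dec_uniq_set hG hM h hF hX hXne hXc⟩

/-- S1390 -/
theorem row1390 {M U : Subgroup G} (hM : IsCoatom M)
    (hU : (IsOfTypeI M ∧ IsComplIn (fittingHallOf M) U M) ∨
      (IsOfTypeII M ∧ IsComplIn (fittingHallOf M) U ⁅M, M⁆)) :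
    (∀ (p : ℕ), p.Prime → ∀ P : Sylow p U, IsMulCommutative (P : Subgroup U) ∧
        PRankLE p 2 (P : Subgroup U)) ∧
      (∀ X : Set G, X ⊆ (U : Set G) \ {1} → X.Nonempty → fittingHallOf M ⊓ centralizer X ≠ ⊥ →
        centralizer X ≤ M ∧ ∀ L : Subgroup G, IsCoatom L → centralizer X ≤ L → L = M) ∧
      IsTISubset (typeA M \ typeA1 M) := by
  obtain ⟨K, h, hU1, hT⟩ := dec_of_type hG hM (hU.imp (fun h => ⟨WTypeI.of_typeI h.1, h.2⟩) id)
  have hF := fh_eq_of_dec hG hM h (Or.inl hU1)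
  refine ⟨fun p hp P => dec_sylow_U hG hM h p hp P, fun X hX hXne hXc =>
    dec_uniq_set hG hM h hF hX hXne hXc, ?_⟩
  have hA : typeA M = sigmaA M U \ {1} := by
    rcases hT with ⟨hI, hK⟩ | ⟨-, hK⟩
    · rcases hU with ⟨hI', -⟩ | ⟨hII, -⟩
      · rw [wA_eq hI', H14.TY.wA_eq_sigmaA hG hM h hK]
      · exact absurd hK ((H14.TY.typeII_iff hG hM h).1 hII).1
    · exact H14.TY.typeA_eq_sigmaA hG hM h hK
  rw [hA, H14.TY.typeA1_eq hG hM]
  have h1 := sigmaA_TI hG hM h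
  have h2 : (sigmaA M U \ {1}) \ ((sigmaCore M : Set G) \ {1}) =
      sigmaA M U \ (sigmaCore M : Set G) := by
    ext a
    constructor
    · rintro ⟨⟨h3, h4⟩, h5⟩
      exact ⟨h3, fun h6 => h5 ⟨h6, h4⟩⟩
    · rintro ⟨h3, h4⟩
      refine ⟨⟨h3, ?_⟩, fun h5 => h4 h5.1⟩
      rintro rfl
      exact h4 (sigmaCore M).one_mem
  rw [h2]
  exact h1

theorem wdichotomy {M K U : Subgroup G} (hM : IsCoatom M) (h : IsSigmaDecomposition M K U) :
    (WTypeI M ∧ K = ⊥) ∨ (¬ WTypeI M ∧ K ≠ ⊥) := by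
  by_cases hK : K = ⊥
  · left
    subst hK
    exact ⟨(H14.TY.typeI_iff hG hM h).2 ⟨rfl, U_ne_of_K hG hM h⟩, rfl⟩
  · right
    exact ⟨fun hI => hK ((H14.TY.typeI_iff hG hM h).1 hI).1, hK⟩

/-- the sets of `M` lie in `A₀(M)` of the standard factorisation: weak type I (`wA`) or type P -/
theorem wX_sub {M K U : Subgroup G} (hM : IsCoatom M) (h : IsSigmaDecomposition M K U) {X : Set G}
    (hX : (WTypeI M ∧ X = wA M) ∨ (¬ WTypeI M ∧ (X = typeA M ∨ X = typeA0 M))) :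
    X ⊆ sigmaA0 M K \ {1} := by
  rcases hX with ⟨hI, rfl⟩ | ⟨hI, hX⟩
  · obtain ⟨hK, -⟩ := (H14.TY.typeI_iff hG hM h).1 hI
    rw [H14.TY.wA_eq_sigmaA hG hM h hK]
    rintro a ⟨h1, h2⟩
    exact ⟨sigmaA_sub hG hM h h1, h2⟩
  · have hK : K ≠ ⊥ := by
      rcases wdichotomy hG hM h with ⟨h1, -⟩ | ⟨-, h1⟩
      · exact absurd h1 hI
      · exact h1
    rcases hX with rfl | rfl
    · rw [H14.TY.typeA_eq_sigmaA hG hM h hK]
      rintro a ⟨h1, h2⟩
      exact ⟨sigmaA_sub hG hM h h1, h2⟩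
    · rw [H14.TY.typeA0_eq_sigmaA0 hG hM h hK]

/-- S1391, weak form: `M` of weak type I and `X = wA M`, or `M` of type P and `X = A(M)` or
`A₀(M)` -/
theorem row1391w' {M : Subgroup G} (hM : IsCoatom M) {X : Set G}
    (hX : (WTypeI M ∧ X = wA M) ∨ (¬ WTypeI M ∧ (X = typeA M ∨ X = typeA0 M))) :
    (∀ x ∈ X, ∀ g : G, g * x * g⁻¹ ∈ X → ∃ m ∈ M, m * x * m⁻¹ = g * x * g⁻¹) ∧
    (∀ x ∈ X, ¬ centralizer ({x} : Set G) ≤ M →
      x ∈ typeA1 M ∧ ∃! L : Subgroup G, IsCoatom L ∧ centralizer ({x} : Set G) ≤ L) ∧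
    ∀ x ∈ X, ¬ centralizer ({x} : Set G) ≤ M → ∀ L : Subgroup G, IsCoatom L →
        centralizer ({x} : Set G) ≤ L →
        IsComplIn (fittingHallOf L) (M ⊓ L) L ∧
        centralizer ({x} : Set G) ≤
          normalizer ((fittingHallOf L ⊓ centralizer ({x} : Set G) : Subgroup G) : Set G) ∧
        IsComplIn (fittingHallOf L ⊓ centralizer ({x} : Set G)) (M ⊓ centralizer ({x} : Set G))
          (centralizer ({x} : Set G)) ∧
        (∀ y ∈ X, (Nat.card (fittingHallOf L)).Coprime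
          (Nat.card ↥(M ⊓ centralizer ({y} : Set G)))) ∧
        x ∉ typeA1 L ∧
        ((WTypeI L ∧ x ∈ wA L) ∨ (IsOfTypeII L ∧ x ∈ typeA L)) ∧
        (IsOfTypeII L → ∃ E : Subgroup ↥M, IsFrobeniusComplement E ∧
          frobeniusKernel E = ((fittingHall ↥M : Subgroup ↥M) : Set ↥M)) := by
  obtain ⟨K, U, h⟩ := exists_dec' hG hM
  have hX' := wX_sub hG hM h hX
  obtain ⟨h1, h2, h3⟩ := tame_all hG hM h hX'
  refine ⟨h1, ?_, ?_⟩
  · intro x hx hc
    obtain ⟨h4, h5⟩ := h2 x hx hc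
    refine ⟨?_, h5⟩
    rw [H14.TY.typeA1_eq hG hM]
    exact ⟨h4, (hX' hx).2⟩
  · intro x hx hc N hN hcN
    obtain ⟨hT, h4⟩ := h3 x hx hc N hN hcN
    obtain ⟨K', U', h'⟩ := exists_dec' hG hN
    have hU' := hT.U_ne K' U' h'
    have hd := wdichotomy hG hN h'
    have hx1 := (hX' hx).2
    refine ⟨hT.compl, hT.cnz, hT.ccompl, h4, ?_, ?_, ?_⟩
    · rw [H14.TY.typeA1_eq hG hN]
      exact fun h6 => hT.not_ms h6.1
    · rcases hd with ⟨h5, h6⟩ | ⟨-, h5⟩
      · left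
        refine ⟨h5, ?_⟩
        rw [H14.TY.wA_eq_sigmaA hG hN h' h6]
        exact ⟨hT.memA K' U' h', hx1⟩
      · right
        refine ⟨(H14.TY.typeII_iff hG hN h').2 ⟨h5, hU'⟩, ?_⟩
        rw [H14.TY.typeA_eq_sigmaA hG hN h' h5]
        exact ⟨hT.memA K' U' h', hx1⟩
    · intro hII
      refine hT.frob ?_
      rw [Set.nonempty_iff_ne_empty]
      intro h6
      have h7 := ((H14.TY.typeII_iff hG hN h').1 hII).1
      obtain ⟨Y, hY, hYp⟩ := exists_prime_sub h7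
      have := h'.hall.2.1 _ hYp (card_dvd_of_le hY)
      rw [h6] at this
      exact this

/-- weak form of S1391 for `X = A(M)`, `M` of weak type I -/
theorem row1391w {M : Subgroup G} (hM : IsCoatom M) (hW : WTypeI M) :
    (∀ x ∈ wA M, ∀ g : G, g * x * g⁻¹ ∈ wA M → ∃ m ∈ M, m * x * m⁻¹ = g * x * g⁻¹) ∧
    (∀ x ∈ wA M, ¬ centralizer ({x} : Set G) ≤ M →
      x ∈ typeA1 M ∧ ∃! L : Subgroup G, IsCoatom L ∧ centralizer ({x} : Set G) ≤ L) ∧
    ∀ x ∈ wA M, ¬ centralizer ({x} : Set G) ≤ M → ∀ L : Subgroup G, IsCoatom L →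
        centralizer ({x} : Set G) ≤ L →
        IsComplIn (fittingHallOf L) (M ⊓ L) L ∧
        centralizer ({x} : Set G) ≤
          normalizer ((fittingHallOf L ⊓ centralizer ({x} : Set G) : Subgroup G) : Set G) ∧
        IsComplIn (fittingHallOf L ⊓ centralizer ({x} : Set G)) (M ⊓ centralizer ({x} : Set G))
          (centralizer ({x} : Set G)) ∧
        (∀ y ∈ wA M, (Nat.card (fittingHallOf L)).Coprime
          (Nat.card ↥(M ⊓ centralizer ({y} : Set G)))) ∧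
        x ∉ typeA1 L ∧
        ((WTypeI L ∧ x ∈ wA L) ∨ (IsOfTypeII L ∧ x ∈ typeA L)) ∧
        (IsOfTypeII L → ∃ E : Subgroup ↥M, IsFrobeniusComplement E ∧
          frobeniusKernel E = ((fittingHall ↥M : Subgroup ↥M) : Set ↥M)) :=
  row1391w' hG hM (Or.inl ⟨hW, rfl⟩)

/-- S1391 (printed), assuming that weak type I is type I -/
theorem row1391_of (hw : ∀ L : Subgroup G, IsCoatom L → WTypeI L → IsOfTypeI L)
    {M : Subgroup G} (hM : IsCoatom M) {X : Set G}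
    (hX : X = typeA M ∨ X = typeA0 M) :
    (∀ x ∈ X, ∀ g : G, g * x * g⁻¹ ∈ X → ∃ m ∈ M, m * x * m⁻¹ = g * x * g⁻¹) ∧
      (∀ x ∈ X, ¬ centralizer ({x} : Set G) ≤ M → x ∈ typeA1 M ∧
        ∃! L : Subgroup G, IsCoatom L ∧ centralizer ({x} : Set G) ≤ L) ∧
      ∀ x ∈ X, ¬ centralizer ({x} : Set G) ≤ M → ∀ L : Subgroup G, IsCoatom L →
        centralizer ({x} : Set G) ≤ L →
        IsComplIn (fittingHallOf L) (M ⊓ L) L ∧
        centralizer ({x} : Set G) ≤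
          normalizer ((fittingHallOf L ⊓ centralizer ({x} : Set G) : Subgroup G) : Set G) ∧
        IsComplIn (fittingHallOf L ⊓ centralizer ({x} : Set G)) (M ⊓ centralizer ({x} : Set G))
          (centralizer ({x} : Set G)) ∧
        (∀ y ∈ X, (Nat.card (fittingHallOf L)).Coprime
          (Nat.card ↥(M ⊓ centralizer ({y} : Set G)))) ∧
        (x ∈ typeA L ∧ x ∉ typeA1 L) ∧
        (IsOfTypeI L ∨ IsOfTypeII L) ∧
        (IsOfTypeII L → ∃ E : Subgroup ↥M, IsFrobeniusComplement E ∧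
          frobeniusKernel E = ((fittingHall ↥M : Subgroup ↥M) : Set ↥M)) := by
  have hX' : (WTypeI M ∧ X = wA M) ∨ (¬ WTypeI M ∧ (X = typeA M ∨ X = typeA0 M)) := by
    by_cases hI : WTypeI M
    · left
      refine ⟨hI, ?_⟩
      have h1 := hw M hM hI
      rcases hX with rfl | rfl
      · exact wA_eq h1
      · rw [← wA_eq h1, typeA0]
        ext a
        constructor
        · rintro (h2 | ⟨h2, -⟩)
          · exact h2
          · exact absurd h1 h2
        · exact Or.inl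
    · exact Or.inr ⟨hI, hX⟩
  obtain ⟨h1, h2, h3⟩ := row1391w' hG hM hX'
  refine ⟨h1, h2, ?_⟩
  intro x hx hc N hN hcN
  obtain ⟨a1, a2, a3, a4, a5, a6, a7⟩ := h3 x hx hc N hN hcN
  refine ⟨a1, a2, a3, a4, ⟨?_, a5⟩, ?_, a7⟩
  · rcases a6 with ⟨h4, h5⟩ | ⟨-, h5⟩
    · rw [wA_eq (hw N hN h4)]; exact h5
    · exact h5
  · rcases a6 with ⟨h4, -⟩ | ⟨h4, -⟩
    · exact Or.inl (hw N hN h4)
    · exact Or.inr h4

end Cfsg.Agent.H21
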