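import Mathlib

set_option autoImplicit false
set_option linter.style.haveILetI false
set_option linter.unusedVariables false

/-!
Helper lemmas on primitive / extremely primitive permutation groups (helper21).
-/

namespace Cfsg.Agent.H21

open scoped Pointwise

/-- In a preprimitive action every invariant equivalence relation is trivial or universal. -/
theorem prim_equiv {G Ω : Type*} [Group G] [MulAction G Ω] (hprim : MulAction.IsPreprimitive G Ω)
    (r : Ω → Ω → Prop) (hr : Equivalence r) (hinv : ∀ (g : G) (x y : Ω), r x y → r (g • x) (g • y)) :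
    (∀ x y, r x y → x = y) ∨ (∀ x y, r x y) := by
  classical
  by_cases h : ∀ x y, r x y → x = y
  · exact Or.inl h
  · right
    push Not at h
    obtain ⟨x, y, hxy, hne⟩ := h
    have hB : MulAction.IsBlock G {z | r x z} := by
      rw [MulAction.isBlock_iff_smul_eq_of_mem]
      intro g a ha hga
      simp only [Set.mem_ofPred_eq] at ha hga
      -- r x a, r x (g a); r (g x) (g a)
      have h1 : r (g • x) (g • a) := hinv g _ _ ha
      have h2 : r x (g • x) := hr.trans hga (hr.symm h1)
      ext z
      simp only [Set.mem_smul_set, Set.mem_ofPred_eq]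
      constructor
      · rintro ⟨w, hw, rfl⟩
        exact hr.trans h2 (hinv g _ _ hw)
      · intro hz
        refine ⟨g⁻¹ • z, ?_, by simp⟩
        have h3 : r (g • x) z := hr.trans (hr.symm h2) hz
        have := hinv g⁻¹ _ _ h3
        simpa using this
    rcases hB.subsingleton_or_eq_univ with h' | h'
    · exact absurd (h' (hr.refl x) hxy) hne
    · have hall : ∀ z, r x z := fun z => by
        have : z ∈ {z | r x z} := by rw [h']; trivial
        exact this
      intro a b
      exact hr.trans (hr.symm (hall a)) (hall b)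

/-- A normal subgroup of a group acting preprimitively is transitive or fixes everything. -/
theorem prim_normal {G Ω : Type*} [Group G] [MulAction G Ω] (hprim : MulAction.IsPreprimitive G Ω)
    (N : Subgroup G) [N.Normal] : (∀ n ∈ N, ∀ x : Ω, n • x = x) ∨ (∀ x y : Ω, ∃ n ∈ N, n • x = y) := by
  rcases prim_equiv hprim (fun x y => ∃ n ∈ N, n • x = y)
    ⟨fun x => ⟨1, N.one_mem, one_smul _ _⟩, fun {x y} ⟨n, hn, h⟩ => ⟨n⁻¹, N.inv_mem hn, by rw [← h]; simp⟩,
      fun {x y z} ⟨n, hn, h⟩ ⟨m, hm, h'⟩ => ⟨m * n, N.mul_mem hm hn, by rw [mul_smul, h, h']⟩⟩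
    (fun g x y ⟨n, hn, h⟩ => ⟨g * n * g⁻¹, ‹N.Normal›.conj_mem n hn g, by rw [← h]; simp [mul_smul]⟩) with h | h
  · left
    intro n hn x
    exact (h x (n • x) ⟨n, hn, rfl⟩).symm
  · right; exact h

/-- Manning's theorem: in an extremely primitive group the point stabiliser is faithful on each
non-trivial suborbit. -/
theorem manning {G : Type*} [Group G] [Finite G] {Ω : Type*} [Finite Ω] [MulAction G Ω] [FaithfulSMul G Ω]
    (hprim : MulAction.IsPreprimitive G Ω)
    (hep : ∀ (α : Ω) (ω : Ω), MulAction.IsPreprimitive (MulAction.stabilizer G α) (MulAction.orbit (MulAction.stabilizer G α) ω))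
    (α ω : Ω) (hω : ω ≠ α) (h : MulAction.stabilizer G α)
    (hfix : ∀ x ∈ MulAction.orbit (MulAction.stabilizer G α) ω, h • x = x) : h = 1 := by
  classical
  haveI := Fintype.ofFinite Ω
  -- the orbital relation
  let R : Ω → Ω → Prop := fun a b => ∃ g : G, g • α = a ∧ g • ω = b
  have Rinv : ∀ (g : G) (a b : Ω), R a b → R (g • a) (g • b) := by
    rintro g a b ⟨k, rfl, rfl⟩
    exact ⟨g * k, by rw [mul_smul], by rw [mul_smul]⟩
  have Rirr : ∀ a, ¬ R a a := by
    rintro a ⟨k, h1, h2⟩
    exact hω (MulAction.injective k (h2.trans h1.symm))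
  have Rα : ∀ b, R α b ↔ b ∈ MulAction.orbit (MulAction.stabilizer G α) ω := by
    intro b
    constructor
    · rintro ⟨g, h1, h2⟩
      exact ⟨⟨g, h1⟩, h2⟩
    · rintro ⟨⟨g, h1⟩, h2⟩
      exact ⟨g, h1, h2⟩
  -- K a
  let K : Ω → Subgroup G := fun a =>
    { carrier := {g | g • a = a ∧ ∀ b, R a b → g • b = b}
      one_mem' := ⟨one_smul _ _, fun b _ => one_smul _ _⟩
      mul_mem' := by
        rintro x y ⟨hx, hx'⟩ ⟨hy, hy'⟩
        exact ⟨by rw [mul_smul, hy, hx], fun b hb => by rw [mul_smul, hy' b hb, hx' b hb]⟩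
      inv_mem' := by
        rintro x ⟨hx, hx'⟩
        exact ⟨by rw [inv_smul_eq_iff, hx], fun b hb => by rw [inv_smul_eq_iff, hx' b hb]⟩ }
  have memK : ∀ a g, g ∈ K a ↔ (g • a = a ∧ ∀ b, R a b → g • b = b) := fun a g => Iff.rfl
  have Kconj : ∀ (g : G) (a : Ω) (x : G), x ∈ K a → g * x * g⁻¹ ∈ K (g • a) := by
    rintro g a x ⟨hx, hx'⟩
    refine ⟨by simp [mul_smul, hx], fun b hb => ?_⟩
    have := Rinv g⁻¹ _ _ hb
    rw [inv_smul_smul] at this
    rw [mul_smul, mul_smul, hx' _ this]; simp
  by_contra hne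
  have hK1 : (h : G) ∈ K α := by
    refine ⟨h.2, fun b hb => ?_⟩
    exact hfix b ((Rα b).mp hb)
  have hhne : (h : G) ≠ 1 := fun h1 => hne (Subtype.ext h1)
  -- Claim 1: K injective
  have Kinj : ∀ x y, K x = K y → x = y := by
    rcases prim_equiv hprim (fun x y => K x = K y) ⟨fun x => rfl, fun h => h.symm, fun h h' => h.trans h'⟩
      (fun g x y hxy => by
        have key : ∀ (z w : Ω), K z = K w → K (g • z) ≤ K (g • w) := by
          intro z w hzw t ht
          have h1 := Kconj g⁻¹ _ _ ht
          rw [inv_smul_smul, hzw] at h1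
          have h2 := Kconj g _ _ h1
          have h3 : g * (g⁻¹ * t * g⁻¹⁻¹) * g⁻¹ = t := by group
          rwa [h3] at h2
        exact le_antisymm (key x y hxy) (key y x hxy.symm)) with h' | h'
    · exact h'
    · exfalso
      apply hhne
      apply FaithfulSMul.eq_of_smul_eq_smul (α := Ω)
      intro x
      have : (h : G) ∈ K x := by rw [← h' α x]; exact hK1
      rw [one_smul]; exact this.1
  -- cardinalities of K
  have Kcard : ∀ x y, K x ≤ K y → K x = K y := by
    intro x y hle
    apply Subgroup.eq_of_le_of_card_ge hle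
    obtain ⟨g, rfl⟩ := hprim.exists_smul_eq x y
    let φ : K (g • x) → K x := fun t => ⟨g⁻¹ * t * g⁻¹⁻¹, by
      have h1 := Kconj g⁻¹ _ _ t.2
      rwa [inv_smul_smul] at h1⟩
    apply Nat.card_le_card_of_injective φ
    intro s t hst
    have h1 := congrArg Subtype.val hst
    simp only [φ] at h1
    have h2 := mul_left_cancel (mul_right_cancel h1)
    exact Subtype.ext h2
  -- pick β = ω ∈ Δ(α)
  have hRαω : R α ω := ⟨1, one_smul _ _, one_smul _ _⟩
  have hKω : ¬ (K α ≤ K ω) := by
    intro hle
    have := Kinj _ _ (Kcard _ _ hle)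
    exact hω this.symm
  obtain ⟨k, hkα, hkω⟩ := SetLike.not_le_iff_exists.mp hKω
  have hkfix : k • ω = ω := hkα.2 ω hRαω
  have : ∃ γ, R ω γ ∧ k • γ ≠ γ := by
    by_contra hcon
    push Not at hcon
    exact hkω ⟨hkfix, hcon⟩
  obtain ⟨γ, hγ, hkγ⟩ := this
  -- K α transitive on orbit of γ
  let K' : Subgroup (MulAction.stabilizer G α) := (K α).subgroupOf (MulAction.stabilizer G α)
  haveI hK'n : K'.Normal := by
    constructor
    rintro ⟨x, hxs⟩ hx ⟨g, hg⟩
    rw [Subgroup.mem_subgroupOf] at hx ⊢
    have h1 := Kconj g _ _ hx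
    have hg' : g • α = α := hg
    rw [hg'] at h1
    exact h1
  have hktr : ∀ δ ∈ MulAction.orbit (MulAction.stabilizer G α) γ, ∃ t ∈ K α, t • γ = δ := by
    intro δ hδ
    rcases prim_normal (hep α γ) K' with h' | h'
    · exfalso
      apply hkγ
      have := h' ⟨k, hkα.1⟩ (Subgroup.mem_subgroupOf.mpr hkα) ⟨γ, MulAction.mem_orbit_self γ⟩
      exact congrArg Subtype.val this
    · obtain ⟨n, hn, hn'⟩ := h' ⟨γ, MulAction.mem_orbit_self γ⟩ ⟨δ, hδ⟩
      refine ⟨n, hn, ?_⟩
      exact congrArg Subtype.val hn'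
  -- all of Δ(α) is contained in in-neighbourhoods of points in the orbit of γ
  have hin : ∀ b, R α b → ∀ δ ∈ MulAction.orbit (MulAction.stabilizer G α) γ, R b δ := by
    intro b hb δ hδ
    obtain ⟨g, hg⟩ := (Rα b).mp hb
    -- b = g • ω
    have hgδ : g⁻¹ • δ ∈ MulAction.orbit (MulAction.stabilizer G α) γ := by
      obtain ⟨s, hs⟩ := hδ
      refine ⟨g⁻¹ * s, ?_⟩
      show (g⁻¹ * s) • γ = g⁻¹ • δ
      rw [mul_smul]; exact congrArg _ hs
    obtain ⟨t, ht, htγ⟩ := hktr _ hgδ
    have h1 : R ω (g⁻¹ • δ) := by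
      have := Rinv t _ _ hγ
      rw [ht.2 ω hRαω, htγ] at this
      exact this
    have h2 := Rinv (g : G) _ _ h1
    have h3 : (g : G) • ω = b := hg
    have h4 : (g : G) • (g⁻¹ • δ) = δ := smul_inv_smul g δ
    rw [h3, h4] at h2
    exact h2
  -- counting
  let out : Ω → Finset Ω := fun a => Finset.univ.filter (fun b => R a b)
  let inn : Ω → Finset Ω := fun a => Finset.univ.filter (fun b => R b a)
  have hout : ∀ x y, (out x).card = (out y).card := by
    intro x y
    obtain ⟨g, rfl⟩ := hprim.exists_smul_eq x y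
    apply Finset.card_bij (fun b _ => g • b)
    · intro b hb
      simp only [out, Finset.mem_filter, Finset.mem_univ, true_and] at hb ⊢
      exact Rinv g _ _ hb
    · intro a _ b _ hab; exact MulAction.injective g hab
    · intro b hb
      simp only [out, Finset.mem_filter, Finset.mem_univ, true_and] at hb ⊢
      refine ⟨g⁻¹ • b, ?_, by simp⟩
      have := Rinv g⁻¹ _ _ hb
      rwa [inv_smul_smul] at this
  have hinn : ∀ x y, (inn x).card = (inn y).card := by
    intro x y
    obtain ⟨g, rfl⟩ := hprim.exists_smul_eq x y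
    apply Finset.card_bij (fun b _ => g • b)
    · intro b hb
      simp only [inn, Finset.mem_filter, Finset.mem_univ, true_and] at hb ⊢
      exact Rinv g _ _ hb
    · intro a _ b _ hab; exact MulAction.injective g hab
    · intro b hb
      simp only [inn, Finset.mem_filter, Finset.mem_univ, true_and] at hb ⊢
      refine ⟨g⁻¹ • b, ?_, by simp⟩
      have := Rinv g⁻¹ _ _ hb
      rwa [inv_smul_smul] at this
  have hcount : ∑ a, (out a).card = ∑ a, (inn a).card := by
    simp only [out, inn, Finset.card_filter]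
    rw [Finset.sum_comm]
  have hio : ∀ x y, (inn x).card = (out y).card := by
    intro x y
    rw [Finset.sum_congr rfl (fun a _ => hout a y), Finset.sum_congr rfl (fun a _ => hinn a x)] at hcount
    rw [Finset.sum_const, Finset.sum_const, smul_eq_mul, smul_eq_mul] at hcount
    have hpos : 0 < (Finset.univ : Finset Ω).card := Finset.card_pos.mpr ⟨α, Finset.mem_univ _⟩
    exact (Nat.eq_of_mul_eq_mul_left hpos hcount).symm
  have heq : ∀ δ ∈ MulAction.orbit (MulAction.stabilizer G α) γ, out α = inn δ := by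
    intro δ hδ
    apply Finset.eq_of_subset_of_card_le
    · intro b hb
      simp only [out, inn, Finset.mem_filter, Finset.mem_univ, true_and] at hb ⊢
      exact hin b hb δ hδ
    · rw [hio δ α]
  -- the equivalence relation
  have heqv : ∀ x y, inn x = inn y → x = y := by
    rcases prim_equiv hprim (fun x y => inn x = inn y) ⟨fun x => rfl, fun h => h.symm, fun h h' => h.trans h'⟩
      (fun g x y hxy => by
        ext b
        have h1 : ∀ z, b ∈ inn (g • z) ↔ g⁻¹ • b ∈ inn z := by
          intro z
          simp only [inn, Finset.mem_filter, Finset.mem_univ, true_and]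
          constructor
          · intro hb
            have := Rinv g⁻¹ _ _ hb
            rwa [inv_smul_smul] at this
          · intro hb
            have := Rinv g _ _ hb
            rwa [smul_inv_smul] at this
        rw [h1, h1, hxy]) with h' | h'
    · exact h'
    · exfalso
      have h1 : inn γ = inn ω := h' γ ω
      have h2 : ω ∈ inn γ := by
        simp only [inn, Finset.mem_filter, Finset.mem_univ, true_and]; exact hγ
      rw [h1] at h2
      simp only [inn, Finset.mem_filter, Finset.mem_univ, true_and] at h2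
      exact Rirr _ h2
  apply hkγ
  apply heqv
  rw [← heq _ (MulAction.mem_orbit_self γ), ← heq (k • γ) ⟨⟨k, hkα.1⟩, rfl⟩]

end Cfsg.Agent.H21
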