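import Mathlib

set_option autoImplicit false
set_option linter.unusedVariables false
set_option linter.style.haveILetI false

/-! Sylow 2-subgroups of the alternating group of degree 8 are self-normalizing. -/

namespace Cfsg.Agent.H21.SA

open Subgroup Equiv

def r2 (a b : Fin 8) : Prop := a.val / 2 = b.val / 2
def r4 (a b : Fin 8) : Prop := a.val / 4 = b.val / 4
instance (a b : Fin 8) : Decidable (r2 a b) := by unfold r2; infer_instance
instance (a b : Fin 8) : Decidable (r4 a b) := by unfold r4; infer_instance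

/-- automorphisms of the tree -/
def PT : Subgroup (Perm (Fin 8)) where
  carrier := {σ | (∀ a b, r2 (σ a) (σ b) ↔ r2 a b) ∧ (∀ a b, r4 (σ a) (σ b) ↔ r4 a b)}
  one_mem' := ⟨fun _ _ => Iff.rfl, fun _ _ => Iff.rfl⟩
  mul_mem' := by
    rintro σ τ ⟨h1, h2⟩ ⟨h3, h4⟩
    exact ⟨fun a b => (h1 _ _).trans (h3 a b), fun a b => (h2 _ _).trans (h4 a b)⟩
  inv_mem' := by
    rintro σ ⟨h1, h2⟩
    refine ⟨fun a b => ?_, fun a b => ?_⟩
    · rw [← h1]; simp
    · rw [← h2]; simp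

theorem c4 : ∀ a b c : Fin 8, ¬ r4 b a → ¬ r4 c b → r4 c a := by decide +kernel
theorem c2 : ∀ a b c : Fin 8, r4 b a → r4 c b → ¬ r2 b a → ¬ r2 c b → r2 c a := by decide +kernel
theorem c1 : ∀ a b c : Fin 8, r2 b a → r2 c b → b ≠ a → c ≠ b → c = a := by decide +kernel

theorem pow8 {σ : Perm (Fin 8)} (h : σ ∈ PT) : σ ^ 8 = 1 := by
  obtain ⟨h2, h4⟩ := h
  have s1 : ∀ a, r4 (σ (σ a)) a := by
    intro a
    by_cases h : r4 (σ a) a
    · have := (h4 (σ a) a).2 h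
      unfold r4 at *
      omega
    · exact c4 a (σ a) _ h (fun hh => h ((h4 (σ a) a).1 hh))
  have hy2 : ∀ a b, r2 (σ (σ a)) (σ (σ b)) ↔ r2 a b := fun a b => (h2 _ _).trans (h2 _ _)
  have s2 : ∀ a, r2 (σ (σ (σ (σ a)))) a := by
    intro a
    by_cases h : r2 (σ (σ a)) a
    · have := (hy2 (σ (σ a)) a).2 h
      unfold r2 at *
      omega
    · exact c2 a (σ (σ a)) _ (s1 a) (s1 _) h (fun hh => h ((hy2 _ a).1 hh))
  ext a
  have s3 : σ (σ (σ (σ (σ (σ (σ (σ a))))))) = a := by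
    by_cases h : σ (σ (σ (σ a))) = a
    · rw [h, h]
    · exact c1 a _ _ (s2 a) (s2 _) h (fun hh => h (σ.injective (σ.injective (σ.injective (σ.injective hh)))))
  have : (σ ^ 8) a = a := by
    simpa [pow_succ, Perm.mul_apply] using s3
  rw [this]; rfl

abbrev A8 := alternatingGroup (Fin 8)

def T0 : Subgroup A8 := PT.subgroupOf (alternatingGroup (Fin 8))

theorem T0_two : IsPGroup 2 T0 := by
  intro x
  refine ⟨3, ?_⟩
  apply Subtype.ext
  apply Subtype.ext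
  have := pow8 (mem_subgroupOf.1 x.2)
  exact this

def gen (x : Fin 2 × Fin 2 × Fin 2 × Fin 2 × Fin 2 × Fin 2) : Perm (Fin 8) :=
  swap 0 1 ^ (x.1 : ℕ) * swap 2 3 ^ (x.2.1 : ℕ) * swap 4 5 ^ (x.2.2.1 : ℕ) * swap 6 7 ^ ((x.1 : ℕ) + x.2.1 + x.2.2.1) *
    (swap 0 2 * swap 1 3) ^ (x.2.2.2.1 : ℕ) * (swap 4 6 * swap 5 7) ^ (x.2.2.2.2.1 : ℕ) *
    (swap 0 4 * swap 1 5 * swap 2 6 * swap 3 7) ^ (x.2.2.2.2.2 : ℕ)

theorem gen_sign (x : Fin 2 × Fin 2 × Fin 2 × Fin 2 × Fin 2 × Fin 2) : gen x ∈ alternatingGroup (Fin 8) := by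
  rw [Perm.mem_alternatingGroup, gen]
  simp only [map_mul, map_pow]
  rw [Perm.sign_swap (by decide), Perm.sign_swap (by decide), Perm.sign_swap (by decide), Perm.sign_swap (by decide),
    Perm.sign_swap (by decide), Perm.sign_swap (by decide), Perm.sign_swap (by decide), Perm.sign_swap (by decide),
    Perm.sign_swap (by decide), Perm.sign_swap (by decide), Perm.sign_swap (by decide), Perm.sign_swap (by decide)]
  revert x
  decide +kernel

theorem gen_mem : ∀ x : Fin 2 × Fin 2 × Fin 2 × Fin 2 × Fin 2 × Fin 2, (∀ a b, r2 (gen x a) (gen x b) ↔ r2 a b) ∧ (∀ a b, r4 (gen x a) (gen x b) ↔ r4 a b) := by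
  decide +kernel

theorem gen_inj : ∀ x y : Fin 2 × Fin 2 × Fin 2 × Fin 2 × Fin 2 × Fin 2, (∀ a, gen x a = gen y a) → x = y := by
  decide +kernel

theorem card_A8 : Nat.card A8 = 20160 := by
  rw [nat_card_alternatingGroup]
  simp [Nat.factorial]

end Cfsg.Agent.H21.SA
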