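import Cfsg.Agent.H21.SA1

set_option autoImplicit false
set_option linter.unusedVariables false
set_option linter.style.haveILetI false

/-! Sylow 2-subgroups of the alternating group of degree 8 are self-normalizing. -/

namespace Cfsg.Agent.H21.SA

open Subgroup Equiv

theorem w2 : ∀ a b : Fin 8, ¬ r2 a b → ∃ x, gen x a = a ∧ gen x b ≠ b := by decide +kernel
theorem w4 : ∀ a b b' : Fin 8, ¬ r4 a b → ∃ x, gen x a = a ∧ gen x b ≠ b ∧ gen x b ≠ b' := by decide +kernel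
theorem p2 : ∀ a b c : Fin 8, r2 a b → r2 a c → c ≠ a → b ≠ a → c = b := by decide +kernel
theorem p4 : ∀ a b : Fin 8, r4 a b → ¬ r2 a b → ∃ b', ∀ c : Fin 8, r4 a c → ¬ r2 a c → c = b ∨ c = b' := by decide +kernel

theorem iaa (σ : Perm (Fin 8)) (a : Fin 8) : σ⁻¹ (σ a) = a := σ.symm_apply_apply a

def g0 (x : Fin 2 × Fin 2 × Fin 2 × Fin 2 × Fin 2 × Fin 2) : A8 := ⟨gen x, gen_sign x⟩

theorem g0_mem (x : Fin 2 × Fin 2 × Fin 2 × Fin 2 × Fin 2 × Fin 2) : g0 x ∈ T0 := mem_subgroupOf.2 (gen_mem x)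

theorem R2_iff (a b : Fin 8) : r2 a b ↔ ∀ s ∈ T0, (s : Perm (Fin 8)) a = a → (s : Perm (Fin 8)) b = b := by
  constructor
  · intro h s hs ha
    obtain ⟨h2, h4⟩ := mem_subgroupOf.1 hs
    by_cases hb : b = a
    · rw [hb, ha]
    · have h3 : r2 a ((s : Perm (Fin 8)) b) := by
        have := (h2 a b).2 h
        rwa [ha] at this
      have h5 : (s : Perm (Fin 8)) b ≠ a := by
        intro hh
        apply hb
        apply (s : Perm (Fin 8)).injective
        rw [hh, ha]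
      exact p2 a b _ h h3 h5 hb
  · intro h
    by_contra hn
    obtain ⟨x, hx1, hx2⟩ := w2 a b hn
    exact hx2 (h (g0 x) (g0_mem x) hx1)

theorem R4_iff (a b : Fin 8) : r4 a b ↔ ∃ b', ∀ s ∈ T0, (s : Perm (Fin 8)) a = a → (s : Perm (Fin 8)) b = b ∨ (s : Perm (Fin 8)) b = b' := by
  constructor
  · intro h
    by_cases hr : r2 a b
    · exact ⟨b, fun s hs ha => Or.inl ((R2_iff a b).1 hr s hs ha)⟩
    · obtain ⟨b', hb'⟩ := p4 a b h hr
      refine ⟨b', fun s hs ha => ?_⟩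
      obtain ⟨h2, h4⟩ := mem_subgroupOf.1 hs
      apply hb'
      · have := (h4 a b).2 h
        rwa [ha] at this
      · intro hh
        apply hr
        rw [← h2, ha]
        exact hh
  · rintro ⟨b', hb'⟩
    by_contra hn
    obtain ⟨x, hx1, hx2, hx3⟩ := w4 a b b' hn
    rcases hb' (g0 x) (g0_mem x) hx1 with h | h
    · exact hx2 h
    · exact hx3 h

theorem norm_T0 : normalizer (T0 : Set A8) ≤ T0 := by
  intro σ hσ
  have hn := mem_normalizer_iff.1 hσ
  apply mem_subgroupOf.2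
  have key : ∀ s : A8, s ∈ T0 → σ⁻¹ * s * σ ∈ T0 := by
    intro s hs
    rw [hn]
    have : σ * (σ⁻¹ * s * σ) * σ⁻¹ = s := by group
    rwa [this]
  have e1 : ∀ (s : A8) (a : Fin 8), ((σ⁻¹ * s * σ : A8) : Perm (Fin 8)) a = (σ : Perm (Fin 8))⁻¹ ((s : Perm (Fin 8)) ((σ : Perm (Fin 8)) a)) := fun s a => rfl
  have e2 : ∀ (s : A8) (a : Fin 8), ((σ * s * σ⁻¹ : A8) : Perm (Fin 8)) ((σ : Perm (Fin 8)) a) = (σ : Perm (Fin 8)) ((s : Perm (Fin 8)) a) := by
    intro s a
    show (σ : Perm (Fin 8)) ((s : Perm (Fin 8)) ((σ : Perm (Fin 8))⁻¹ ((σ : Perm (Fin 8)) a))) = _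
    rw [iaa]
  have i1 : ∀ x y : Fin 8, (σ : Perm (Fin 8)) x = (σ : Perm (Fin 8)) y ↔ x = y := fun x y => (σ : Perm (Fin 8)).injective.eq_iff
  refine ⟨fun a b => ?_, fun a b => ?_⟩
  · rw [R2_iff, R2_iff]
    constructor
    · intro h s hs ha
      have h1 := h (σ * s * σ⁻¹) ((hn s).1 hs) (by rw [e2, ha])
      rw [e2] at h1
      exact (i1 _ _).1 h1
    · intro h s hs ha
      have h1 := h (σ⁻¹ * s * σ) (key s hs) (by rw [e1, ha, iaa])
      rw [e1, Perm.inv_eq_iff_eq] at h1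
      exact h1
  · rw [R4_iff, R4_iff]
    constructor
    · rintro ⟨b', h⟩
      refine ⟨(σ : Perm (Fin 8))⁻¹ b', fun s hs ha => ?_⟩
      have h1 := h (σ * s * σ⁻¹) ((hn s).1 hs) (by rw [e2, ha])
      rw [e2] at h1
      rcases h1 with h1 | h1
      · left; exact (i1 _ _).1 h1
      · right; rw [← h1, iaa]
    · rintro ⟨b', h⟩
      refine ⟨(σ : Perm (Fin 8)) b', fun s hs ha => ?_⟩
      have h1 := h (σ⁻¹ * s * σ) (key s hs) (by rw [e1, ha, iaa])
      rw [e1, Perm.inv_eq_iff_eq, Perm.inv_eq_iff_eq] at h1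
      exact h1

theorem card_T0 : 64 ≤ Nat.card T0 := by
  have h1 : Nat.card (Fin 2 × Fin 2 × Fin 2 × Fin 2 × Fin 2 × Fin 2) = 64 := by simp
  rw [← h1]
  apply Nat.card_le_card_of_injective (fun x => (⟨g0 x, g0_mem x⟩ : T0))
  intro x y hxy
  apply gen_inj
  intro a
  have : gen x = gen y := congrArg (fun z : T0 => ((z : A8) : Perm (Fin 8))) hxy
  rw [this]

theorem sylow_self (P : Sylow 2 A8) : normalizer ((P : Subgroup A8) : Set A8) ≤ (P : Subgroup A8) := by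
  haveI : Fact (Nat.Prime 2) := ⟨by norm_num⟩
  obtain ⟨Q, hQ⟩ := T0_two.exists_le_sylow
  have hcQ : Nat.card (Q : Subgroup A8) ≤ 64 := by
    obtain ⟨k, hk⟩ := IsPGroup.iff_card.1 Q.isPGroup'
    have h1 : Nat.card (Q : Subgroup A8) ∣ 20160 := by
      rw [← card_A8]; exact card_subgroup_dvd_card _
    rw [hk] at h1 ⊢
    by_contra hc
    have h2 : 7 ≤ k := by
      by_contra hk7
      have : 2 ^ k ≤ 2 ^ 6 := Nat.pow_le_pow_right (by norm_num) (by omega)
      omega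
    have h3 : 2 ^ 7 ∣ 20160 := (pow_dvd_pow 2 h2).trans h1
    revert h3; decide
  have hQT : T0 = (Q : Subgroup A8) := eq_of_le_of_card_ge hQ (hcQ.trans card_T0)
  have hQn : normalizer ((Q : Subgroup A8) : Set A8) ≤ (Q : Subgroup A8) := by
    rw [← hQT]; exact norm_T0
  obtain ⟨g, hg⟩ := MulAction.exists_smul_eq A8 Q P
  have hmem : ∀ x : A8, x ∈ (P : Subgroup A8) ↔ g⁻¹ * x * g ∈ (Q : Subgroup A8) := by
    intro x
    rw [← hg, Sylow.coe_subgroup_smul, mem_smul_pointwise_iff_exists]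
    constructor
    · rintro ⟨y, hy, hyx⟩
      have : g * y * g⁻¹ = x := hyx
      rw [← this]
      have e : g⁻¹ * (g * y * g⁻¹) * g = y := by group
      rwa [e]
    · intro h
      exact ⟨_, h, by show g * (g⁻¹ * x * g) * g⁻¹ = x; group⟩
  intro x hx
  have hx' := mem_normalizer_iff.1 hx
  rw [hmem]
  apply hQn
  rw [mem_normalizer_iff]
  intro y
  have e1 : y ∈ (Q : Subgroup A8) ↔ g * y * g⁻¹ ∈ (P : Subgroup A8) := by
    rw [hmem]
    have e : g⁻¹ * (g * y * g⁻¹) * g = y := by group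
    rw [e]
  rw [e1, hx', hmem]
  have e2 : g⁻¹ * (x * (g * y * g⁻¹) * x⁻¹) * g = g⁻¹ * x * g * y * (g⁻¹ * x * g)⁻¹ := by group
  rw [e2]

/-- pulling back self-normalization along a surjection with a 2-group as kernel -/
theorem pull {H A : Type*} [Group H] [Finite H] [Group A] (f : H →* A) (hf : Function.Surjective f)
    (hk : ∀ x : H, f x = 1 → x * x = 1) (hA : ∀ P : Sylow 2 A, normalizer ((P : Subgroup A) : Set A) ≤ (P : Subgroup A))
    (P : Sylow 2 H) : f.ker ≤ (P : Subgroup H) ∧ normalizer ((P : Subgroup H) : Set H) ≤ (P : Subgroup H) := by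
  haveI : Fact (Nat.Prime 2) := ⟨by norm_num⟩
  have hkp : IsPGroup 2 f.ker := by
    intro x
    refine ⟨1, ?_⟩
    apply Subtype.ext
    have := hk x x.2
    show (x : H) ^ (2 ^ 1) = 1
    rw [pow_one, pow_two]; exact this
  have hkP : f.ker ≤ (P : Subgroup H) := hkp.le_sylow_of_normal P
  refine ⟨hkP, ?_⟩
  intro x hx
  have h1 : f x ∈ normalizer (((P.mapSurjective hf : Sylow 2 A) : Subgroup A) : Set A) := by
    rw [mem_normalizer_iff]
    intro y
    rw [Sylow.coe_mapSurjective]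
    have hx' := mem_normalizer_iff.1 hx
    constructor
    · rintro ⟨z, hz, rfl⟩
      exact ⟨x * z * x⁻¹, (hx' z).1 hz, by rw [map_mul, map_mul, map_inv]⟩
    · rintro ⟨z, hz, hz2⟩
      refine ⟨x⁻¹ * z * x, (hx' _).2 ?_, ?_⟩
      · have : x * (x⁻¹ * z * x) * x⁻¹ = z := by group
        rwa [this]
      · rw [map_mul, map_mul, map_inv, hz2]; group
  have h2 := hA _ h1
  rw [Sylow.coe_mapSurjective] at h2
  obtain ⟨z, hz, hz2⟩ := h2
  have h3 : x * z⁻¹ ∈ f.ker := by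
    rw [MonoidHom.mem_ker, map_mul, map_inv, hz2, mul_inv_cancel]
  have h4 := mul_mem (hkP h3) hz
  have : x * z⁻¹ * z = x := by group
  rwa [this] at h4

end Cfsg.Agent.H21.SA
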