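import Cfsg.Agent.H21.SA2
import Cfsg.Agent.H29.OctStab
import Cfsg.Agent.S0381

set_option autoImplicit false
set_option linter.unusedVariables false
set_option linter.style.haveILetI false

/-! Sylow 2-subgroups of the Mathieu group of degree 24 are self-normalizing. -/

namespace Cfsg.Agent.H21.SA

open Subgroup MulAction Cfsg Cfsg.Agent.H7 Cfsg.Agent.H29
open scoped Pointwise

/-- a Sylow 2-subgroup fixes an octad -/
theorem fix_octad (S : Sylow 2 ↥M24) : ∃ o ∈ octads, ∀ s ∈ (S : Subgroup ↥M24), (s : Equiv.Perm GolayPt) • o = o := by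
  haveI : Fact (Nat.Prime 2) := ⟨by norm_num⟩
  have hne : octads.Nonempty := by
    rw [← Set.ncard_pos (Set.toFinite _), octads_ncard]; norm_num
  obtain ⟨o0, ho0⟩ := hne
  have hX : orbit ↥M24 o0 = octads := by
    ext o
    constructor
    · rintro ⟨g, rfl⟩
      exact M24_smul_octad g.2 ho0
    · intro ho
      obtain ⟨σ, hσ, h⟩ := octad_transitive ho0 ho
      exact ⟨⟨σ, hσ⟩, h⟩
  have hc : ¬ 2 ∣ Nat.card (orbit ↥M24 o0) := by
    rw [Nat.card_coe_set_eq, hX, octads_ncard]
    norm_num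
  obtain ⟨⟨o, ho⟩, hfix⟩ := (S.isPGroup').nonempty_fixed_point_of_prime_not_dvd_card (orbit ↥M24 o0) hc
  refine ⟨o, hX ▸ ho, fun s hs => ?_⟩
  have := hfix ⟨s, hs⟩
  exact congrArg Subtype.val this

theorem card_compl_octad {o o' : Finset GolayPt} (ho : o ∈ octads) (ho' : o' ∈ octads) : ∃ q, q ∉ o ∧ q ∉ o' := by
  by_contra hc
  push Not at hc
  have h1 : (Finset.univ : Finset GolayPt) ⊆ o ∪ o' := by
    intro q _
    rw [Finset.mem_union]
    by_cases h : q ∈ o
    · exact Or.inl h
    · exact Or.inr (hc q h)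
  have h2 := Finset.card_le_card h1
  have h3 := Finset.card_union_le o o'
  rw [(mem_octads.1 ho).2, (mem_octads.1 ho').2] at h3
  have h4 : (Finset.univ : Finset GolayPt).card = 24 := by decide
  omega

theorem main (S : Sylow 2 ↥M24) : normalizer ((S : Subgroup ↥M24) : Set ↥M24) = (S : Subgroup ↥M24) := by
  haveI : Fact (Nat.Prime 2) := ⟨by norm_num⟩
  apply le_antisymm _ le_normalizer
  obtain ⟨o, ho, hfix⟩ := fix_octad S
  have hHM : HO o ≤ M24 := fun σ h => (mem_HO.1 h).1
  let H' : Subgroup ↥M24 := (HO o).subgroupOf M24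
  have hS : (S : Subgroup ↥M24) ≤ H' := fun s hs => mem_subgroupOf.2 (mem_HO.2 ⟨s.2, hfix s hs⟩)
  have hc : Fintype.card o = Fintype.card (Fin 8) := by
    rw [Fintype.card_coe, (mem_octads.1 ho).2, Fintype.card_fin]
  let f1 : H' ≃* HO o := subgroupOfEquivOfLe hHM
  let f2 : HO o →* (resO o).range := (resO o).rangeRestrict
  let f3 : (resO o).range ≃* alternatingGroup o := MulEquiv.subgroupCongr (range_resO ho)
  let f4 : alternatingGroup o ≃* A8 := Equiv.altCongrHom (Fintype.equivOfCardEq hc)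
  let f : H' →* A8 := (f4.toMonoidHom.comp f3.toMonoidHom).comp (f2.comp f1.toMonoidHom)
  have hf : Function.Surjective f := by
    have h2 : Function.Surjective f2 := MonoidHom.rangeRestrict_surjective _
    exact (f4.surjective.comp f3.surjective).comp (h2.comp f1.surjective)
  have hker : ∀ x : H', f x = 1 ↔ ∀ q ∈ o, ((x : ↥M24) : Equiv.Perm GolayPt) q = q := by
    intro x
    have h1 : f x = 1 ↔ resO o (f1 x) = 1 := by
      have e1 : f x = f4 (f3 (f2 (f1 x))) := rfl
      rw [e1, map_eq_one_iff f4 f4.injective, map_eq_one_iff f3 f3.injective]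
      constructor
      · intro h
        exact congrArg Subtype.val h
      · intro h
        exact Subtype.ext h
    rw [h1]
    constructor
    · intro h q hq
      exact congrArg (fun g : Equiv.Perm o => ((g ⟨q, hq⟩ : o) : GolayPt)) h
    · intro h
      apply Equiv.ext
      rintro ⟨q, hq⟩
      exact Subtype.ext (h q hq)
  have hk : ∀ x : H', f x = 1 → x * x = 1 := by
    intro x hx
    have h1 := (hker x).1 hx
    have h2 := (Cfsg.Agent.S0381.result o ho).2 ((x : ↥M24) : Equiv.Perm GolayPt) ((mem_EO (o := o)).2 ⟨(x : ↥M24).2, h1⟩)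
    apply Subtype.ext
    apply Subtype.ext
    exact h2
  obtain ⟨hkP, hnP⟩ := pull f hf hk sylow_self (S.subtype hS)
  -- pointwise stabilizer inside S
  have hES : ∀ e : ↥M24, (∀ q ∈ o, (e : Equiv.Perm GolayPt) q = q) → e ∈ (S : Subgroup ↥M24) := by
    intro e he
    have h1 : e ∈ H' := mem_subgroupOf.2 (mem_HO.2 ⟨e.2, fix_smul_eq he⟩)
    have h2 : (⟨e, h1⟩ : H') ∈ f.ker := (hker _).2 he
    have h3 := hkP h2
    rw [Sylow.coe_subtype] at h3
    exact mem_subgroupOf.1 h3
  intro g hg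
  have hgn := mem_normalizer_iff.1 hg
  -- g fixes o
  have hgo : (g : Equiv.Perm GolayPt) • o = o := by
    by_contra hne
    have ho' : (g : Equiv.Perm GolayPt) • o ∈ octads := M24_smul_octad g.2 ho
    have hfix' : ∀ s ∈ (S : Subgroup ↥M24), (s : Equiv.Perm GolayPt) • ((g : Equiv.Perm GolayPt) • o) = (g : Equiv.Perm GolayPt) • o := by
      intro s hs
      have h1 : g⁻¹ * s * g ∈ (S : Subgroup ↥M24) := by
        rw [hgn]
        have : g * (g⁻¹ * s * g) * g⁻¹ = s := by group
        rwa [this]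
      have h2 := hfix _ h1
      have h3 : ((g⁻¹ * s * g : ↥M24) : Equiv.Perm GolayPt) = (g : Equiv.Perm GolayPt)⁻¹ * s * g := rfl
      rw [h3, mul_smul, mul_smul, inv_smul_eq_iff] at h2
      exact h2
    have hex : ∃ p, p ∈ (g : Equiv.Perm GolayPt) • o ∧ p ∉ o := by
      by_contra hc
      push Not at hc
      apply hne
      apply Finset.eq_of_subset_of_card_le hc
      rw [(mem_octads.1 ho).2, (mem_octads.1 ho').2]
    obtain ⟨p, hp, hpo⟩ := hex
    obtain ⟨q, hqo, hqo'⟩ := card_compl_octad ho ho'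
    obtain ⟨e, he, hex, hepq⟩ := oct_fix_trans ho hpo hqo
    apply hqo'
    have h1 := hfix' ⟨e, he⟩ (hES ⟨e, he⟩ hex)
    rw [← h1, ← hepq]
    exact Finset.smul_mem_smul_finset hp
  have hgH : g ∈ H' := mem_subgroupOf.2 (mem_HO.2 ⟨g.2, hgo⟩)
  have h1 : (⟨g, hgH⟩ : H') ∈ normalizer (((S.subtype hS : Sylow 2 H') : Subgroup H') : Set H') := by
    rw [mem_normalizer_iff]
    intro x
    rw [Sylow.coe_subtype, mem_subgroupOf, mem_subgroupOf]
    exact hgn x
  have h2 := hnP h1
  rw [Sylow.coe_subtype] at h2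
  exact mem_subgroupOf.1 h2

end Cfsg.Agent.H21.SA
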