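import Mathlib

set_option autoImplicit false
set_option linter.all false

/-!
Zassenhaus' theorem, part 1 (helper21): a free action of a finite group in characteristic `p` gives a
rational function on the group with zero sum over all cosets of non-trivial cyclic subgroups.
-/

namespace Cfsg.Agent.H21.ZF

variable {G : Type*} [Group G]

/-- the sum of the powers of `g` -/
noncomputable def nm (R : Type*) [Ring R] (g : G) : MonoidAlgebra R G :=
  ∑ i ∈ Finset.range (orderOf g), MonoidAlgebra.of R G (g ^ i)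

theorem nm_mul_of (R : Type*) [Ring R] [Finite G] (g : G) : MonoidAlgebra.of R G g * nm R g = nm R g := by
  unfold nm
  rw [Finset.mul_sum]
  have h : ∀ i, MonoidAlgebra.of R G g * MonoidAlgebra.of R G (g ^ i) = MonoidAlgebra.of R G (g ^ (i + 1)) := by
    intro i
    rw [← map_mul, ← pow_succ']
  rw [Finset.sum_congr rfl (fun i _ => h i)]
  have h1 := Finset.sum_range_succ' (fun i => MonoidAlgebra.of R G (g ^ i)) (orderOf g)
  have h2 := Finset.sum_range_succ (fun i => MonoidAlgebra.of R G (g ^ i)) (orderOf g)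
  rw [h1, pow_orderOf_eq_one, pow_zero] at h2
  exact add_right_cancel h2

theorem nm_mul_pow (R : Type*) [Ring R] [Finite G] (g : G) (i : ℕ) :
    MonoidAlgebra.of R G (g ^ i) * nm R g = nm R g := by
  induction i with
  | zero => rw [pow_zero, map_one, one_mul]
  | succ n ih => rw [pow_succ', map_mul, mul_assoc, ih, nm_mul_of]

theorem nm_mul_nm (R : Type*) [Ring R] [Finite G] (g : G) : nm R g * nm R g = (orderOf g : R) • nm R g := by
  have h : nm R g * nm R g = ∑ i ∈ Finset.range (orderOf g), MonoidAlgebra.of R G (g ^ i) * nm R g := by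
    rw [← Finset.sum_mul]; rfl
  rw [h, Finset.sum_congr rfl (fun i _ => nm_mul_pow R g i), Finset.sum_const, Finset.card_range,
    Nat.cast_smul_eq_nsmul]

/-- the generators of the two-sided ideal -/
def gens (R : Type*) [Ring R] (G : Type*) [Group G] : Set (MonoidAlgebra R G) :=
  {x | ∃ (a b : MonoidAlgebra R G) (g : G), g ≠ 1 ∧ x = a * nm R g * b}

theorem exists_idem {A : Type*} [Ring A] [ComplementedLattice (Submodule A A)] (J : Ideal A)
    (hJ : ∀ a ∈ J, ∀ b, a * b ∈ J) (h1 : (1 : A) ∉ J) : ∃ c : A, c ≠ 0 ∧ c * c = c ∧ ∀ a ∈ J, a * c = 0 := by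
  obtain ⟨J', hJ'⟩ := exists_isCompl J
  have htop : (1 : A) ∈ J ⊔ J' := by rw [hJ'.sup_eq_top]; trivial
  obtain ⟨e, he, c, hc, hec⟩ := Submodule.mem_sup.1 htop
  have hint : ∀ x, x ∈ J → x ∈ J' → x = 0 := fun x h1 h2 => by
    have : x ∈ J ⊓ J' := ⟨h1, h2⟩
    rwa [hJ'.inf_eq_bot, Submodule.mem_bot] at this
  refine ⟨c, ?_, ?_, ?_⟩
  · rintro rfl
    apply h1
    rw [← hec, add_zero]
    exact he
  · have h2 : c - c * c = c * e := by
      have : c = c * e + c * c := by rw [← mul_add, hec, mul_one]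
      calc c - c * c = (c * e + c * c) - c * c := by rw [← this]
        _ = c * e := by abel
    have h3 : c - c * c = 0 := by
      apply hint
      · rw [h2]; exact J.mul_mem_left _ he
      · exact J'.sub_mem hc (by simpa using J'.smul_mem c hc)
    exact (sub_eq_zero.1 h3).symm
  · intro a ha
    exact hint _ (hJ a ha c) (by simpa using J'.smul_mem a hc)

section modp
variable [Finite G] {p : ℕ} [Fact p.Prime] (hp : ¬ p ∣ Nat.card G)
  {V : Type*} [AddCommGroup V] [Module (ZMod p) V] [Nontrivial V] (ρ : G →* Module.End (ZMod p) V)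
  (hfree : ∀ g : G, g ≠ 1 → ∀ v, ρ g v = v → v = 0)

include hp hfree in
theorem exists_c : ∃ c : MonoidAlgebra (ZMod p) G, c ≠ 0 ∧ c * c = c ∧
    ∀ (g : G), g ≠ 1 → ∀ b, nm (ZMod p) g * b * c = 0 := by
  classical
  haveI := Fintype.ofFinite G
  haveI : Invertible (Fintype.card G : ZMod p) := by
    apply invertibleOfNonzero
    rw [← Nat.card_eq_fintype_card, Ne, ZMod.natCast_eq_zero_iff]
    exact hp
  haveI : NeZero (Nat.card G : ZMod p) := ⟨by rw [Ne, ZMod.natCast_eq_zero_iff]; exact hp⟩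
  let ψ : MonoidAlgebra (ZMod p) G →ₐ[ZMod p] Module.End (ZMod p) V := MonoidAlgebra.lift (ZMod p) _ G ρ
  have hker : ∀ a, a ∈ RingHom.ker ψ ↔ ψ a = 0 := fun a => RingHom.mem_ker
  obtain ⟨c, hc0, hcc, hc⟩ := exists_idem (A := MonoidAlgebra (ZMod p) G) (RingHom.ker ψ)
    (fun a ha b => by rw [hker] at ha ⊢; rw [map_mul, ha, zero_mul])
    (by
      rw [hker, map_one]
      exact one_ne_zero)
  refine ⟨c, hc0, hcc, fun g hg b => hc _ ?_⟩
  rw [hker, map_mul]
  have h1 : ψ (nm (ZMod p) g) = 0 := by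
    apply LinearMap.ext
    intro v
    rw [LinearMap.zero_apply]
    apply hfree g hg
    have h2 := congrArg (fun a => ψ a v) (nm_mul_of (ZMod p) g)
    simp only [map_mul, Module.End.mul_apply] at h2
    rw [MonoidAlgebra.lift_of] at h2
    exact h2
  rw [h1, zero_mul]

include hp hfree in
theorem not_mem_closure (N : ℕ) (hN : N ≠ 0) :
    ((N : ℕ) : MonoidAlgebra ℤ G) ∉ AddSubgroup.closure (gens ℤ G) := by
  classical
  intro hmem
  obtain ⟨c, hc0, hcc, hc⟩ := exists_c hp ρ hfree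
  let π : MonoidAlgebra ℤ G →+* MonoidAlgebra (ZMod p) G := MonoidAlgebra.mapRingHom G (Int.castRingHom (ZMod p))
  have hext : ∀ {R : Type} [Ring R] (x y : MonoidAlgebra R G), (∀ s, x.coeff s = y.coeff s) → x = y := by
    intro R _ x y h
    exact MonoidAlgebra.coeff_injective (Finsupp.ext h)
  have hπa : ∀ (x : MonoidAlgebra ℤ G) (s : G), (π x).coeff s = ((x.coeff s : ℤ) : ZMod p) :=
    fun x s => MonoidAlgebra.coeff_mapRingHom _ x s
  have hπsurj : ∀ y, ∃ x, π x = y := by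
    intro y
    refine ⟨MonoidAlgebra.ofCoeff (Finsupp.mapRange (fun a : ZMod p => (a.val : ℤ)) (by simp) y.coeff), ?_⟩
    apply hext
    intro s
    rw [hπa]
    show (((y.coeff s).val : ℤ) : ZMod p) = y.coeff s
    push_cast
    exact ZMod.natCast_zmod_val (y.coeff s)
  have hπker : ∀ x, π x = 0 → ∃ y, x = (p : ℤ) • y := by
    intro x hx
    refine ⟨MonoidAlgebra.ofCoeff (Finsupp.mapRange (fun a : ℤ => a / p) (by simp) x.coeff), ?_⟩
    apply hext
    intro s
    have h1 : ((x.coeff s : ℤ) : ZMod p) = 0 := by rw [← hπa, hx]; rfl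
    rw [ZMod.intCast_zmod_eq_zero_iff_dvd] at h1
    show x.coeff s = (p : ℤ) * (x.coeff s / p)
    exact (Int.mul_ediv_cancel' h1).symm
  have hπnm : ∀ g : G, π (nm ℤ g) = nm (ZMod p) g := by
    intro g
    unfold nm
    rw [map_sum]
    apply Finset.sum_congr rfl
    intro i _
    show MonoidAlgebra.mapRingHom G (Int.castRingHom (ZMod p)) (MonoidAlgebra.of ℤ G (g ^ i)) = _
    rw [MonoidAlgebra.of_apply, MonoidAlgebra.of_apply, MonoidAlgebra.mapRingHom_single]
    simp
  obtain ⟨C, hC⟩ := hπsurj c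
  have key : ∀ x ∈ AddSubgroup.closure (gens ℤ G), ∃ x' ∈ AddSubgroup.closure (gens ℤ G),
      (Nat.card G : ℤ) • (x * C) = (p : ℤ) • x' := by
    intro x hx
    induction hx using AddSubgroup.closure_induction with
    | mem x hx =>
      obtain ⟨a, b, g, hg, rfl⟩ := hx
      have h1 : π (nm ℤ g * b * C) = 0 := by
        rw [map_mul, map_mul, hπnm, hC]
        exact hc g hg _
      obtain ⟨y, hy⟩ := hπker _ h1
      obtain ⟨m, hm⟩ := orderOf_dvd_natCard g
      refine ⟨(m : ℤ) • (a * nm ℤ g * y), (AddSubgroup.closure (gens ℤ G)).zsmul_mem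
        (AddSubgroup.subset_closure ⟨a, y, g, hg, rfl⟩) _, ?_⟩
      have h2 : (orderOf g : ℤ) • (a * nm ℤ g * b * C) = (p : ℤ) • (a * nm ℤ g * y) := by
        calc (orderOf g : ℤ) • (a * nm ℤ g * b * C) = a * ((orderOf g : ℤ) • nm ℤ g) * b * C := by
              rw [mul_smul_comm, smul_mul_assoc, smul_mul_assoc]
          _ = a * (nm ℤ g * nm ℤ g) * b * C := by rw [nm_mul_nm]
          _ = a * nm ℤ g * (nm ℤ g * b * C) := by simp only [mul_assoc]
          _ = (p : ℤ) • (a * nm ℤ g * y) := by rw [hy, mul_smul_comm]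
      rw [hm, Nat.cast_mul, mul_comm, mul_smul, h2, smul_comm]
    | zero => exact ⟨0, AddSubgroup.zero_mem _, by simp⟩
    | add x y hx hy h1 h2 =>
      obtain ⟨x', hx', e1⟩ := h1
      obtain ⟨y', hy', e2⟩ := h2
      exact ⟨x' + y', AddSubgroup.add_mem _ hx' hy', by rw [add_mul, smul_add, e1, e2, smul_add]⟩
    | neg x hx h1 =>
      obtain ⟨x', hx', e1⟩ := h1
      exact ⟨-x', AddSubgroup.neg_mem _ hx', by rw [neg_mul, smul_neg, e1, smul_neg]⟩
  have key2 : ∀ k : ℕ, ∃ x' ∈ AddSubgroup.closure (gens ℤ G),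
      ((Nat.card G : ℤ) ^ k) • (((N : ℕ) : MonoidAlgebra ℤ G) * C ^ k) = ((p : ℤ) ^ k) • x' := by
    intro k
    induction k with
    | zero => exact ⟨_, hmem, by simp⟩
    | succ k ih =>
      obtain ⟨x', hx', e1⟩ := ih
      obtain ⟨x'', hx'', e2⟩ := key x' hx'
      refine ⟨x'', hx'', ?_⟩
      calc ((Nat.card G : ℤ) ^ (k + 1)) • (((N : ℕ) : MonoidAlgebra ℤ G) * C ^ (k + 1))
          = (Nat.card G : ℤ) • ((((Nat.card G : ℤ) ^ k) • (((N : ℕ) : MonoidAlgebra ℤ G) * C ^ k)) * C) := by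
            rw [smul_mul_assoc, smul_smul, pow_succ', pow_succ C, mul_assoc]
        _ = ((p : ℤ) ^ (k + 1)) • x'' := by
            rw [e1, smul_mul_assoc, smul_comm, e2, smul_smul, pow_succ]
  have hpp : p.Prime := Fact.out
  obtain ⟨m, N', hN', hNm⟩ := Nat.exists_eq_pow_mul_and_not_dvd hN p hpp.ne_one
  obtain ⟨x', hx', e⟩ := key2 (m + 1)
  -- divide by p ^ m
  have e2 : ((Nat.card G : ℤ) ^ (m + 1)) • (((N' : ℕ) : MonoidAlgebra ℤ G) * C ^ (m + 1)) = (p : ℤ) • x' := by
    have hp0 : ((p : ℤ) ^ m) ≠ 0 := pow_ne_zero _ (by exact_mod_cast hpp.ne_zero)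
    apply smul_right_injective (MonoidAlgebra ℤ G) hp0
    show ((p : ℤ) ^ m) • _ = ((p : ℤ) ^ m) • _
    rw [smul_smul (((p : ℤ)) ^ m) (p : ℤ), ← pow_succ, ← e, hNm]
    rw [smul_comm]
    congr 1
    rw [zsmul_eq_mul]
    push_cast
    rw [mul_assoc]
  have e3 := congrArg π e2
  have hπs : ∀ (n : ℤ) (x : MonoidAlgebra ℤ G), π (n • x) = ((n : ZMod p)) • π x := by
    intro n x
    apply hext
    intro s
    rw [hπa]
    show ((n * x.coeff s : ℤ) : ZMod p) = (n : ZMod p) * ((π x).coeff s)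
    rw [hπa]; push_cast; rfl
  rw [hπs, hπs, map_mul, map_pow, hC, map_natCast] at e3
  have h4 : ((p : ℤ) : ZMod p) = 0 := by push_cast; exact CharP.cast_eq_zero _ _
  rw [h4, zero_smul] at e3
  have h5 : c ^ (m + 1) = c := by
    have : IsIdempotentElem c := hcc
    exact this.pow_succ_eq m
  rw [h5] at e3
  have h6 : ((N' : ℕ) : MonoidAlgebra (ZMod p) G) * c = ((N' : ZMod p)) • c := by
    rw [← nsmul_eq_mul, Nat.cast_smul_eq_nsmul]
  rw [h6, smul_smul] at e3
  rcases smul_eq_zero.1 e3 with h7 | h7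
  · rcases mul_eq_zero.1 h7 with h8 | h8
    · have h9 := pow_eq_zero_iff (n := m + 1) (by omega) |>.1 (by exact_mod_cast h8 : ((Nat.card G : ZMod p)) ^ (m + 1) = 0)
      rw [ZMod.natCast_eq_zero_iff] at h9
      exact hp h9
    · rw [ZMod.natCast_eq_zero_iff] at h8
      exact hN' h8
  · exact hc0 h7

/-- clearing denominators -/
theorem clear_den (x : MonoidAlgebra ℚ G)
    (hx : x ∈ Submodule.span ℚ {x : MonoidAlgebra ℚ G | ∃ a b g : G, g ≠ 1 ∧
      x = MonoidAlgebra.of ℚ G a * nm ℚ g * MonoidAlgebra.of ℚ G b}) :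
    ∃ N : ℕ, N ≠ 0 ∧ ∃ y ∈ AddSubgroup.closure (gens ℤ G),
      (N : ℚ) • x = MonoidAlgebra.mapRingHom G (Int.castRingHom ℚ) y := by
  classical
  have hπs : ∀ (n : ℤ) (x : MonoidAlgebra ℤ G), MonoidAlgebra.mapRingHom G (Int.castRingHom ℚ) (n • x) =
      ((n : ℚ)) • MonoidAlgebra.mapRingHom G (Int.castRingHom ℚ) x := by
    intro n x
    rw [map_zsmul, Int.cast_smul_eq_zsmul]
  induction hx using Submodule.span_induction with
  | mem x hx =>
    obtain ⟨a, b, g, hg, rfl⟩ := hx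
    refine ⟨1, one_ne_zero, MonoidAlgebra.of ℤ G a * nm ℤ g * MonoidAlgebra.of ℤ G b,
      AddSubgroup.subset_closure ⟨_, _, g, hg, rfl⟩, ?_⟩
    have h1 : ∀ s : G, MonoidAlgebra.mapRingHom G (Int.castRingHom ℚ) (MonoidAlgebra.of ℤ G s) = MonoidAlgebra.of ℚ G s := by
      intro s
      rw [MonoidAlgebra.of_apply, MonoidAlgebra.of_apply, MonoidAlgebra.mapRingHom_single]
      simp
    rw [map_mul, map_mul, h1, h1, Nat.cast_one, one_smul]
    congr 2
    unfold nm
    rw [map_sum]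
    exact Finset.sum_congr rfl (fun i _ => (h1 _).symm)
  | zero => exact ⟨1, one_ne_zero, 0, AddSubgroup.zero_mem _, by simp⟩
  | add x y _ _ h1 h2 =>
    obtain ⟨N, hN, x', hx', e1⟩ := h1
    obtain ⟨M, hM, y', hy', e2⟩ := h2
    refine ⟨N * M, mul_ne_zero hN hM, (M : ℤ) • x' + (N : ℤ) • y', AddSubgroup.add_mem _
      (AddSubgroup.zsmul_mem _ hx' _) (AddSubgroup.zsmul_mem _ hy' _), ?_⟩
    rw [map_add, hπs, hπs, ← e1, ← e2, smul_add, smul_smul, smul_smul]
    push_cast
    rw [mul_comm (M : ℚ)]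
  | smul q x _ h1 =>
    obtain ⟨N, hN, x', hx', e1⟩ := h1
    refine ⟨N * q.den, mul_ne_zero hN q.den_nz, q.num • x', AddSubgroup.zsmul_mem _ hx' _, ?_⟩
    rw [hπs, ← e1, smul_smul, smul_smul]
    congr 1
    push_cast
    have : (q.den : ℚ) * q = q.num := by rw [mul_comm]; exact Rat.mul_den_eq_num q
    rw [mul_assoc, this, mul_comm]

include hp hfree in
/-- **rational function with zero sums over the cosets of all non-trivial cyclic subgroups** -/
theorem exists_fun : ∃ f : G → ℚ, f 1 ≠ 0 ∧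
    ∀ a b g : G, g ≠ 1 → ∑ i ∈ Finset.range (orderOf g), f (a * g ^ i * b) = 0 := by
  classical
  have h1 : (1 : MonoidAlgebra ℚ G) ∉ Submodule.span ℚ {x : MonoidAlgebra ℚ G | ∃ a b g : G, g ≠ 1 ∧
      x = MonoidAlgebra.of ℚ G a * nm ℚ g * MonoidAlgebra.of ℚ G b} := by
    intro h
    obtain ⟨N, hN, y, hy, e⟩ := clear_den _ h
    apply not_mem_closure hp ρ hfree N hN
    have : y = ((N : ℕ) : MonoidAlgebra ℤ G) := by
      apply MonoidAlgebra.coeff_injective
      ext s
      have h2 := congrArg (fun z : MonoidAlgebra ℚ G => z.coeff s) e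
      simp only [MonoidAlgebra.coeff_mapRingHom] at h2
      have h3 : ((N : ℚ) • (1 : MonoidAlgebra ℚ G)) = MonoidAlgebra.mapRingHom G (Int.castRingHom ℚ) ((N : ℕ) : MonoidAlgebra ℤ G) := by
        rw [map_natCast, Nat.cast_smul_eq_nsmul, nsmul_eq_mul, mul_one]
      rw [h3, MonoidAlgebra.coeff_mapRingHom] at h2
      exact (Int.cast_injective (α := ℚ) h2).symm
    rw [← this]
    exact hy
  obtain ⟨l, hl1, hl⟩ := Submodule.exists_dual_map_eq_bot_of_notMem h1 inferInstance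
  refine ⟨fun s => l (MonoidAlgebra.of ℚ G s), ?_, ?_⟩
  · show l (MonoidAlgebra.of ℚ G 1) ≠ 0
    rw [map_one]
    exact hl1
  · intro a b g hg
    have h2 : MonoidAlgebra.of ℚ G a * nm ℚ g * MonoidAlgebra.of ℚ G b =
        ∑ i ∈ Finset.range (orderOf g), MonoidAlgebra.of ℚ G (a * g ^ i * b) := by
      unfold nm
      rw [Finset.mul_sum, Finset.sum_mul]
      apply Finset.sum_congr rfl
      intro i _
      rw [map_mul, map_mul]
    have h3 : l (MonoidAlgebra.of ℚ G a * nm ℚ g * MonoidAlgebra.of ℚ G b) ∈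
        (Submodule.span ℚ {x : MonoidAlgebra ℚ G | ∃ a b g : G, g ≠ 1 ∧
      x = MonoidAlgebra.of ℚ G a * nm ℚ g * MonoidAlgebra.of ℚ G b}).map l :=
      Submodule.mem_map_of_mem (Submodule.subset_span ⟨a, b, g, hg, rfl⟩)
    rw [hl, Submodule.mem_bot, h2, map_sum] at h3
    exact h3

end modp

end Cfsg.Agent.H21.ZF
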