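import Cfsg.Agent.H21.ZF9

set_option autoImplicit false
set_option linter.all false

/-!
Zassenhaus' theorem, part 10 (helper21): without icosahedral pairs the group is solvable.
-/

universe u v

namespace Cfsg.Agent.H21.ZF

theorem perfect_hom {G S : Type*} [Group G] [Group S] [Group.IsSolvable S] (hperf : commutator G = ⊤) (φ : G →* S) (g : G) :
    φ g = 1 := by
  obtain ⟨n, hn⟩ := (Group.isSolvable_def S).1 inferInstance
  have h1 : ∀ n, derivedSeries G n = ⊤ := by
    intro n
    induction n with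
    | zero => rfl
    | succ n ih => rw [derivedSeries_succ, ih]; exact hperf
  have h2 := map_derivedSeries_le_derivedSeries φ n
  rw [hn, h1] at h2
  have h3 : φ g ∈ (⊤ : Subgroup G).map φ := ⟨g, trivial, rfl⟩
  exact Subgroup.mem_bot.1 (h2 h3)

theorem perfect_index {G : Type*} [Group G] [Finite G] (hperf : commutator G = ⊤) (N : Subgroup G) (hN : N.index ≤ 4) :
    N = ⊤ := by
  classical
  haveI : Finite (G ⧸ N) := inferInstance
  have hcard : Nat.card (Equiv.Perm (G ⧸ N)) < 60 := by
    haveI := Fintype.ofFinite (G ⧸ N)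
    rw [Nat.card_eq_fintype_card, Fintype.card_perm]
    have h1 : Fintype.card (G ⧸ N) ≤ 4 := by rw [← Nat.card_eq_fintype_card]; exact hN
    calc (Fintype.card (G ⧸ N)).factorial ≤ Nat.factorial 4 := Nat.factorial_le h1
      _ < 60 := by decide
  haveI := solvable_of_card_lt_60 _ rfl hcard
  rw [eq_top_iff]
  intro g _
  have h := perfect_hom hperf (MulAction.toPermHom G (G ⧸ N)) g
  have h2 := congrArg (fun p : Equiv.Perm (G ⧸ N) => p ((1 : G) : G ⧸ N)) h
  simp only [MulAction.toPermHom_apply, MulAction.toPerm_apply, Equiv.Perm.coe_one, id_eq] at h2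
  rw [MulAction.Quotient.smul_coe, smul_eq_mul, mul_one, QuotientGroup.eq, mul_one] at h2
  exact (N.inv_mem_iff).1 h2

theorem perfect_npc {G : Type*} [Group G] [Finite G] {p : ℕ} [hp : Fact p.Prime] (hperf : commutator G = ⊤)
    (h : Cfsg.HasNormalPComplement p G) : ¬ p ∣ Nat.card G := by
  obtain ⟨P, N, hN, hc⟩ := h
  haveI := hN
  have hcard : Nat.card (G ⧸ N) = Nat.card (P : Subgroup G) := by
    have h1 := hc.card_mul
    have h2 := N.card_mul_index
    rw [← h1] at h2
    exact Nat.eq_of_mul_eq_mul_left Nat.card_pos h2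
  have hPg : IsPGroup p (G ⧸ N) := by
    obtain ⟨k, hk⟩ := IsPGroup.iff_card.1 P.isPGroup'
    exact IsPGroup.of_card (n := k) (by rw [hcard, hk])
  haveI : Group.IsNilpotent (G ⧸ N) := hPg.isNilpotent
  haveI : Group.IsSolvable (G ⧸ N) := inferInstance
  have h1 : ∀ g : G, g ∈ N := fun g => by
    have := perfect_hom hperf (QuotientGroup.mk' N) g
    exact (QuotientGroup.eq_one_iff g).1 this
  have hNtop : N = ⊤ := eq_top_iff.2 (fun g _ => h1 g)
  intro hd
  have h2 := P.dvd_card_of_dvd_card hd
  have h3 := hc.card_mul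
  rw [hNtop, Subgroup.card_top] at h3
  have h4 : Nat.card (P : Subgroup G) = 1 := Nat.eq_of_mul_eq_mul_left (Nat.card_pos (α := G)) (by rw [h3, mul_one])
  rw [h4] at h2
  exact hp.out.one_lt.ne' (Nat.dvd_one.1 h2)

section ring
variable {A : Type*} [Ring A] [Algebra ℚ A] [Nontrivial A]

theorem no_tet {u v w b : A} (hQ : QR u v w) (hb : b * b = -b - 1) (h2 : Lm b v = 0) (h3 : Lm b w = 0)
    (h1 : Lm b u * Lm b u = 1) : False := by
  set Y := 2 * b + 1 with hY
  have hYY : Y * Y = -3 := by
    have : Y * Y = 4 * (b * b) + 4 * b + 1 := by rw [hY]; noncomm_ring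
    rw [this, hb, show (4 : A) = 1 + 1 + 1 + 1 by norm_num, show (-3 : A) = -(1 + 1 + 1) by norm_num]; noncomm_ring
  have e2 : v * Y = -(Y * v) := by
    apply eq_neg_of_add_eq_zero_left
    rw [hY, ← two_Lm, h2, mul_zero]
  have e3 : w * Y = -(Y * w) := by
    apply eq_neg_of_add_eq_zero_left
    rw [hY, ← two_Lm, h3, mul_zero]
  have e1 : u * Y = Y * u := by
    rw [← hQ.vw, mul_assoc, e3, mul_neg, ← mul_assoc, e2, neg_mul, neg_neg, mul_assoc]
  have e4 : Lm b u = u * Y := by
    rw [← sub_eq_zero]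
    apply nsmul_inj (A := A) (n := 2) (by norm_num)
    push_cast
    rw [mul_sub, two_Lm, ← hY, e1, two_mul, sub_self]
  rw [e4] at h1
  have e5 : u * Y * (u * Y) = 3 := by
    calc u * Y * (u * Y) = u * (Y * u) * Y := by noncomm_ring
      _ = u * (u * Y) * Y := by rw [e1]
      _ = (u * u) * (Y * Y) := by noncomm_ring
      _ = 3 := by rw [hQ.uu, hYY]; norm_num
  rw [e5] at h1
  have n2 : ((2 : ℕ) : A) ≠ 0 := num_ne (by norm_num)
  apply n2
  push_cast
  have : (2 : A) = 3 - 1 := by norm_num
  rw [this, h1, sub_self]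

end ring

namespace ZD
variable {G : Type u} [Group G] [Finite G] {A : Type v} [Ring A] [Algebra ℚ A] [Nontrivial A] {ρ : G →* A}
variable (D : ZD ρ)
include D

theorem sub (H : Subgroup G) : ZD (ρ.comp H.subtype) where
  hN := by
    intro g hg
    have h1 : (g : G) ≠ 1 := fun h => hg (Subtype.ext h)
    have := D.hN (g : G) h1
    rw [Subgroup.orderOf_coe] at this
    exact this
  hP := by
    intro x y hx hy hxy
    have := D.hP (x : G) (y : G) (by rw [Subgroup.orderOf_coe]; exact hx) (by rw [Subgroup.orderOf_coe]; exact hy)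
      (fun h => hxy (Subtype.ext h))
    rw [← Subgroup.coe_mul, Subgroup.orderOf_coe] at this
    exact this

/-- commuting elements of the same prime order generate the same subgroup -/
theorem comm_prime {p : ℕ} [hp : Fact p.Prime] {x z : G} (hx : orderOf x = p) (hz : orderOf z = p) (hc : Commute x z) :
    z ∈ Subgroup.zpowers x := by
  by_contra hcon
  have hp0 : p ≠ 0 := hp.out.ne_zero
  have h1 : ∀ j : ℕ, orderOf (z * x ^ j) = p := by
    intro j
    apply orderOf_eq_prime
    · rw [(hc.symm.pow_right j).mul_pow, ← pow_mul, mul_comm j p, pow_mul]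
      have e1 : z ^ p = 1 := by have := pow_orderOf_eq_one z; rwa [hz] at this
      have e2 : x ^ p = 1 := by have := pow_orderOf_eq_one x; rwa [hx] at this
      rw [e1, e2, one_pow, one_mul]
    · intro h
      apply hcon
      rw [eq_inv_of_mul_eq_one_left h]
      exact Subgroup.inv_mem _ (Subgroup.pow_mem _ (Subgroup.mem_zpowers x) j)
  have h2 : ∀ j : ℕ, ∑ i ∈ Finset.range p, (ρ z) ^ i * (ρ x ^ i) ^ j = 0 := by
    intro j
    have h3 : z * x ^ j ≠ 1 := by
      intro h
      have := h1 j
      rw [h, orderOf_one] at this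
      exact hp.out.one_lt.ne this
    have h4 := D.hN _ h3
    rw [h1 j] at h4
    rw [← h4]
    apply Finset.sum_congr rfl
    intro i _
    have hc' : Commute (ρ z) (ρ x ^ j) := by
      have : Commute (ρ z) (ρ x) := by
        show ρ z * ρ x = ρ x * ρ z
        rw [← map_mul, ← map_mul, hc.eq]
      exact this.pow_right j
    rw [map_mul, map_pow, hc'.mul_pow, ← pow_mul, ← pow_mul, mul_comm i j]
  have h3 : ∑ j ∈ Finset.range p, ∑ i ∈ Finset.range p, (ρ z) ^ i * (ρ x ^ i) ^ j = 0 :=
    Finset.sum_eq_zero (fun j _ => h2 j)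
  rw [Finset.sum_comm] at h3
  have h4 : ∀ i ∈ Finset.range p, i ≠ 0 → ∑ j ∈ Finset.range p, (ρ z) ^ i * (ρ x ^ i) ^ j = 0 := by
    intro i hi hi0
    rw [← Finset.mul_sum]
    have h5 : orderOf (x ^ i) = p := by
      rw [orderOf_pow, hx]
      have : Nat.gcd p i = 1 := by
        apply (Nat.Prime.coprime_iff_not_dvd hp.out).2
        intro hd
        exact absurd (Nat.le_of_dvd (Nat.pos_of_ne_zero hi0) hd) (not_le.2 (Finset.mem_range.1 hi))
      rw [this, Nat.div_one]
    have h6 : x ^ i ≠ 1 := by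
      intro h
      rw [h, orderOf_one] at h5
      exact hp.out.one_lt.ne h5
    have h7 := D.hN _ h6
    rw [h5, map_pow] at h7
    rw [h7, mul_zero]
  rw [Finset.sum_eq_single_of_mem 0 (Finset.mem_range.2 (Nat.pos_of_ne_zero hp0)) h4] at h3
  simp only [pow_zero, one_pow, mul_one, Finset.sum_const, Finset.card_range, nsmul_eq_mul] at h3
  exact num_ne hp0 h3

theorem pgroup {p : ℕ} [hp : Fact p.Prime] (P : Subgroup G) (hP : IsPGroup p P) :
    IsCyclic P ∨ (p = 2 ∧ ∃ n, 1 ≤ n ∧ Nonempty (P ≃* QuaternionGroup (2 ^ n))) := by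
  apply H5.cyclic_or_quat_of_key hP
  intro x z hc hx hz
  have h1 := D.comm_prime (p := p) (x := (x : G)) (z := (z : G)) (by rw [Subgroup.orderOf_coe]; exact hx)
    (by rw [Subgroup.orderOf_coe]; exact hz) (by
      show (x : G) * z = z * x
      exact congrArg Subtype.val hc.eq)
  rw [Subgroup.mem_zpowers_iff] at h1 ⊢
  obtain ⟨k, hk⟩ := h1
  exact ⟨k, Subtype.ext (by push_cast; exact hk)⟩

/-- conjugation-centrality from few conjugates -/
theorem central_of_conj (hperf : commutator G = ⊤) {x : G} (hx : orderOf x = 3)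
    (h : ∀ g : G, g * x * g⁻¹ = x ∨ g * x * g⁻¹ = x⁻¹) : ∀ g : G, g * x = x * g := by
  classical
  have h1 : (Subgroup.centralizer ({x} : Set G)).index ≤ 4 := by
    rw [Subgroup.index]
    have hinj : Function.Injective (fun q : G ⧸ Subgroup.centralizer ({x} : Set G) =>
        (⟨Quotient.out q * x * (Quotient.out q)⁻¹, by
          rcases h (Quotient.out q) with h | h
          · rw [h]; simp
          · rw [h]; simp⟩ : (({x, x⁻¹} : Finset G)))) := by
      intro q r hqr
      have h2 : Quotient.out q * x * (Quotient.out q)⁻¹ = Quotient.out r * x * (Quotient.out r)⁻¹ :=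
        congrArg Subtype.val hqr
      rw [← QuotientGroup.out_eq' q, ← QuotientGroup.out_eq' r, QuotientGroup.eq]
      rw [Subgroup.mem_centralizer_singleton_iff]
      set a := Quotient.out q
      set b := Quotient.out r
      calc a⁻¹ * b * x = a⁻¹ * (b * x * b⁻¹) * b := by group
        _ = a⁻¹ * (a * x * a⁻¹) * b := by rw [h2]
        _ = x * (a⁻¹ * b) := by group
    have h3 := Nat.card_le_card_of_injective _ hinj
    refine h3.trans ?_
    rw [Nat.card_eq_fintype_card, Fintype.card_coe]
    exact (Finset.card_le_two).trans (by norm_num)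
  have h2 := perfect_index hperf _ h1
  intro g
  have : g ∈ Subgroup.centralizer ({x} : Set G) := by rw [h2]; trivial
  exact Subgroup.mem_centralizer_singleton_iff.1 this

theorem axis_comm {x q w : G} (F : Fr x q) (hw : orderOf w = 3)
    (hno : ∀ x y : G, orderOf x = 3 → orderOf y = 3 → orderOf (x * y) ≠ 10) :
    x * w = w * x ∨ (q⁻¹ * x * q) * w = w * (q⁻¹ * x * q) ∨
    ((x⁻¹ * q * x)⁻¹ * x * (x⁻¹ * q * x)) * w = w * ((x⁻¹ * q * x)⁻¹ * x * (x⁻¹ * q * x)) ∨
    ((x * q * x⁻¹)⁻¹ * x * (x * q * x⁻¹)) * w = w * ((x * q * x⁻¹)⁻¹ * x * (x * q * x⁻¹)) := by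
  haveI := charZero_A (A := A)
  by_contra hcon
  push Not at hcon
  obtain ⟨n0, n1, n2, n3⟩ := hcon
  obtain ⟨hQ, hsum⟩ := D.frame_QR F
  set q2 := x⁻¹ * q * x with hq2
  set q3 := x * q * x⁻¹ with hq3
  have F2 : Fr x q2 := F.rot
  have F3 : Fr x q3 := F.rot'
  set u := ρ q with hu
  set v := ρ q2 with hv
  set t := ρ q3 with ht
  set b := ρ w with hb
  have hb3 := D.rel3 hw
  rw [← hb] at hb3
  have o1 : orderOf (q⁻¹ * x * q) = 3 := by rw [orderOf_conj'']; exact F.hx
  have o2 : orderOf (q2⁻¹ * x * q2) = 3 := by rw [orderOf_conj'']; exact F.hx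
  have o3 : orderOf (q3⁻¹ * x * q3) = 3 := by rw [orderOf_conj'']; exact F.hx
  obtain ⟨c1, c2, c3⟩ := hQ.conj
  have a1 : 2 * ρ (q⁻¹ * x * q) + 1 = u - v - t := by
    rw [← c1, ← hsum, map_mul, map_mul, D.inv4 F.hq, ← hu]
    have : -u * (2 * ρ x + 1) * u = 2 * (-u * ρ x * u) - u * u := by noncomm_ring
    rw [this, hQ.uu]; abel
  have a2 : 2 * ρ (q2⁻¹ * x * q2) + 1 = v - u - t := by
    rw [← c2, ← hsum, map_mul, map_mul, D.inv4 F2.hq, ← hv]
    have : -v * (2 * ρ x + 1) * v = 2 * (-v * ρ x * v) - v * v := by noncomm_ring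
    rw [this, hQ.vv]; abel
  have a3 : 2 * ρ (q3⁻¹ * x * q3) + 1 = t - u - v := by
    rw [← c3, ← hsum, map_mul, map_mul, D.inv4 F3.hq, ← ht]
    have : -t * (2 * ρ x + 1) * t = 2 * (-t * ρ x * t) - t * t := by noncomm_ring
    rw [this, hQ.ww]; abel
  have T : ∀ x' : G, orderOf x' = 3 → x' * w ≠ w * x' → (Lm b (2 * ρ x' + 1) = 1 ∨ Lm b (2 * ρ x' + 1) = -1) := by
    intro x' hx' hne
    rcases D.E_type hx' hw hne with ⟨h1, h2⟩ | ⟨h1, h2⟩ | ⟨h1, h2⟩
    · left; exact h2
    · right; exact h2
    · exact absurd h1 (hno _ _ hx' hw)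
  have T0 := T x F.hx n0
  have T1 := T _ o1 n1
  have T2 := T _ o2 n2
  have T3 := T _ o3 n3
  rw [hsum, Lm_add, Lm_add] at T0
  rw [a1, Lm_sub, Lm_sub] at T1
  rw [a2, Lm_sub, Lm_sub] at T2
  rw [a3, Lm_sub, Lm_sub] at T3
  have hQ2 : QR v t u := ⟨hQ.vv, hQ.ww, hQ.uu, hQ.vw, hQ.wv, hQ.wu, hQ.uw, hQ.uv, hQ.vu⟩
  have hQ3 : QR t u v := ⟨hQ.ww, hQ.uu, hQ.vv, hQ.wu, hQ.uw, hQ.uv, hQ.vu, hQ.vw, hQ.wv⟩
  set t1 := Lm b u with ht1
  set t2 := Lm b v with ht2
  set t3 := Lm b t with ht3
  have half : ∀ s : A, s + s = 0 → s = 0 := fun s hs => nsmul_inj (A := A) (n := 2) (by norm_num) (by push_cast; rw [two_mul]; exact hs)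
  have halfeq : ∀ s r : A, s + s = r + r → s = r := fun s r hs => by
    rw [← sub_eq_zero]; apply half
    calc s - r + (s - r) = (s + s) - (r + r) := by abel
      _ = 0 := by rw [hs, sub_self]
  have hz : (t1 + t2 + t3) + (t1 - t2 - t3) + (t2 - t1 - t3) + (t3 - t1 - t2) = 0 := by abel
  have d1 : t1 + t1 = (t1 + t2 + t3) + (t1 - t2 - t3) := by abel
  have d2 : t2 + t2 = (t1 + t2 + t3) + (t2 - t1 - t3) := by abel
  have d3 : t3 + t3 = (t1 + t2 + t3) + (t3 - t1 - t2) := by abel
  have fin : ∀ e : A, (e = 1 ∨ e = -1) →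
      ((t1 + t1 = e + e ∧ t2 + t2 = e + -e ∧ t3 + t3 = e + -e) ∨ (t2 + t2 = e + e ∧ t3 + t3 = e + -e ∧ t1 + t1 = e + -e) ∨
        (t3 + t3 = e + e ∧ t1 + t1 = e + -e ∧ t2 + t2 = e + -e)) → False := by
    intro e he h
    have hee : e * e = 1 := by rcases he with rfl | rfl <;> simp
    rcases h with ⟨h1, h2, h3⟩ | ⟨h1, h2, h3⟩ | ⟨h1, h2, h3⟩
    · rw [add_neg_cancel] at h2 h3
      have e1 := halfeq _ _ h1
      exact no_tet hQ hb3 (half _ h2) (half _ h3) (by rw [← ht1, e1, hee])
    · rw [add_neg_cancel] at h2 h3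
      have e1 := halfeq _ _ h1
      exact no_tet hQ2 hb3 (half _ h2) (half _ h3) (by rw [← ht2, e1, hee])
    · rw [add_neg_cancel] at h2 h3
      have e1 := halfeq _ _ h1
      exact no_tet hQ3 hb3 (half _ h2) (half _ h3) (by rw [← ht3, e1, hee])
  rcases T0 with T0 | T0 <;> rcases T1 with T1 | T1 <;> rcases T2 with T2 | T2 <;> rcases T3 with T3 | T3 <;>
    rw [T0, T1] at d1 <;> rw [T0, T2] at d2 <;> rw [T0, T3] at d3 <;> rw [T0, T1, T2, T3] at hz <;> norm_num at hz
  · exact fin 1 (Or.inl rfl) (Or.inl ⟨d1, d2, d3⟩)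
  · exact fin 1 (Or.inl rfl) (Or.inr (Or.inl ⟨d2, d3, d1⟩))
  · exact fin 1 (Or.inl rfl) (Or.inr (Or.inr ⟨d3, d1, d2⟩))
  · exact fin (-1) (Or.inr rfl) (Or.inr (Or.inr ⟨d3, by rw [d1, neg_neg], by rw [d2, neg_neg]⟩))
  · exact fin (-1) (Or.inr rfl) (Or.inr (Or.inl ⟨d2, by rw [d3, neg_neg], by rw [d1, neg_neg]⟩))
  · exact fin (-1) (Or.inr rfl) (Or.inl ⟨d1, by rw [d2, neg_neg], by rw [d3, neg_neg]⟩)

omit D in
/-- the main induction -/
theorem solvable_of_no_ico (n : ℕ) : ∀ (G : Type u) [Group G] [Finite G] (ρ : G →* A) (D : ZD ρ)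
    (hno : ∀ x y : G, orderOf x = 3 → orderOf y = 3 → orderOf (x * y) ≠ 10), Nat.card G ≤ n → Group.IsSolvable G := by
  classical
  induction n with
  | zero => intro G _ _ ρ D hno h; exact absurd (Nat.card_pos (α := G)) (by omega)
  | succ n ih =>
    intro G _ _ ρ D hno hcard
    by_cases hperf : commutator G = ⊤
    swap
    · have hsol : Group.IsSolvable (commutator G) := by
        apply ih _ (ρ.comp (commutator G).subtype) (D.sub _)
        · intro x y hx hy
          have := hno (x : G) (y : G) (by rw [Subgroup.orderOf_coe]; exact hx) (by rw [Subgroup.orderOf_coe]; exact hy)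
          rwa [← Subgroup.coe_mul, Subgroup.orderOf_coe] at this
        · have h1 : Nat.card (commutator G) < Nat.card G := by
            apply lt_of_le_of_ne (Subgroup.card_le_card_group _)
            intro h
            exact hperf (Subgroup.card_eq_iff_eq_top _ |>.1 h)
          omega
      haveI : Group.IsSolvable (G ⧸ commutator G) := by
        haveI : IsMulCommutative (G ⧸ commutator G) := inferInstanceAs (IsMulCommutative (Abelianization G))
        exact Group.isSolvable_of_comm (fun a b => IsMulCommutative.is_comm.comm a b)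
      exact (Group.isSolvable_iff_subgroup_quotient (H := commutator G)).2 ⟨hsol, this⟩
    -- perfect case
    -- elements of order three are central
    have hcen : ∀ x : G, orderOf x = 3 → ∀ g : G, g * x = x * g := by
      have hall : ∀ x y : G, orderOf x = 3 → orderOf y = 3 → x * y = y * x := by
        by_contra hcon
        push Not at hcon
        obtain ⟨x0, y0, hx0, hy0, hne⟩ := hcon
        obtain ⟨q, F⟩ : ∃ q, Fr x0 q := by
          rcases D.E_type hx0 hy0 hne with ⟨h1, h2⟩ | ⟨h1, h2⟩ | ⟨h1, h2⟩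
          · have hy0' : orderOf y0⁻¹ = 3 := by rw [orderOf_inv]; exact hy0
            exact ⟨_, fr_of D hx0 hy0' ((D.order_of_Lm hx0 hy0').1 (by rw [D.Lm_inv hy0, h2]))⟩
          · exact ⟨_, fr_of D hx0 hy0 h1⟩
          · exact absurd h1 (hno _ _ hx0 hy0)
        have hF := fun w hw => D.axis_comm (w := w) F hw hno
        set x1 := q⁻¹ * x0 * q with hx1
        set x2 := (x0⁻¹ * q * x0)⁻¹ * x0 * (x0⁻¹ * q * x0) with hx2
        set x3 := (x0 * q * x0⁻¹)⁻¹ * x0 * (x0 * q * x0⁻¹) with hx3
        have o1 : orderOf x1 = 3 := by rw [hx1, orderOf_conj'']; exact hx0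
        have o2 : orderOf x2 = 3 := by rw [hx2, orderOf_conj'']; exact hx0
        have o3 : orderOf x3 = 3 := by rw [hx3, orderOf_conj'']; exact hx0
        have hz : ∀ x w : G, orderOf x = 3 → orderOf w = 3 → x * w = w * x → Subgroup.zpowers w = Subgroup.zpowers x := by
          intro x w hx hw hc
          rcases D.comm_three hx hw hc with rfl | rfl
          · rfl
          · exact Subgroup.zpowers_inv
        have hmem : ∀ w : G, orderOf w = 3 → Subgroup.zpowers w ∈
            ({Subgroup.zpowers x0, Subgroup.zpowers x1, Subgroup.zpowers x2, Subgroup.zpowers x3} : Finset (Subgroup G)) := by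
          intro w hw
          rcases hF w hw with h | h | h | h
          · rw [hz _ _ hx0 hw h]; simp
          · rw [hz _ _ o1 hw h]; simp
          · rw [hz _ _ o2 hw h]; simp
          · rw [hz _ _ o3 hw h]; simp
        have hidx : (Subgroup.normalizer ((Subgroup.zpowers x0 : Subgroup G) : Set G)).index ≤ 4 := by
          rw [Subgroup.index]
          have hinj : Function.Injective (fun q : G ⧸ Subgroup.normalizer ((Subgroup.zpowers x0 : Subgroup G) : Set G) =>
              (⟨Subgroup.zpowers (Quotient.out q * x0 * (Quotient.out q)⁻¹), hmem _ (by rw [orderOf_conj']; exact hx0)⟩ :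
                ({Subgroup.zpowers x0, Subgroup.zpowers x1, Subgroup.zpowers x2, Subgroup.zpowers x3} : Finset (Subgroup G)))) := by
            intro r s hrs
            have h2 : Subgroup.zpowers (Quotient.out r * x0 * (Quotient.out r)⁻¹) =
                Subgroup.zpowers (Quotient.out s * x0 * (Quotient.out s)⁻¹) := congrArg Subtype.val hrs
            rw [← QuotientGroup.out_eq' r, ← QuotientGroup.out_eq' s, QuotientGroup.eq]
            set a := Quotient.out r
            set c := Quotient.out s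
            have h3 : ∀ g : G, Subgroup.zpowers (g * x0 * g⁻¹) = (Subgroup.zpowers x0).map (MulAut.conj g).toMonoidHom := by
              intro g
              rw [MonoidHom.map_zpowers]; rfl
            rw [h3, h3] at h2
            rw [Subgroup.mem_normalizer_iff]
            intro t
            have h4 : ∀ (g t : G), t ∈ (Subgroup.zpowers x0).map (MulAut.conj g).toMonoidHom ↔ g⁻¹ * t * g ∈ Subgroup.zpowers x0 := by
              intro g t
              constructor
              · rintro ⟨s, hs, rfl⟩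
                have : g⁻¹ * (MulAut.conj g).toMonoidHom s * g = s := by
                  show g⁻¹ * (g * s * g⁻¹) * g = s
                  group
                rw [this]; exact hs
              · intro h
                exact ⟨_, h, by show g * (g⁻¹ * t * g) * g⁻¹ = t; group⟩
            have h5 : c * t * c⁻¹ ∈ (Subgroup.zpowers x0).map (MulAut.conj a).toMonoidHom ↔
                c * t * c⁻¹ ∈ (Subgroup.zpowers x0).map (MulAut.conj c).toMonoidHom := by rw [h2]
            rw [h4, h4] at h5
            have e1 : c⁻¹ * (c * t * c⁻¹) * c = t := by group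
            have e2 : a⁻¹ * (c * t * c⁻¹) * a = a⁻¹ * c * t * (a⁻¹ * c)⁻¹ := by group
            rw [e1, e2] at h5
            exact h5.symm
          have h3 := Nat.card_le_card_of_injective _ hinj
          refine h3.trans ?_
          rw [Nat.card_eq_fintype_card, Fintype.card_coe]
          exact Finset.card_le_four
        have hN := perfect_index hperf _ hidx
        have hy0N : y0 ∈ Subgroup.normalizer ((Subgroup.zpowers x0 : Subgroup G) : Set G) := by rw [hN]; trivial
        rw [Subgroup.mem_normalizer_iff] at hy0N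
        have h5 := (hy0N x0).1 (Subgroup.mem_zpowers x0)
        have h6 : y0 * x0 * y0⁻¹ * x0 = x0 * (y0 * x0 * y0⁻¹) := by
          obtain ⟨k, hk⟩ := Subgroup.mem_zpowers_iff.1 h5
          rw [← hk]
          exact ((Commute.refl x0).zpow_left k).eq
        rcases D.comm_three hx0 (by rw [orderOf_conj']; exact hx0) h6.symm with h7 | h7
        · apply hne
          calc x0 * y0 = (y0 * x0 * y0⁻¹) * y0 := by rw [h7]
            _ = y0 * x0 := by group
        · have hy3 : y0 ^ 3 = 1 := by have := pow_orderOf_eq_one y0; rwa [hy0] at this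
          have h8 : x0 = x0⁻¹ := by
            calc x0 = y0 ^ 3 * x0 * (y0 ^ 3)⁻¹ := by rw [hy3]; group
              _ = y0 * (y0 * (y0 * x0 * y0⁻¹) * y0⁻¹) * y0⁻¹ := by rw [pow_succ, pow_two]; group
              _ = y0 * (y0 * x0⁻¹ * y0⁻¹) * y0⁻¹ := by rw [h7]
              _ = y0 * (y0 * x0 * y0⁻¹)⁻¹ * y0⁻¹ := by group
              _ = y0 * x0 * y0⁻¹ := by rw [h7, inv_inv, h7]
              _ = x0⁻¹ := h7
          have h9 : x0 ^ 2 = 1 := by
            rw [pow_two]
            nth_rewrite 2 [h8]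
            rw [mul_inv_cancel]
          have := orderOf_dvd_of_pow_eq_one h9
          rw [hx0] at this
          norm_num at this
      intro x hx
      apply D.central_of_conj hperf hx
      intro g
      exact D.comm_three hx (by rw [orderOf_conj']; exact hx) (hall _ _ hx (by rw [orderOf_conj']; exact hx))
    -- three does not divide the order
    haveI : Fact (Nat.Prime 3) := ⟨Nat.prime_three⟩
    haveI : Fact (Nat.Prime 2) := ⟨Nat.prime_two⟩
    have h3 : ¬ 3 ∣ Nat.card G := by
      apply perfect_npc hperf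
      apply H2.hasNormalPComplement_of_centralizer
      intro P hP g hg hgo
      have hgo' : ¬ 3 ∣ orderOf g := (Nat.Prime.coprime_iff_not_dvd Nat.prime_three).1 hgo.symm
      rcases D.pgroup P hP with hcyc | ⟨h, -⟩
      swap
      · omega
      obtain ⟨c, hc⟩ := hcyc.exists_generator
      have hoc : ∃ k, orderOf (c : G) = 3 ^ k := by
        obtain ⟨k, hk⟩ := (IsPGroup.iff_orderOf.1 hP) c
        exact ⟨k, by rw [Subgroup.orderOf_coe]; exact hk⟩
      obtain ⟨k, hk⟩ := hoc
      have hpow : ∀ t ∈ P, ∃ m : ℕ, t = (c : G) ^ m := by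
        intro t ht
        have := hc ⟨t, ht⟩
        rw [mem_zpowers_iff_mem_range_orderOf] at this
        obtain ⟨m, -, hm⟩ := Finset.mem_image.1 this
        exact ⟨m, (congrArg Subtype.val hm).symm⟩
      have hgc : g * c = c * g := by
        rcases Nat.eq_zero_or_pos k with hk0 | hk0
        · rw [hk0, pow_zero, orderOf_eq_one_iff] at hk
          rw [hk]; simp
        have hmem : g * c * g⁻¹ ∈ P := ((Subgroup.mem_normalizer_iff.1 hg) c).1 c.2
        obtain ⟨m, hm⟩ := hpow _ hmem
        apply comm_of_cyc (p := 3) (k := k) (m := m) (c : G) g hk hm _ hgo'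
        have ho : orderOf ((c : G) ^ 3 ^ (k - 1)) = 3 := by
          have := orderOf_pow_of_dvd (x := (c : G)) (n := 3 ^ (k - 1)) (by positivity) (by rw [hk]; exact pow_dvd_pow 3 (by omega))
          rw [this, hk, Nat.pow_div (by omega) (by norm_num), show k - (k - 1) = 1 by omega, pow_one]
        have h5 := hcen _ ho g
        have h6 : ((c : G) ^ 3 ^ (k - 1)) ^ m = (c : G) ^ 3 ^ (k - 1) := by
          calc ((c : G) ^ 3 ^ (k - 1)) ^ m = ((c : G) ^ m) ^ 3 ^ (k - 1) := by rw [← pow_mul, mul_comm, pow_mul]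
            _ = (g * c * g⁻¹) ^ 3 ^ (k - 1) := by rw [hm]
            _ = g * (c : G) ^ 3 ^ (k - 1) * g⁻¹ := by rw [conj_pow]
            _ = (c : G) ^ 3 ^ (k - 1) := by rw [h5]; group
        have h7 : m ≡ 1 [MOD orderOf ((c : G) ^ 3 ^ (k - 1))] := by
          apply pow_eq_pow_iff_modEq.1
          rw [h6, pow_one]
        rwa [ho] at h7
      rw [Subgroup.mem_centralizer_iff]
      intro t ht
      obtain ⟨m, rfl⟩ := hpow t ht
      exact ((show Commute g c from hgc).pow_right m).eq.symm
    have h2 : ¬ 2 ∣ Nat.card G := by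
      apply perfect_npc hperf
      apply H2.hasNormalPComplement_of_centralizer
      intro P hP g hg hgo
      have hgo' : ¬ 2 ∣ orderOf g := (Nat.Prime.coprime_iff_not_dvd Nat.prime_two).1 hgo.symm
      have hgo3 : ¬ 3 ∣ orderOf g := fun h => h3 (h.trans (orderOf_dvd_natCard g))
      have hgP : ∀ t ∈ P, g * t * g⁻¹ ∈ P := fun t ht => ((Subgroup.mem_normalizer_iff.1 hg) t).1 ht
      rw [Subgroup.mem_centralizer_iff]
      rcases D.pgroup P hP with hcyc | ⟨-, m, hm, ⟨e⟩⟩
      swap
      · intro t ht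
        exact (comm_of_quat P hm e hgP hgo' hgo3 t ht).symm
      obtain ⟨c, hc⟩ := hcyc.exists_generator
      obtain ⟨k, hk⟩ : ∃ k, orderOf (c : G) = 2 ^ k := by
        obtain ⟨k, hk⟩ := (IsPGroup.iff_orderOf.1 hP) c
        exact ⟨k, by rw [Subgroup.orderOf_coe]; exact hk⟩
      have hpow : ∀ t ∈ P, ∃ m : ℕ, t = (c : G) ^ m := by
        intro t ht
        have := hc ⟨t, ht⟩
        rw [mem_zpowers_iff_mem_range_orderOf] at this
        obtain ⟨m, -, hm⟩ := Finset.mem_image.1 this
        exact ⟨m, (congrArg Subtype.val hm).symm⟩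
      have hgc : g * c = c * g := by
        rcases Nat.eq_zero_or_pos k with hk0 | hk0
        · rw [hk0, pow_zero, orderOf_eq_one_iff] at hk
          rw [hk]; simp
        obtain ⟨m, hm⟩ := hpow _ (hgP c c.2)
        apply comm_of_cyc (p := 2) (k := k) (m := m) (c : G) g hk hm _ hgo'
        have h5 : orderOf ((c : G) ^ m) = 2 ^ k := by rw [← hm, orderOf_conj', hk]
        rw [orderOf_pow, hk] at h5
        by_contra hcon
        have hev : 2 ∣ m := by
          rcases Nat.even_or_odd m with h | h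
          · exact h.two_dvd
          · exfalso; apply hcon; exact Nat.odd_iff.1 h
        have h6 : 2 ∣ Nat.gcd (2 ^ k) m := Nat.dvd_gcd (dvd_pow_self 2 (by omega)) hev
        have h7 : 2 ^ k / Nat.gcd (2 ^ k) m < 2 ^ k := Nat.div_lt_self (by positivity)
          (Nat.le_of_dvd (Nat.gcd_pos_of_pos_left _ (by positivity)) h6)
        omega
      intro t ht
      obtain ⟨m, rfl⟩ := hpow t ht
      exact ((show Commute g c from hgc).pow_right m).eq.symm
    haveI : IsZGroup G := by
      rw [isZGroup_iff]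
      intro p hp P
      haveI : Fact p.Prime := ⟨hp⟩
      rcases D.pgroup (P : Subgroup G) P.isPGroup' with h | ⟨h, m, hm, ⟨e⟩⟩
      · exact h
      · exfalso
        apply h2
        have : 2 ∣ Nat.card (P : Subgroup G) := by
          rw [Nat.card_congr e.toEquiv, Nat.card_eq_fintype_card, QuaternionGroup.card]
          exact Dvd.dvd.mul_right (by norm_num) _
        exact this.trans (Subgroup.card_subgroup_dvd_card _)
    infer_instance

end ZD

end Cfsg.Agent.H21.ZF
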