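import Cfsg.Agent.H21.ZF10
import Cfsg.Agent.H20.Fpf
import Cfsg.Agent.H25.FrobKernel

set_option autoImplicit false
set_option linter.all false

/-!
Zassenhaus' theorem, part 11 (helper21): from free actions to the ring data.
-/

universe u v

namespace Cfsg.Agent.H21.ZF

/-- `G` acts freely on a non-trivial finite group -/
def FreeAct (G : Type u) [Group G] : Prop :=
  ∃ (K : Type v) (_ : Group K) (_ : Finite K) (φ : G →* MulAut K), Nontrivial K ∧
    ∀ g : G, g ≠ 1 → ∀ k : K, φ g k = k → k = 1

theorem FreeAct.sub {G : Type u} [Group G] (h : FreeAct.{u, v} G) (H : Subgroup G) : FreeAct.{u, v} H := by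
  obtain ⟨K, i1, i2, φ, hK, hf⟩ := h
  exact ⟨K, i1, i2, φ.comp H.subtype, hK, fun g hg k hk => hf g (fun h => hg (Subtype.ext h)) k hk⟩

theorem FreeAct.equiv {G H : Type u} [Group G] [Group H] (h : FreeAct.{u, v} G) (e : G ≃* H) : FreeAct.{u, v} H := by
  obtain ⟨K, i1, i2, φ, hK, hf⟩ := h
  refine ⟨K, i1, i2, φ.comp e.symm.toMonoidHom, hK, fun g hg k hk => hf (e.symm g) (fun h => hg ?_) k hk⟩
  rw [← e.apply_symm_apply g, h, map_one]

/-- the linear core -/
theorem exists_VF_of_module {G : Type u} [Group G] [Finite G] {p : ℕ} [hp : Fact p.Prime] {V : Type v} [AddCommGroup V]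
    [Module (ZMod p) V] [Finite V] [Nontrivial V] (ρ : G →* Module.End (ZMod p) V)
    (hfree : ∀ g : G, g ≠ 1 → ∀ v, ρ g v = v → v = 0) : ∃ f : VF ℚ G, f ≠ 0 := by
  have hpG : ¬ p ∣ Nat.card G := by
    intro hd
    obtain ⟨g, hg⟩ := exists_prime_orderOf_dvd_card' p hd
    have hg1 : g ≠ 1 := by
      rintro rfl
      rw [orderOf_one] at hg
      exact hp.out.one_lt.ne hg
    haveI : CharP (Module.End (ZMod p) V) p := by
      constructor
      intro x
      constructor
      · intro h
        have h1 : ((x : ℕ) : ZMod p) = 0 := by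
          obtain ⟨v, hv⟩ := exists_ne (0 : V)
          have h2 := congrArg (fun T : Module.End (ZMod p) V => T v) h
          simp only [Module.End.natCast_apply, LinearMap.zero_apply] at h2
          rw [← Nat.cast_smul_eq_nsmul (ZMod p)] at h2
          exact (smul_eq_zero.1 h2).resolve_right hv
        exact (ZMod.natCast_eq_zero_iff _ _).1 h1
      · rintro ⟨k, rfl⟩
        ext v
        simp only [Module.End.natCast_apply, LinearMap.zero_apply]
        rw [← Nat.cast_smul_eq_nsmul (ZMod p)]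
        simp
    have h1 : (ρ g - 1) ^ p = 0 := by
      have hgp : g ^ p = 1 := by have := pow_orderOf_eq_one g; rwa [hg] at this
      rw [sub_pow_char_of_commute (R := Module.End (ZMod p) V) p (Commute.one_right (ρ g)), one_pow, ← map_pow, hgp, map_one, sub_self]
    have h2 : Function.Injective ((ρ g - 1 : Module.End (ZMod p) V)) := by
      rw [injective_iff_map_eq_zero]
      intro v hv
      apply hfree g hg1 v
      rw [LinearMap.sub_apply, Module.End.one_apply] at hv
      exact sub_eq_zero.1 hv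
    have h3 : ∀ n : ℕ, Function.Injective (((ρ g - 1 : Module.End (ZMod p) V) ^ n : Module.End (ZMod p) V)) := by
      intro n
      induction n with
      | zero => intro a b h; exact h
      | succ n ih =>
        intro a b h
        rw [pow_succ', Module.End.mul_apply, Module.End.mul_apply] at h
        exact ih (h2 h)
    obtain ⟨v, hv⟩ := exists_ne (0 : V)
    apply hv
    apply h3 p
    rw [h1]; rfl
  obtain ⟨f, hf1, hf⟩ := exists_fun hpG ρ hfree
  refine ⟨⟨f, hf⟩, ?_⟩
  intro h
  apply hf1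
  have := congrArg (fun x : VF ℚ G => (x : G → ℚ) 1) h
  exact this

theorem exists_VF_of_module' {G : Type u} [Group G] [Finite G] {p : ℕ} [hp : Fact p.Prime] {W : Type v} [AddCommGroup W]
    [Module (ZMod p) W] [Finite W] [Nontrivial W] (φ : G → (W →ₗ[ZMod p] W)) (h1 : ∀ w, φ 1 w = w)
    (hmul : ∀ g h w, φ (g * h) w = φ g (φ h w))
    (hf : ∀ g : G, g ≠ 1 → ∀ w : W, φ g w = w → w = 0) : ∃ f : VF ℚ G, f ≠ 0 := by
  let ρ : G →* Module.End (ZMod p) W :=
    { toFun := fun g => φ g
      map_one' := LinearMap.ext h1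
      map_mul' := fun g h => LinearMap.ext (hmul g h) }
  exact exists_VF_of_module ρ hf

theorem exists_VF_of_add {G : Type u} [Group G] [Finite G] {p : ℕ} [hp : Fact p.Prime] {W : Type v} [AddCommGroup W]
    [Finite W] [Nontrivial W] (hW : ∀ w : W, p • w = 0) (φ : G → (W →+ W)) (h1 : ∀ w, φ 1 w = w)
    (hmul : ∀ g h w, φ (g * h) w = φ g (φ h w))
    (hf : ∀ g : G, g ≠ 1 → ∀ w : W, φ g w = w → w = 0) : ∃ f : VF ℚ G, f ≠ 0 := by
  obtain ⟨I⟩ : Nonempty (Module (ZMod p) W) := ⟨AddCommGroup.zmodModule hW⟩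
  letI := I
  have hφ : ∃ φ' : G → (W →ₗ[ZMod p] W), ∀ g w, φ' g w = φ g w :=
    ⟨fun g => { toFun := φ g, map_add' := map_add (φ g), map_smul' := fun c x => ZMod.map_smul (φ g) c x }, fun g w => rfl⟩
  obtain ⟨φ', hφ'⟩ := hφ
  refine exists_VF_of_module' φ' (fun w => by rw [hφ', h1]) (fun g h w => by rw [hφ', hφ', hφ', hmul]) ?_
  intro g hg w hw
  rw [hφ'] at hw
  exact hf g hg w hw

theorem exists_VF_of_comm {G : Type u} [Group G] [Finite G] {p : ℕ} [hp : Fact p.Prime] {V : Type v} [CommGroup V]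
    [Finite V] [Nontrivial V] (hV : ∀ v : V, v ^ p = 1) (φ : G →* MulAut V)
    (hf : ∀ g : G, g ≠ 1 → ∀ v : V, φ g v = v → v = 1) : ∃ f : VF ℚ G, f ≠ 0 :=
  exists_VF_of_add (W := Additive V) (p := p) (fun w => hV w.toMul) (fun g => (φ g).toMonoidHom.toAdditive)
    (fun w => by
      show φ 1 w.toMul = w.toMul
      rw [map_one]; rfl)
    (fun g h w => by
      show φ (g * h) w.toMul = φ g (φ h w.toMul)
      rw [map_mul]; rfl)
    (fun g hg w hw => hf g hg w.toMul hw)

theorem exists_VF {G : Type u} [Group G] [Finite G] (h : FreeAct.{u, v} G) : ∃ f : VF ℚ G, f ≠ 0 := by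
  classical
  by_cases hG : Nontrivial G
  swap
  · rw [not_nontrivial_iff_subsingleton] at hG
    refine ⟨⟨fun _ => 1, fun a b g hg => absurd (Subsingleton.elim g 1) hg⟩, ?_⟩
    intro h
    have := congrArg (fun x : VF ℚ G => (x : G → ℚ) 1) h
    exact one_ne_zero this
  obtain ⟨K, i1, i2, φ, hK, hf⟩ := h
  -- K is nilpotent
  have hnil : Group.IsNilpotent K := by
    obtain ⟨r, hr, hrd⟩ := Nat.exists_prime_and_dvd (n := Nat.card G) Finite.one_lt_card.ne'
    haveI : Fact r.Prime := ⟨hr⟩
    obtain ⟨g, hg⟩ := exists_prime_orderOf_dvd_card' r hrd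
    have hg1 : g ≠ 1 := by
      rintro rfl
      rw [orderOf_one] at hg
      exact hr.one_lt.ne hg
    refine Cfsg.Agent.H20.Fpf.isNilpotent_of_fpf hr (Nat.card K) K le_rfl (φ g) ?_ (fun k hk => hf g hg1 k hk)
    intro k
    have h1 : ∀ n : ℕ, ((φ g)^[n]) k = φ (g ^ n) k := by
      intro n
      induction n with
      | zero => simp
      | succ n ih => rw [Function.iterate_succ_apply', ih, pow_succ', map_mul]; rfl
    rw [h1, ← hg, pow_orderOf_eq_one, map_one]; rfl
  haveI := hnil
  have hZ : Nontrivial (Subgroup.center K) := by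
    rw [Subgroup.nontrivial_iff_ne_bot]
    exact Group.IsNilpotent.center_ne_bot K
  obtain ⟨p, hp, hpd⟩ := Nat.exists_prime_and_dvd (n := Nat.card (Subgroup.center K)) Finite.one_lt_card.ne'
  haveI : Fact p.Prime := ⟨hp⟩
  obtain ⟨c, hc⟩ := exists_prime_orderOf_dvd_card' p hpd
  -- the elements of exponent p in the centre
  let V : Subgroup K :=
    { carrier := {z | z ∈ Subgroup.center K ∧ z ^ p = 1}
      mul_mem' := by
        rintro a b ⟨ha, ha'⟩ ⟨hb, hb'⟩
        refine ⟨Subgroup.mul_mem _ ha hb, ?_⟩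
        have : Commute a b := (Subgroup.mem_center_iff.1 hb a)
        rw [this.mul_pow, ha', hb', one_mul]
      one_mem' := ⟨Subgroup.one_mem _, one_pow p⟩
      inv_mem' := by
        rintro a ⟨ha, ha'⟩
        exact ⟨Subgroup.inv_mem _ ha, by rw [inv_pow, ha', inv_one]⟩ }
  have hVm : ∀ z : K, z ∈ V ↔ (z ∈ Subgroup.center K ∧ z ^ p = 1) := fun z => Iff.rfl
  letI hVc : CommGroup V :=
    { (inferInstance : Group V) with
      mul_comm := fun a b => Subtype.ext ((Subgroup.mem_center_iff.1 b.2.1 (a : K))) }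
  have hcV : (c : K) ∈ V := by
    rw [hVm]
    refine ⟨c.2, ?_⟩
    have := pow_orderOf_eq_one c
    rw [hc] at this
    exact congrArg Subtype.val this
  haveI hVn : Nontrivial V := by
    refine ⟨⟨⟨c, hcV⟩, 1, ?_⟩⟩
    intro h
    have h0 : (c : K) = 1 := congrArg (fun t : V => (t : K)) h
    have h1 : c = 1 := Subtype.ext h0
    rw [h1, orderOf_one] at hc
    exact hp.one_lt.ne hc
  -- the action
  have hcen : ∀ (g : G) (z : K), z ∈ V → φ g z ∈ V := by
    intro g z hz
    rw [hVm] at hz ⊢
    refine ⟨?_, by rw [← map_pow, hz.2, map_one]⟩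
    rw [Subgroup.mem_center_iff]
    intro k
    have := congrArg (φ g) (Subgroup.mem_center_iff.1 hz.1 ((φ g).symm k))
    simpa using this
  let ψ : G →* MulAut V :=
    { toFun := fun g =>
        { toFun := fun v => ⟨φ g (v : K), hcen g _ v.2⟩
          invFun := fun v => ⟨φ g⁻¹ (v : K), hcen g⁻¹ _ v.2⟩
          left_inv := fun v => Subtype.ext (by
            show φ g⁻¹ (φ g (v : K)) = v
            rw [← MulAut.mul_apply, ← map_mul, inv_mul_cancel, map_one]; rfl)
          right_inv := fun v => Subtype.ext (by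
            show φ g (φ g⁻¹ (v : K)) = v
            rw [← MulAut.mul_apply, ← map_mul, mul_inv_cancel, map_one]; rfl)
          map_mul' := fun a b => Subtype.ext (map_mul (φ g) _ _) }
      map_one' := by
        ext v
        show (φ 1) _ = _
        rw [map_one]; rfl
      map_mul' := by
        intro g h
        ext v
        show (φ (g * h)) _ = _
        rw [map_mul]; rfl }
  exact exists_VF_of_comm (V := V) (p := p) (fun v => Subtype.ext v.2.2) ψ (fun g hg v hv => Subtype.ext
    (hf g hg _ (congrArg Subtype.val hv)))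

end Cfsg.Agent.H21.ZF
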