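import Cfsg.Agent.H21.ZF11

set_option autoImplicit false
set_option linter.all false

/-!
Zassenhaus' theorem, part 12 (helper21): structure of non-solvable groups with a free action.
-/

universe u v

namespace Cfsg.Agent.H21.ZF

variable {G : Type u} [Group G] [Finite G]

/-- the ring data exist -/
theorem zd_of_VF (hf : ∃ f : VF ℚ G, f ≠ 0) : ∃ (A : Type u) (_ : Ring A) (_ : Algebra ℚ A) (_ : Nontrivial A) (ρ : G →* A),
    ZD ρ := by
  haveI : Nontrivial (VF ℂ G) := by
    obtain ⟨f, hf⟩ := hf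
    refine ⟨⟨castV f, 0, ?_⟩⟩
    intro h
    apply hf
    apply Subtype.ext
    funext s
    have h2 : (((f : G → ℚ) s : ℚ) : ℂ) = 0 := congrArg (fun x : VF ℂ G => (x : G → ℂ) s) h
    exact_mod_cast h2
  refine ⟨Module.End ℂ (VF ℂ G), inferInstance, inferInstance, inferInstance, rho ℂ, ⟨fun g hg => sum_rho ℂ g hg, ?_⟩⟩
  intro x y hx hy hxy
  exact order_mul hf x y hx hy hxy

theorem zd_of_free (h : FreeAct.{u, v} G) : ∃ (A : Type u) (_ : Ring A) (_ : Algebra ℚ A) (_ : Nontrivial A) (ρ : G →* A),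
    ZD ρ := zd_of_VF (exists_VF h)

/-- a non-solvable group with a free action contains an icosahedral pair -/
theorem exists_ico (h : FreeAct.{u, v} G) (hns : ¬ Group.IsSolvable G) :
    ∃ x y : G, orderOf x = 3 ∧ orderOf y = 3 ∧ orderOf (x * y) = 10 := by
  obtain ⟨A, i1, i2, i3, ρ, D⟩ := zd_of_free h
  by_contra hcon
  push Not at hcon
  exact hns (ZD.solvable_of_no_ico (A := A) (Nat.card G) G ρ D hcon le_rfl)

theorem sl_center : ∀ w : SL25, w * slX = slX * w → w * slY = slY * w → w = 1 ∨ w = slZ := by decide +kernel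

theorem sl_card3 : Nat.card {w : SL25 // w ^ 3 = 1 ∧ w ≠ 1} = 20 := by
  rw [Nat.card_eq_fintype_card]; decide +kernel

theorem sl_pair : ∀ a : SL25, a ^ 3 = 1 → a ≠ 1 →
    (Finset.univ.filter (fun b : SL25 => b ^ 3 = 1 ∧ b ≠ 1 ∧ (a * b) ^ 5 ≠ 1 ∧ (a * b) ^ 10 = 1 ∧ (a * b) ^ 2 ≠ 1)).card ≤ 6 := by
  decide +kernel

/-- the set up: an icosahedral pair -/
structure Ico {A : Type*} [Ring A] {ρ : G →* A} (D : ZD ρ) (x y : G) : Prop where
  hx : orderOf x = 3
  hy : orderOf y = 3
  h10 : orderOf (x * y) = 10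

namespace Ico
variable {A : Type v} [Ring A] [Algebra ℚ A] [Nontrivial A] {ρ : G →* A} {D : ZD ρ} {x y : G} (I : Ico D x y)
include I

theorem mem {w : G} (hw : orderOf w = 3) : w ∈ Subgroup.closure {x, y} := D.all_mem I.hx I.hy I.h10 hw

theorem normal : (Subgroup.closure {x, y}).Normal := by
  constructor
  intro n hn g
  induction hn using Subgroup.closure_induction with
  | mem t ht =>
    rcases ht with rfl | rfl
    · exact I.mem (by rw [orderOf_conj']; exact I.hx)
    · exact I.mem (by rw [orderOf_conj']; exact I.hy)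
  | one => rw [mul_one, mul_inv_cancel]; exact Subgroup.one_mem _
  | mul a b _ _ ha hb =>
    rw [show g * (a * b) * g⁻¹ = (g * a * g⁻¹) * (g * b * g⁻¹) by group]
    exact Subgroup.mul_mem _ ha hb
  | inv a _ ha =>
    rw [show g * a⁻¹ * g⁻¹ = (g * a * g⁻¹)⁻¹ by group]
    exact Subgroup.inv_mem _ ha

theorem z_order : orderOf ((x * y) ^ 5) = 2 := by
  have := orderOf_pow_of_dvd (x := x * y) (n := 5) (by norm_num) (by rw [I.h10]; norm_num)
  rw [I.h10] at this
  exact this

theorem z_mem : (x * y) ^ 5 ∈ Subgroup.closure {x, y} :=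
  Subgroup.pow_mem _ (Subgroup.mul_mem _ (Subgroup.subset_closure (by simp)) (Subgroup.subset_closure (by simp))) 5

theorem z_comm (g : G) : (x * y) ^ 5 * g = g * (x * y) ^ 5 := D.inv_central I.z_order g

theorem center_L {c : G} (hc : c ∈ Subgroup.closure {x, y}) (h : ∀ l ∈ Subgroup.closure {x, y}, c * l = l * c) :
    c = 1 ∨ c = (x * y) ^ 5 := by
  obtain ⟨e⟩ := D.ico_iso I.hx I.hy I.h10
  have h1 : ∀ s : SL25, e ⟨c, hc⟩ * s = s * e ⟨c, hc⟩ := by
    intro s
    apply e.symm.injective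
    rw [map_mul, map_mul, MulEquiv.symm_apply_apply]
    exact Subtype.ext (h _ (e.symm s).2)
  rcases sl_center _ (h1 slX) (h1 slY) with h2 | h2
  · left
    rw [← map_one e] at h2
    exact congrArg Subtype.val (e.injective h2)
  · right
    have h3 : orderOf (e ⟨c, hc⟩) = 2 := by
      rw [h2]
      apply orderOf_eq_prime
      · decide +kernel
      · decide +kernel
    rw [MulEquiv.orderOf_eq, ← Subgroup.orderOf_coe] at h3
    exact D.inv_unique h3 I.z_order

theorem card_L : Nat.card (Subgroup.closure {x, y}) = 120 := by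
  obtain ⟨e⟩ := D.ico_iso I.hx I.hy I.h10
  rw [Nat.card_congr e.toEquiv, card_sl25]

theorem inf_eq : Subgroup.closure {x, y} ⊓ Subgroup.centralizer (Subgroup.closure {x, y} : Set G) =
    Subgroup.zpowers ((x * y) ^ 5) := by
  ext c
  constructor
  · rintro ⟨h1, h2⟩
    rcases I.center_L h1 (fun l hl => (Subgroup.mem_centralizer_iff.1 h2 l hl).symm) with h | h
    · rw [h]; exact Subgroup.one_mem _
    · rw [h]; exact Subgroup.mem_zpowers _
  · intro h
    have hz : (x * y) ^ 5 ∈ Subgroup.closure {x, y} ⊓ Subgroup.centralizer (Subgroup.closure {x, y} : Set G) :=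
      ⟨I.z_mem, Subgroup.mem_centralizer_iff.2 (fun l _ => (I.z_comm l).symm)⟩
    exact (Subgroup.zpowers_le.2 hz) h

theorem mem_centralizer {c : G} (h1 : c * x = x * c) (h2 : c * y = y * c) :
    c ∈ Subgroup.centralizer (Subgroup.closure {x, y} : Set G) := by
  rw [Subgroup.mem_centralizer_iff]
  intro l hl
  have hl' : l ∈ Subgroup.closure {x, y} := hl
  clear hl
  induction hl' using Subgroup.closure_induction with
  | mem t ht =>
    rcases ht with rfl | rfl
    · exact h1.symm
    · exact h2.symm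
  | one => rw [mul_one, one_mul]
  | mul a b _ _ ha hb => rw [mul_assoc, hb, ← mul_assoc, ha, mul_assoc]
  | inv a _ ha =>
    have : Commute a c := ha
    exact this.inv_left.eq

theorem index_centralizer : (Subgroup.centralizer (Subgroup.closure {x, y} : Set G)).index ≤ 120 := by
  classical
  obtain ⟨e⟩ := D.ico_iso I.hx I.hy I.h10
  set C := Subgroup.centralizer (Subgroup.closure {x, y} : Set G) with hC
  set L := Subgroup.closure {x, y} with hL
  have hmx : ∀ g : G, g * x * g⁻¹ ∈ L := fun g => I.mem (by rw [orderOf_conj']; exact I.hx)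
  have hmy : ∀ g : G, g * y * g⁻¹ ∈ L := fun g => I.mem (by rw [orderOf_conj']; exact I.hy)
  let F : SL25 → Finset SL25 := fun a =>
    Finset.univ.filter (fun b : SL25 => b ^ 3 = 1 ∧ b ≠ 1 ∧ (a * b) ^ 5 ≠ 1 ∧ (a * b) ^ 10 = 1 ∧ (a * b) ^ 2 ≠ 1)
  let X : Finset SL25 := Finset.univ.filter (fun w => w ^ 3 = 1 ∧ w ≠ 1)
  let P : Finset (Σ _ : SL25, SL25) := X.sigma F
  have hX : X.card = 20 := by
    have h := sl_card3
    rw [Nat.card_eq_fintype_card, Fintype.card_subtype] at h
    exact h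
  have hP : P.card ≤ 120 := by
    rw [Finset.card_sigma]
    calc ∑ a ∈ X, (F a).card ≤ X.card • 6 := Finset.sum_le_card_nsmul _ _ _ (fun a ha => by
            have := (Finset.mem_filter.1 ha).2
            exact sl_pair a this.1 this.2)
      _ = 120 := by rw [hX]; rfl
  have hord3 : ∀ (w : G) (hw : w ∈ L), orderOf w = 3 → (e ⟨w, hw⟩) ^ 3 = 1 ∧ e ⟨w, hw⟩ ≠ 1 := by
    intro w hw ho
    have h1 : orderOf (e ⟨w, hw⟩) = 3 := by rw [MulEquiv.orderOf_eq, ← Subgroup.orderOf_coe]; exact ho
    constructor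
    · have := pow_orderOf_eq_one (e ⟨w, hw⟩); rwa [h1] at this
    · intro h; rw [h, orderOf_one] at h1; omega
  have hmem : ∀ g : G, (⟨e ⟨g * x * g⁻¹, hmx g⟩, e ⟨g * y * g⁻¹, hmy g⟩⟩ : Σ _ : SL25, SL25) ∈ P := by
    intro g
    rw [Finset.mem_sigma]
    refine ⟨Finset.mem_filter.2 ⟨Finset.mem_univ _, hord3 _ _ (by rw [orderOf_conj']; exact I.hx)⟩,
      Finset.mem_filter.2 ⟨Finset.mem_univ _, ?_⟩⟩
    obtain ⟨k1, k2⟩ := hord3 _ (hmy g) (by rw [orderOf_conj']; exact I.hy)
    refine ⟨k1, k2, ?_⟩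
    show (e ⟨g * x * g⁻¹, hmx g⟩ * e ⟨g * y * g⁻¹, hmy g⟩) ^ 5 ≠ 1 ∧ (e ⟨g * x * g⁻¹, hmx g⟩ * e ⟨g * y * g⁻¹, hmy g⟩) ^ 10 = 1 ∧
      (e ⟨g * x * g⁻¹, hmx g⟩ * e ⟨g * y * g⁻¹, hmy g⟩) ^ 2 ≠ 1
    have ho : orderOf (e ⟨g * x * g⁻¹, hmx g⟩ * e ⟨g * y * g⁻¹, hmy g⟩) = 10 := by
      rw [← map_mul, MulEquiv.orderOf_eq, ← Subgroup.orderOf_coe]
      show orderOf (g * x * g⁻¹ * (g * y * g⁻¹)) = 10
      rw [show g * x * g⁻¹ * (g * y * g⁻¹) = g * (x * y) * g⁻¹ by group, orderOf_conj', I.h10]
    refine ⟨?_, ?_, ?_⟩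
    · intro h; have := orderOf_dvd_of_pow_eq_one h; rw [ho] at this; norm_num at this
    · have := pow_orderOf_eq_one (e ⟨g * x * g⁻¹, hmx g⟩ * e ⟨g * y * g⁻¹, hmy g⟩); rwa [ho] at this
    · intro h; have := orderOf_dvd_of_pow_eq_one h; rw [ho] at this; norm_num at this
  rw [Subgroup.index]
  have hinj : Function.Injective (fun q : G ⧸ C => (⟨⟨e ⟨Quotient.out q * x * (Quotient.out q)⁻¹, hmx _⟩,
      e ⟨Quotient.out q * y * (Quotient.out q)⁻¹, hmy _⟩⟩, hmem _⟩ : P)) := by
    intro q r hqr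
    have h0 := congrArg Subtype.val hqr
    simp only [Sigma.mk.injEq, EmbeddingLike.apply_eq_iff_eq, Subtype.mk.injEq, heq_eq_eq] at h0
    obtain ⟨h1, h2⟩ := h0
    rw [← QuotientGroup.out_eq' q, ← QuotientGroup.out_eq' r, QuotientGroup.eq]
    set a := Quotient.out q
    set b := Quotient.out r
    apply I.mem_centralizer
    · calc a⁻¹ * b * x = a⁻¹ * (b * x * b⁻¹) * b := by group
        _ = a⁻¹ * (a * x * a⁻¹) * b := by rw [h1]
        _ = x * (a⁻¹ * b) := by group
    · calc a⁻¹ * b * y = a⁻¹ * (b * y * b⁻¹) * b := by group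
        _ = a⁻¹ * (a * y * a⁻¹) * b := by rw [h2]
        _ = y * (a⁻¹ * b) := by group
  have h3 := Nat.card_le_card_of_injective _ hinj
  refine h3.trans ?_
  rw [Nat.card_eq_fintype_card, Fintype.card_coe]
  exact hP

/-- `L C(L)` has index at most two -/
theorem index_sup : (Subgroup.closure {x, y} ⊔ Subgroup.centralizer (Subgroup.closure {x, y} : Set G)).index ≤ 2 := by
  classical
  haveI := I.normal
  set C := Subgroup.centralizer (Subgroup.closure {x, y} : Set G) with hC
  set L := Subgroup.closure {x, y} with hL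
  haveI : C.Normal := by rw [hC]; infer_instance
  have h1 : C.relIndex (L ⊔ C) * (L ⊔ C).index = C.index := Subgroup.relIndex_mul_index le_sup_right
  have h2 : C.relIndex (L ⊔ C) = C.relIndex L := Subgroup.relIndex_sup_right L C
  have h3 : C.relIndex L = 60 := by
    have h4 : Nat.card (C.subgroupOf L) * (C.subgroupOf L).index = Nat.card L := (C.subgroupOf L).card_mul_index
    have h5 : Nat.card (C.subgroupOf L) = 2 := by
      have h6 : Nat.card (C.subgroupOf L) = Nat.card (L ⊓ C : Subgroup G) := by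
        rw [← Subgroup.inf_subgroupOf_left]
        exact Nat.card_congr (Subgroup.subgroupOfEquivOfLe inf_le_left).toEquiv
      rw [h6, I.inf_eq, Nat.card_zpowers, I.z_order]
    rw [h5, I.card_L] at h4
    have : C.relIndex L = (C.subgroupOf L).index := rfl
    omega
  have h4 := I.index_centralizer
  rw [h2, h3] at h1
  rw [← h1] at h4
  omega

/-- no elements of order 3, 4, 5 centralise `L` -/
theorem no_three {c : G} (hc : c ∈ Subgroup.centralizer (Subgroup.closure {x, y} : Set G)) : orderOf c ≠ 3 := by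
  intro h
  have h1 : c ∈ Subgroup.zpowers ((x * y) ^ 5) := by rw [← I.inf_eq]; exact ⟨I.mem h, hc⟩
  have h2 := orderOf_dvd_of_mem_zpowers h1
  rw [h, I.z_order] at h2
  norm_num at h2

theorem no_five {c : G} (hc : c ∈ Subgroup.centralizer (Subgroup.closure {x, y} : Set G)) : orderOf c ≠ 5 := by
  intro h
  haveI : Fact (Nat.Prime 5) := ⟨by norm_num⟩
  have ho : orderOf ((x * y) ^ 2) = 5 := by
    have := orderOf_pow_of_dvd (x := x * y) (n := 2) (by norm_num) (by rw [I.h10]; norm_num)
    rw [I.h10] at this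
    exact this
  have hm : (x * y) ^ 2 ∈ Subgroup.closure {x, y} :=
    Subgroup.pow_mem _ (Subgroup.mul_mem _ (Subgroup.subset_closure (by simp)) (Subgroup.subset_closure (by simp))) 2
  have h1 := D.comm_prime ho h (Subgroup.mem_centralizer_iff.1 hc _ hm)
  have h2 : c ∈ Subgroup.closure {x, y} := (Subgroup.zpowers_le.2 hm) h1
  have h3 : c ∈ Subgroup.zpowers ((x * y) ^ 5) := by rw [← I.inf_eq]; exact ⟨h2, hc⟩
  have h4 := orderOf_dvd_of_mem_zpowers h3
  rw [h, I.z_order] at h4
  norm_num at h4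

theorem no_four {c : G} (hc : c ∈ Subgroup.centralizer (Subgroup.closure {x, y} : Set G)) : orderOf c ≠ 4 := by
  intro h
  obtain ⟨e⟩ := D.ico_iso I.hx I.hy I.h10
  -- an element of order four of `L`
  obtain ⟨q, hqL, hq⟩ : ∃ q ∈ Subgroup.closure {x, y}, orderOf q = 4 := by
    refine ⟨(e.symm (slX * slY) : Subgroup.closure {x, y}), SetLike.coe_mem _, ?_⟩
    rw [Subgroup.orderOf_coe, MulEquiv.orderOf_eq]
    exact orderOf_eq_prime_pow (p := 2) (n := 1) (by decide +kernel) (by decide +kernel)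
  have hcomm : q * c = c * q := Subgroup.mem_centralizer_iff.1 hc q hqL
  have hcq : ρ (c * q) * ρ (c * q) = 1 := by
    rw [← map_mul]
    have : c * q * (c * q) = (c * c) * (q * q) := by
      calc c * q * (c * q) = c * (q * c) * q := by group
        _ = _ := by rw [hcomm]; group
    rw [this, map_mul, map_mul, map_mul, D.rel4 h, D.rel4 hq]; noncomm_ring
  have h2 : (c * q) * (c * q) = 1 := by
    apply D.inj
    rw [map_mul, hcq, map_one]
  have hcL : c ∈ Subgroup.closure {x, y} := by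
    by_cases h1 : c * q = 1
    · rw [eq_inv_of_mul_eq_one_left h1]; exact Subgroup.inv_mem _ hqL
    · have h3 : orderOf (c * q) = 2 := orderOf_eq_prime (by rw [pow_two]; exact h2) h1
      have h4 := D.inv_unique h3 I.z_order
      have : c = (x * y) ^ 5 * q⁻¹ := by rw [← h4]; group
      rw [this]
      exact Subgroup.mul_mem _ I.z_mem (Subgroup.inv_mem _ hqL)
  have h3 : c ∈ Subgroup.zpowers ((x * y) ^ 5) := by rw [← I.inf_eq]; exact ⟨hcL, hc⟩
  have h4 := orderOf_dvd_of_mem_zpowers h3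
  rw [h, I.z_order] at h4
  norm_num at h4

theorem solvable_centralizer : Group.IsSolvable (Subgroup.centralizer (Subgroup.closure {x, y} : Set G)) := by
  apply ZD.solvable_of_no_ico (A := A) _ _ _ (D.sub _) _ le_rfl
  intro a b ha _
  exact absurd (by rw [Subgroup.orderOf_coe]; exact ha) (I.no_three a.2)

omit I in
theorem prime_not_dvd {p : ℕ} [Fact p.Prime] {C : Subgroup G} (h : ∀ c ∈ C, orderOf c ≠ p) : ¬ p ∣ Nat.card C := by
  intro hd
  obtain ⟨c, hc⟩ := exists_prime_orderOf_dvd_card' p hd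
  exact h c c.2 (by rw [Subgroup.orderOf_coe]; exact hc)

/-- the complement to the involution in the centraliser -/
theorem exists_M : ∃ M : Subgroup G, M ≤ Subgroup.centralizer (Subgroup.closure {x, y} : Set G) ∧
    Subgroup.zpowers ((x * y) ^ 5) ⊔ M = Subgroup.centralizer (Subgroup.closure {x, y} : Set G) ∧
    (Nat.card M).Coprime 30 ∧ Subgroup.closure {x, y} ⊓ M = ⊥ ∧ ∀ (p : ℕ) [Fact p.Prime] (P : Sylow p M), IsCyclic P := by
  classical
  haveI : Fact (Nat.Prime 2) := ⟨Nat.prime_two⟩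
  haveI : Fact (Nat.Prime 3) := ⟨Nat.prime_three⟩
  haveI : Fact (Nat.Prime 5) := ⟨by norm_num⟩
  set C := Subgroup.centralizer (Subgroup.closure {x, y} : Set G) with hC
  set z := (x * y) ^ 5 with hz
  have hzC : z ∈ C := Subgroup.mem_centralizer_iff.2 (fun l _ => (I.z_comm l).symm)
  set Z : Subgroup C := Subgroup.zpowers ⟨z, hzC⟩ with hZ
  have hZcard : Nat.card Z = 2 := by
    rw [hZ, Nat.card_zpowers, ← Subgroup.orderOf_coe]; exact I.z_order
  have hZn : Z.Normal := by
    constructor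
    intro n hn g
    have : g * n * g⁻¹ = n := by
      obtain ⟨k, rfl⟩ := Subgroup.mem_zpowers_iff.1 hn
      have h1 : Commute g (⟨z, hzC⟩ : C) := Subtype.ext (I.z_comm (g : G)).symm
      rw [(h1.zpow_right k).eq, mul_assoc, mul_inv_cancel, mul_one]
    rw [this]; exact hn
  -- Sylow 2-subgroups of C have order 2
  have hidx : ¬ 2 ∣ Z.index := by
    intro hd
    have hZp : IsPGroup 2 Z := IsPGroup.of_card (n := 1) (by rw [hZcard, pow_one])
    obtain ⟨P, hP⟩ := hZp.exists_le_sylow
    have h1 : (P : Subgroup C) = Z := by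
      apply le_antisymm _ hP
      intro c hc
      obtain ⟨k, hk⟩ := (IsPGroup.iff_orderOf.1 P.isPGroup') ⟨c, hc⟩
      have hk' : orderOf c = 2 ^ k := by
        rw [← hk]
        exact Subgroup.orderOf_coe (⟨c, hc⟩ : (P : Subgroup C))
      have hk1 : k ≤ 1 := by
        by_contra hcon
        push Not at hcon
        have h4 : orderOf (c ^ 2 ^ (k - 2)) = 4 := by
          have := orderOf_pow_of_dvd (x := c) (n := 2 ^ (k - 2)) (by positivity) (by rw [hk']; exact pow_dvd_pow 2 (by omega))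
          rw [this, hk', Nat.pow_div (by omega) (by norm_num), show k - (k - 2) = 2 by omega]
        rw [← Subgroup.orderOf_coe] at h4
        exact I.no_four (c ^ 2 ^ (k - 2)).2 h4
      have : k = 0 ∨ k = 1 := by omega
      rcases this with rfl | rfl
      · rw [pow_zero, orderOf_eq_one_iff] at hk'
        rw [hk']; exact Subgroup.one_mem _
      · rw [pow_one, ← Subgroup.orderOf_coe] at hk'
        have h5 := D.inv_unique hk' I.z_order
        have h6 : c = ⟨z, hzC⟩ := Subtype.ext h5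
        rw [h6]; exact Subgroup.mem_zpowers _
    have h2 := P.not_dvd_index
    rw [h1] at h2
    exact h2 hd
  have hcop : Nat.Coprime (Nat.card Z) Z.index := by
    rw [hZcard]; exact (Nat.Prime.coprime_iff_not_dvd Nat.prime_two).2 hidx
  haveI := hZn
  obtain ⟨M', hM'⟩ := Subgroup.exists_right_complement'_of_coprime hcop
  have hMcard : Nat.card M' = Z.index := by
    have h1 := hM'.card_mul
    have h2 := Z.card_mul_index
    rw [← h1] at h2
    exact (Nat.eq_of_mul_eq_mul_left Nat.card_pos h2).symm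
  have hMc : Nat.card (M'.map C.subtype) = Nat.card M' :=
    Nat.card_congr (M'.equivMapOfInjective _ C.subtype_injective).toEquiv.symm
  have hle : M'.map C.subtype ≤ C := Subgroup.map_subtype_le M'
  have h2 : ¬ 2 ∣ Nat.card (M'.map C.subtype) := by rw [hMc, hMcard]; exact hidx
  refine ⟨M'.map C.subtype, hle, ?_, ?_, ?_, ?_⟩
  · have h1 := hM'.sup_eq_top
    have h3 := congrArg (Subgroup.map C.subtype) h1
    rw [Subgroup.map_sup, hZ, MonoidHom.map_zpowers, ← MonoidHom.range_eq_map, Subgroup.range_subtype] at h3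
    exact h3
  · rw [show 30 = 2 * (3 * 5) from rfl]
    apply Nat.Coprime.mul_right
    · exact ((Nat.Prime.coprime_iff_not_dvd Nat.prime_two).2 h2).symm
    · apply Nat.Coprime.mul_right
      · exact ((Nat.Prime.coprime_iff_not_dvd Nat.prime_three).2 (prime_not_dvd (fun c hc => I.no_three (hle hc)))).symm
      · exact ((Nat.Prime.coprime_iff_not_dvd (by norm_num : Nat.Prime 5)).2 (prime_not_dvd (fun c hc => I.no_five (hle hc)))).symm
  · rw [Subgroup.eq_bot_iff_forall]
    rintro c ⟨h1, h3⟩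
    have h4 : c ∈ Subgroup.zpowers z := by rw [hz, ← I.inf_eq]; exact ⟨h1, hle h3⟩
    have h5 := orderOf_dvd_of_mem_zpowers h4
    rw [I.z_order] at h5
    have h6 : orderOf c ∣ Nat.card (M'.map C.subtype) := Subgroup.orderOf_dvd_natCard _ h3
    have h7 : Nat.Coprime 2 (Nat.card (M'.map C.subtype)) := (Nat.Prime.coprime_iff_not_dvd Nat.prime_two).2 h2
    have h8 := Nat.eq_one_of_dvd_coprimes h7 h5 h6
    exact orderOf_eq_one_iff.1 h8
  · intro p hp P
    rcases (D.sub (M'.map C.subtype)).pgroup (P : Subgroup _) P.isPGroup' with h | ⟨rfl, m, hm, ⟨e⟩⟩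
    · exact h
    · exfalso
      apply h2
      have : 2 ∣ Nat.card (P : Subgroup (M'.map C.subtype)) := by
        rw [Nat.card_congr e.toEquiv, Nat.card_eq_fintype_card, QuaternionGroup.card]
        exact Dvd.dvd.mul_right (by norm_num) _
      exact this.trans (Subgroup.card_subgroup_dvd_card _)

/-- in a perfect group everything is `SL(2,5)` -/
theorem perfect_eq (hperf : commutator G = ⊤) : Subgroup.closure {x, y} = ⊤ := by
  classical
  haveI := I.normal
  set C := Subgroup.centralizer (Subgroup.closure {x, y} : Set G) with hC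
  set L := Subgroup.closure {x, y} with hL
  have h1 : L ⊔ C = ⊤ := perfect_index hperf _ (I.index_sup.trans (by norm_num))
  haveI := I.solvable_centralizer
  have h2 : Group.IsSolvable (G ⧸ L) := by
    apply Group.isSolvable_of_surjective (f := (QuotientGroup.mk' L).comp C.subtype)
    intro q
    obtain ⟨g, rfl⟩ := QuotientGroup.mk_surjective q
    have hg : g ∈ L ⊔ C := by rw [h1]; trivial
    obtain ⟨l, hl, c, hc, rfl⟩ := Subgroup.mem_sup_of_normal_left.1 hg
    refine ⟨⟨c, hc⟩, ?_⟩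
    show ((c : G) : G ⧸ L) = ((l * c : G) : G ⧸ L)
    rw [QuotientGroup.eq]
    have := I.normal.conj_mem l hl c⁻¹
    rw [inv_inv] at this
    rw [← mul_assoc]; exact this
  rw [eq_top_iff]
  intro g _
  have := perfect_hom hperf (QuotientGroup.mk' L) g
  exact (QuotientGroup.eq_one_iff g).1 this

end Ico

end Cfsg.Agent.H21.ZF
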