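import Cfsg.Agent.H21.ZF1

set_option autoImplicit false
set_option linter.all false

/-!
Zassenhaus' theorem, part 2 (helper21): the canonical free module in characteristic zero, eigenvalues,
and the orders of products of two elements of order 3.
-/

namespace Cfsg.Agent.H21.ZF

variable {G : Type*} [Group G]

/-- functions with zero sum over all cosets of non-trivial cyclic subgroups -/
def VF (K : Type*) [Field K] (G : Type*) [Group G] : Submodule K (G → K) where
  carrier := {f | ∀ a b g : G, g ≠ 1 → ∑ i ∈ Finset.range (orderOf g), f (a * g ^ i * b) = 0}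
  add_mem' := by
    intro f f' hf hf' a b g hg
    simp only [Pi.add_apply]
    rw [Finset.sum_add_distrib, hf a b g hg, hf' a b g hg, add_zero]
  zero_mem' := by intro a b g hg; simp
  smul_mem' := by
    intro c f hf a b g hg
    simp only [Pi.smul_apply]
    rw [← Finset.smul_sum, hf a b g hg, smul_zero]

section
variable (K : Type*) [Field K]

/-- the action by left translation -/
def rho : G →* Module.End K (VF K G) where
  toFun h :=
    { toFun := fun f => ⟨fun s => (f : G → K) (h⁻¹ * s), by
        intro a b g hg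
        have := f.2 (h⁻¹ * a) b g hg
        simpa only [mul_assoc] using this⟩
      map_add' := fun f f' => rfl
      map_smul' := fun c f => rfl }
  map_one' := by
    ext f s
    show (f : G → K) (1⁻¹ * s) = _
    rw [inv_one, one_mul]; rfl
  map_mul' := by
    intro g h
    ext f s
    show (f : G → K) ((g * h)⁻¹ * s) = (f : G → K) (h⁻¹ * (g⁻¹ * s))
    rw [mul_inv_rev, mul_assoc]

theorem rho_apply (h : G) (f : VF K G) (s : G) : (rho K h f : G → K) s = (f : G → K) (h⁻¹ * s) := rfl

variable [Finite G]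

theorem sum_rho (g : G) (hg : g ≠ 1) : ∑ i ∈ Finset.range (orderOf g), (rho K g) ^ i = 0 := by
  ext f s
  simp_rw [← map_pow]
  rw [LinearMap.sum_apply, Submodule.coe_sum, Finset.sum_apply]
  have h1 := f.2 1 s g⁻¹ (inv_ne_one.2 hg)
  rw [orderOf_inv] at h1
  rw [LinearMap.zero_apply]
  show _ = (0 : K)
  rw [← h1]
  apply Finset.sum_congr rfl
  intro i _
  rw [rho_apply, one_mul, inv_pow]

theorem rho_free [CharZero K] (g : G) (hg : g ≠ 1) (f : VF K G) (hf : rho K g f = f) : f = 0 := by
  have h1 := congrArg (fun T => T f) (sum_rho K g hg)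
  have h2 : ∀ i : ℕ, ((rho K g) ^ i) f = f := by
    intro i
    induction i with
    | zero => rfl
    | succ n ih => rw [pow_succ, Module.End.mul_apply, hf, ih]
  simp only [LinearMap.sum_apply, h2, Finset.sum_const, Finset.card_range, LinearMap.zero_apply] at h1
  have h3 : ((orderOf g : ℕ) : K) • f = 0 := by rw [Nat.cast_smul_eq_nsmul]; exact h1
  rcases smul_eq_zero.1 h3 with h4 | h4
  · exfalso
    exact (orderOf_pos g).ne' (by exact_mod_cast h4)
  · exact h4

open Polynomial in
theorem cyclotomic_rho [CharZero K] (g : G) : aeval (rho K g) (cyclotomic (orderOf g) K) = 0 := by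
  have hn : 0 < orderOf g := orderOf_pos g
  have h1 : aeval (rho K g) (∏ i ∈ Nat.divisors (orderOf g), cyclotomic i K) = 0 := by
    rw [prod_cyclotomic_eq_X_pow_sub_one hn, map_sub, map_pow, aeval_X, map_one, ← map_pow, pow_orderOf_eq_one, map_one, sub_self]
  have hinj : ∀ d ∈ Nat.properDivisors (orderOf g), ∀ v, aeval (rho K g) (cyclotomic d K) v = 0 → v = 0 := by
    intro d hd v hv
    rw [Nat.mem_properDivisors] at hd
    obtain ⟨q, hq⟩ := cyclotomic.dvd_X_pow_sub_one d K
    rw [mul_comm] at hq
    apply rho_free K (g ^ d) _ v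
    · have h2 := congrArg (fun P => aeval (rho K g) P v) hq
      simp only [map_sub, map_pow, aeval_X, map_one, map_mul] at h2
      rw [Module.End.mul_apply, hv, map_zero] at h2
      rw [map_pow]
      exact sub_eq_zero.1 h2
    · intro h
      have := orderOf_dvd_of_pow_eq_one h
      have hd0 : 0 < d := Nat.pos_of_dvd_of_pos hd.1 hn
      exact absurd (Nat.le_of_dvd hd0 this) (not_le.2 hd.2)
  have hprod : ∀ s ⊆ Nat.properDivisors (orderOf g), ∀ v, aeval (rho K g) (∏ i ∈ s, cyclotomic i K) v = 0 → v = 0 := by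
    intro s
    induction s using Finset.induction_on with
    | empty => intro _ v hv; simpa using hv
    | insert d s hd ih =>
      intro hs v hv
      rw [Finset.prod_insert hd, map_mul, Module.End.mul_apply] at hv
      have := hinj d (hs (Finset.mem_insert_self _ _)) _ hv
      exact ih (fun x hx => hs (Finset.mem_insert_of_mem hx)) _ this
  rw [← Nat.cons_self_properDivisors hn.ne', Finset.prod_cons, mul_comm, map_mul] at h1
  apply LinearMap.ext
  intro v
  have h2 := congrArg (fun T => T v) h1
  simp only [Module.End.mul_apply] at h2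
  exact hprod _ (Finset.Subset.refl _) _ h2

end

/-- the rational vectors inside the complex ones -/
def castV (f : VF ℚ G) : VF ℂ G :=
  ⟨fun s => (((f : G → ℚ) s : ℚ) : ℂ), by
    intro a b g hg
    have := f.2 a b g hg
    rw [← Rat.cast_sum]
    exact_mod_cast this⟩

variable [Finite G]

open Polynomial in
theorem aeval_apply (K : Type*) [Field K] (g : G) (P : K[X]) (f : VF K G) (s : G) :
    ((aeval (rho K g) P f : VF K G) : G → K) s = ∑ i ∈ Finset.range (P.natDegree + 1), P.coeff i * (f : G → K) ((g ^ i)⁻¹ * s) := by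
  rw [aeval_eq_sum_range, LinearMap.sum_apply, Submodule.coe_sum, Finset.sum_apply]
  apply Finset.sum_congr rfl
  intro i _
  rw [LinearMap.smul_apply, Submodule.coe_smul, Pi.smul_apply, smul_eq_mul, ← map_pow, rho_apply]

open Polynomial in
theorem aeval_ne_zero (g : G) (P : ℂ[X]) (hP : P ≠ 0) (hdeg : P.natDegree < Nat.totient (orderOf g))
    (f : VF ℚ G) (hf : f ≠ 0) : aeval (rho ℂ g) P (castV f) ≠ 0 := by
  intro h0
  have hn : 0 < orderOf g := orderOf_pos g
  obtain ⟨l, hl⟩ : ∃ l : ℂ →ₗ[ℚ] ℚ, l P.leadingCoeff ≠ 0 := by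
    by_contra hcon
    push Not at hcon
    exact (leadingCoeff_ne_zero.2 hP) ((Module.forall_dual_apply_eq_zero_iff ℚ _).1 hcon)
  set Q : ℚ[X] := ∑ i ∈ Finset.range (P.natDegree + 1), monomial i (l (P.coeff i)) with hQ
  have hQc : ∀ i, Q.coeff i = l (P.coeff i) := by
    intro i
    rw [hQ, finset_sum_coeff]
    simp only [coeff_monomial]
    rw [Finset.sum_ite_eq' (Finset.range (P.natDegree + 1)) i]
    split_ifs with h
    · rfl
    · rw [coeff_eq_zero_of_natDegree_lt (by rw [Finset.mem_range] at h; omega), map_zero]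
  have hQ0 : Q ≠ 0 := by
    intro h
    apply hl
    rw [leadingCoeff, ← hQc, h, coeff_zero]
  have hQd : Q.natDegree ≤ P.natDegree := by
    rw [natDegree_le_iff_coeff_eq_zero]
    intro N hN
    rw [hQc, coeff_eq_zero_of_natDegree_lt hN, map_zero]
  have hQf : aeval (rho ℚ g) Q f = 0 := by
    apply Subtype.ext
    funext s
    have h1 := congrArg (fun v : VF ℂ G => (v : G → ℂ) s) h0
    simp only [aeval_apply] at h1
    have h2 := congrArg l h1
    rw [map_sum] at h2
    have h3 : ((aeval (rho ℚ g) Q f : VF ℚ G) : G → ℚ) s = ∑ i ∈ Finset.range (P.natDegree + 1), Q.coeff i * (f : G → ℚ) ((g ^ i)⁻¹ * s) := by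
      rw [aeval_apply]
      apply Finset.sum_subset
      · intro i hi
        rw [Finset.mem_range] at hi ⊢
        omega
      · intro i _ hi
        rw [coeff_eq_zero_of_natDegree_lt (by rw [Finset.mem_range] at hi; omega), zero_mul]
    rw [h3]
    have h4 : ∀ i, l (P.coeff i * (castV f : G → ℂ) ((g ^ i)⁻¹ * s)) = Q.coeff i * (f : G → ℚ) ((g ^ i)⁻¹ * s) := by
      intro i
      rw [hQc]
      show l (P.coeff i * (((f : G → ℚ) ((g ^ i)⁻¹ * s) : ℚ) : ℂ)) = _
      rw [mul_comm, ← Rat.smul_def, map_smul, smul_eq_mul, mul_comm]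
    rw [Finset.sum_congr rfl (fun i _ => h4 i)] at h2
    rw [h2]
    exact map_zero l
  have hirr := cyclotomic.irreducible_rat hn
  have hcop : IsCoprime Q (cyclotomic (orderOf g) ℚ) := by
    rw [isCoprime_comm, hirr.coprime_iff_not_dvd]
    intro hd
    have := natDegree_le_of_dvd hd hQ0
    rw [natDegree_cyclotomic] at this
    omega
  obtain ⟨u, v, huv⟩ := hcop
  have h5 := congrArg (fun T => aeval (rho ℚ g) T f) huv
  simp only [map_add, map_mul, map_one, LinearMap.add_apply, Module.End.mul_apply, Module.End.one_apply] at h5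
  rw [hQf, cyclotomic_rho ℚ g, LinearMap.zero_apply, map_zero, map_zero, add_zero] at h5
  exact hf h5.symm

open Polynomial in
theorem exists_eigen (g : G) (ζ : ℂ) (hζ : IsPrimitiveRoot ζ (orderOf g)) (f : VF ℚ G) (hf : f ≠ 0) :
    ∃ v : VF ℂ G, v ≠ 0 ∧ rho ℂ g v = ζ • v := by
  have hn : 0 < orderOf g := orderOf_pos g
  have hroot : (cyclotomic (orderOf g) ℂ).IsRoot ζ := by
    haveI : NeZero ((orderOf g : ℕ) : ℂ) := ⟨by exact_mod_cast hn.ne'⟩
    exact (isRoot_cyclotomic_iff).2 hζ
  obtain ⟨P, hP⟩ := dvd_iff_isRoot.2 hroot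
  have hc0 : cyclotomic (orderOf g) ℂ ≠ 0 := cyclotomic_ne_zero _ _
  have hP0 : P ≠ 0 := by rintro rfl; rw [mul_zero] at hP; exact hc0 hP
  have hd : P.natDegree < Nat.totient (orderOf g) := by
    have := natDegree_cyclotomic (orderOf g) ℂ
    rw [hP, natDegree_mul (X_sub_C_ne_zero ζ) hP0, natDegree_X_sub_C] at this
    omega
  refine ⟨_, aeval_ne_zero g P hP0 hd f hf, ?_⟩
  have h1 := congrArg (fun T => aeval (rho ℂ g) T (castV f)) hP
  simp only [map_mul, map_sub, aeval_X, aeval_C, cyclotomic_rho, Module.End.mul_apply, LinearMap.zero_apply,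
    LinearMap.sub_apply, Module.algebraMap_end_apply] at h1
  exact (sub_eq_zero.1 h1.symm)

end Cfsg.Agent.H21.ZF
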