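import Cfsg.Agent.H21.ZF2

set_option autoImplicit false
set_option linter.all false

/-!
Zassenhaus' theorem, part 3 (helper21): the orders of products of two elements of order 3.
-/

namespace Cfsg.Agent.H21.ZF

theorem exists_k (n : ℕ) (h0 : n ≠ 0) (h1 : n ≠ 1) (h4 : n ≠ 4) (h6 : n ≠ 6) (h10 : n ≠ 10) :
    ∃ k : ℕ, k.Coprime n ∧ n ≤ 3 * k ∧ 2 * k ≤ n := by
  rcases Nat.even_or_odd' n with ⟨m, hm | hm⟩
  · rcases Nat.even_or_odd' m with ⟨l, hl | hl⟩
    · refine ⟨m - 1, ?_, by omega, by omega⟩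
      have h : Nat.Coprime (m - 1) 2 := by
        rw [Nat.coprime_two_right]; exact ⟨l - 1, by omega⟩
      have e : n = 2 + (m - 1) * 2 := by omega
      rw [e, Nat.coprime_add_mul_left_right]
      exact h
    · by_cases h2 : m = 1
      · exact ⟨1, Nat.coprime_one_left n, by omega, by omega⟩
      · refine ⟨m - 2, ?_, by omega, by omega⟩
        have h : Nat.Coprime (m - 2) 4 := by
          rw [show 4 = 2 ^ 2 from rfl]
          apply Nat.Coprime.pow_right
          rw [Nat.coprime_two_right]; exact ⟨l - 1, by omega⟩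
        have e : n = 4 + (m - 2) * 2 := by omega
        rw [e, Nat.coprime_add_mul_left_right]
        exact h
  · refine ⟨m, ?_, by omega, by omega⟩
    have e : n = 1 + m * 2 := by omega
    rw [e, Nat.coprime_add_mul_left_right]
    exact Nat.coprime_one_right m

theorem comm_sq {A : Type*} [Ring A] (a b : A) (ha : a * a = -a - 1) (hb : b * b = -b - 1) :
    (a * b - b * a) * (a * b - b * a) = (a * b + (1 + b) * (1 + a)) * (a * b + (1 + b) * (1 + a)) -
      (a * b + (1 + b) * (1 + a)) - 2 := by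
  have ha' : ∀ x, a * (a * x) = -(a * x) - x := fun x => by rw [← mul_assoc, ha, sub_mul, neg_mul, one_mul]
  have hb' : ∀ x, b * (b * x) = -(b * x) - x := fun x => by rw [← mul_assoc, hb, sub_mul, neg_mul, one_mul]
  rw [show (2 : A) = 1 + 1 by norm_num]
  simp only [mul_add, add_mul, mul_sub, sub_mul, mul_assoc, ha, hb, ha', hb', mul_one, one_mul, mul_neg, neg_mul]
  abel

theorem nr1 {A : Type*} [Ring A] (a b : A) : (1 + b) * (1 + a) = (-b - 1) * (-a - 1) := by noncomm_ring

theorem nr2 {A : Type*} [Ring A] (a b : A) : (-b - 1) * (-a - 1) - (-a - 1) * (-b - 1) = -(a * b - b * a) := by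
  noncomm_ring

variable {G : Type*} [Group G]

open ComplexConjugate in
/-- hermitian form -/
noncomputable def ip [Fintype G] (u v : VF ℂ G) : ℂ := ∑ s, conj ((u : G → ℂ) s) * (v : G → ℂ) s

section
variable [Fintype G]

theorem ip_rho (g : G) (u v : VF ℂ G) : ip (rho ℂ g u) v = ip u (rho ℂ g⁻¹ v) := by
  unfold ip
  simp only [rho_apply, inv_inv]
  exact Fintype.sum_equiv (Equiv.mulLeft g⁻¹) _ _ (fun s => by simp)

theorem ip_sub_left (u u' v : VF ℂ G) : ip (u - u') v = ip u v - ip u' v := by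
  unfold ip
  rw [← Finset.sum_sub_distrib]
  apply Finset.sum_congr rfl
  intro s _
  rw [Submodule.coe_sub, Pi.sub_apply, map_sub, sub_mul]

theorem ip_sub_right (u v v' : VF ℂ G) : ip u (v - v') = ip u v - ip u v' := by
  unfold ip
  rw [← Finset.sum_sub_distrib]
  apply Finset.sum_congr rfl
  intro s _
  rw [Submodule.coe_sub, Pi.sub_apply, mul_sub]

theorem ip_smul_right (c : ℂ) (u v : VF ℂ G) : ip u (c • v) = c * ip u v := by
  unfold ip
  rw [Finset.mul_sum]
  apply Finset.sum_congr rfl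
  intro s _
  rw [Submodule.coe_smul, Pi.smul_apply, smul_eq_mul]
  ring

theorem ip_self (v : VF ℂ G) : ∃ r : ℝ, 0 ≤ r ∧ ip v v = (r : ℂ) ∧ (r = 0 → v = 0) := by
  refine ⟨∑ s, Complex.normSq ((v : G → ℂ) s), Finset.sum_nonneg (fun s _ => Complex.normSq_nonneg _), ?_, ?_⟩
  · unfold ip
    push_cast
    exact Finset.sum_congr rfl (fun s _ => by rw [Complex.normSq_eq_conj_mul_self])
  · intro h
    rw [Finset.sum_eq_zero_iff_of_nonneg (fun s _ => Complex.normSq_nonneg _)] at h
    apply Subtype.ext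
    funext s
    exact Complex.normSq_eq_zero.1 (h s (Finset.mem_univ s))

end

theorem rho_three [Finite G] (K : Type*) [Field K] {x : G} (hx : orderOf x = 3) :
    rho K x * rho K x = -rho K x - 1 := by
  have h1 : x ≠ 1 := by rintro rfl; rw [orderOf_one] at hx; omega
  have h2 := sum_rho K x h1
  rw [hx, Finset.sum_range_succ, Finset.sum_range_succ, Finset.sum_range_succ, Finset.sum_range_zero, pow_zero, pow_one, zero_add, pow_two] at h2
  rw [eq_comm, ← sub_eq_zero, ← neg_eq_zero, ← h2]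
  abel

theorem order_mul [Finite G] (hf : ∃ f : VF ℚ G, f ≠ 0) (x y : G) (hx : orderOf x = 3) (hy : orderOf y = 3)
    (hxy : x * y ≠ y * x) : orderOf (x * y) = 4 ∨ orderOf (x * y) = 6 ∨ orderOf (x * y) = 10 := by
  classical
  haveI := Fintype.ofFinite G
  obtain ⟨f, hf⟩ := hf
  by_contra hcon
  push Not at hcon
  obtain ⟨h4, h6, h10⟩ := hcon
  have hn : 0 < orderOf (x * y) := orderOf_pos _
  have h1 : orderOf (x * y) ≠ 1 := by
    intro h
    rw [orderOf_eq_one_iff] at h
    apply hxy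
    have : y = x⁻¹ := (inv_eq_of_mul_eq_one_right h).symm
    rw [this]; simp
  obtain ⟨k, hk, hk3, hk2⟩ := exists_k _ hn.ne' h1 h4 h6 h10
  set n := orderOf (x * y) with hnn
  have hζ : IsPrimitiveRoot (Complex.exp (2 * Real.pi * Complex.I * (k / n))) n :=
    Complex.isPrimitiveRoot_exp_of_coprime k n hn.ne' hk
  set ζ : ℂ := Complex.exp (2 * Real.pi * Complex.I * (k / n)) with hζd
  obtain ⟨v, hv0, hv⟩ := exists_eigen (x * y) ζ hζ f hf
  set θ : ℝ := 2 * Real.pi * (k / n) with hθ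
  have hζ0 : ζ ≠ 0 := Complex.exp_ne_zero _
  have hτ : ζ + ζ⁻¹ = ((2 * Real.cos θ : ℝ) : ℂ) := by
    rw [hζd, ← Complex.exp_neg]
    push_cast
    rw [Complex.two_cos, hθ]
    push_cast
    congr 1 <;> congr 1 <;> ring
  have hn' : (0 : ℝ) < n := by exact_mod_cast hn
  have hcos : Real.cos θ ≤ -(1 / 2) := by
    have e1 : Real.cos (2 * Real.pi / 3) = -(1 / 2) := by
      rw [show 2 * Real.pi / 3 = Real.pi - Real.pi / 3 by ring, Real.cos_pi_sub, Real.cos_pi_div_three]
    rw [← e1]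
    apply Real.cos_le_cos_of_nonneg_of_le_pi
    · positivity
    · rw [hθ]
      have h2k : (2 * k : ℝ) ≤ n := by exact_mod_cast hk2
      rw [show 2 * Real.pi * (k / n) = Real.pi * ((2 * k) / n) by ring]
      have : (2 * k : ℝ) / n ≤ 1 := by rw [div_le_one hn']; exact h2k
      nlinarith [Real.pi_pos]
    · rw [hθ]
      have h3k : (n : ℝ) ≤ 3 * k := by exact_mod_cast hk3
      have : (1 : ℝ) / 3 ≤ k / n := by rw [div_le_div_iff₀ (by norm_num) hn']; linarith
      rw [show 2 * Real.pi / 3 = 2 * Real.pi * (1 / 3) by ring]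
      apply mul_le_mul_of_nonneg_left this
      positivity
  set a := rho ℂ x with ha
  set b := rho ℂ y with hb
  have ha3 := rho_three ℂ hx
  have hb3 := rho_three ℂ hy
  rw [← ha] at ha3
  rw [← hb] at hb3
  have hx1 : x ^ 3 = 1 := by rw [← hx]; exact pow_orderOf_eq_one x
  have hy1 : y ^ 3 = 1 := by rw [← hy]; exact pow_orderOf_eq_one y
  have hainv : rho ℂ x⁻¹ = -a - 1 := by
    rw [← ha3, ha, ← map_mul]
    congr 1
    rw [inv_eq_iff_mul_eq_one, ← hx1, pow_succ, pow_two, mul_assoc]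
  have hbinv : rho ℂ y⁻¹ = -b - 1 := by
    rw [← hb3, hb, ← map_mul]
    congr 1
    rw [inv_eq_iff_mul_eq_one, ← hy1, pow_succ, pow_two, mul_assoc]
  -- action of t
  have hv' : rho ℂ (x * y)⁻¹ v = ζ⁻¹ • v := by
    have h2 : rho ℂ (x * y)⁻¹ (rho ℂ (x * y) v) = v := by
      rw [← Module.End.mul_apply, ← map_mul, inv_mul_cancel, map_one]; rfl
    rw [hv, map_smul] at h2
    rw [← h2, smul_smul, inv_mul_cancel₀ hζ0, one_smul, h2]
  set t := a * b + (1 + b) * (1 + a) with ht
  have htv : t v = ((2 * Real.cos θ : ℝ) : ℂ) • v := by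
    have h2 : (1 + b) * (1 + a) = rho ℂ (x * y)⁻¹ := by
      rw [mul_inv_rev, map_mul, hainv, hbinv]
      exact nr1 a b
    rw [ht, h2, LinearMap.add_apply, hv', ← hτ, add_smul, ← hv, map_mul]
  have hd2 : ((a * b - b * a) * (a * b - b * a)) v = (((2 * Real.cos θ - 2) * (2 * Real.cos θ + 1) : ℝ) : ℂ) • v := by
    rw [comm_sq a b ha3 hb3, ← ht]
    rw [LinearMap.sub_apply, LinearMap.sub_apply, Module.End.mul_apply, htv, map_smul, htv, smul_smul]
    have h2 : (2 : Module.End ℂ (VF ℂ G)) v = (2 : ℂ) • v := by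
      rw [show (2 : Module.End ℂ (VF ℂ G)) = 1 + 1 by norm_num, LinearMap.add_apply, Module.End.one_apply, two_smul]
    rw [h2, ← sub_smul, ← sub_smul]
    congr 1
    push_cast
    ring
  -- d is skew
  have hskew : ∀ u w : VF ℂ G, ip ((a * b - b * a) u) w = - ip u ((a * b - b * a) w) := by
    intro u w
    have e1 : (a * b - b * a) = rho ℂ (x * y) - rho ℂ (y * x) := by rw [map_mul, map_mul]
    have e3 : rho ℂ (x * y)⁻¹ - rho ℂ (y * x)⁻¹ = -(a * b - b * a) := by
      rw [mul_inv_rev, mul_inv_rev, map_mul, map_mul, hainv, hbinv]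
      exact nr2 a b
    conv_lhs => rw [e1, LinearMap.sub_apply, ip_sub_left, ip_rho, ip_rho, ← ip_sub_right, ← LinearMap.sub_apply, e3]
    rw [LinearMap.neg_apply]
    unfold ip
    rw [← Finset.sum_neg_distrib]
    apply Finset.sum_congr rfl
    intro s _
    rw [Submodule.coe_neg, Pi.neg_apply, mul_neg]
  obtain ⟨r, hr0, hr, hr1⟩ := ip_self v
  obtain ⟨r', hr0', hr', hr1'⟩ := ip_self ((a * b - b * a) v)
  have hkey : r' = -((2 * Real.cos θ - 2) * (2 * Real.cos θ + 1)) * r := by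
    have h2 := hskew v ((a * b - b * a) v)
    rw [hr', ← Module.End.mul_apply, hd2, ip_smul_right, hr] at h2
    rw [← Complex.ofReal_mul, ← Complex.ofReal_neg, Complex.ofReal_inj] at h2
    rw [h2]; ring
  have hpos : 0 ≤ (2 * Real.cos θ - 2) * (2 * Real.cos θ + 1) := by nlinarith
  have hr'0 : r' = 0 := by
    apply le_antisymm _ hr0'
    rw [hkey]
    nlinarith [mul_nonneg hpos hr0]
  have hdv := hr1' hr'0
  rw [LinearMap.sub_apply, sub_eq_zero] at hdv
  -- now xy = yx
  apply hv0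
  apply rho_free ℂ ((y * x)⁻¹ * (x * y))
  · intro h
    apply hxy
    exact (inv_mul_eq_one.1 h).symm
  · rw [map_mul, Module.End.mul_apply, map_mul (rho ℂ) x y, ← ha, ← hb, hdv, ha, hb, ← map_mul, ← Module.End.mul_apply, ← map_mul, inv_mul_cancel, map_one]
    rfl

end Cfsg.Agent.H21.ZF
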