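import Cfsg.Agent.H21.ZF3

set_option autoImplicit false
set_option linter.all false

/-!
Zassenhaus' theorem, part 4 (helper21): relations in the ring of operators.
-/

namespace Cfsg.Agent.H21.ZF

/-- the data used: a homomorphism to a ring in which sums over non-trivial cyclic groups vanish, and
the restriction on products of two elements of order three. -/
structure ZD {G : Type*} [Group G] {A : Type*} [Ring A] (ρ : G →* A) : Prop where
  hN : ∀ g : G, g ≠ 1 → ∑ i ∈ Finset.range (orderOf g), (ρ g) ^ i = 0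
  hP : ∀ x y : G, orderOf x = 3 → orderOf y = 3 → x * y ≠ y * x →
    orderOf (x * y) = 4 ∨ orderOf (x * y) = 6 ∨ orderOf (x * y) = 10

variable {G : Type*} [Group G] [Finite G] {A : Type*} [Ring A] [Algebra ℚ A] [Nontrivial A] {ρ : G →* A}

theorem nsmul_inj {n : ℕ} (hn : n ≠ 0) {u : A} (h : (n : A) * u = 0) : u = 0 := by
  have h1 : ((n : ℚ)) • u = 0 := by
    rw [Algebra.smul_def, map_natCast]; exact h
  rcases smul_eq_zero.1 h1 with h2 | h2
  · exact absurd (by exact_mod_cast h2) hn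
  · exact h2

theorem charZero_A : CharZero A := by
  haveI : FaithfulSMul ℚ A := inferInstance
  exact algebraRat.charZero A

namespace ZD

variable (D : ZD ρ)
include D

theorem eq_zero_left {g : G} (hg : g ≠ 1) {u : A} (h : ρ g * u = u) : u = 0 := by
  have h1 := D.hN g hg
  have h2 : ∀ i : ℕ, ρ g ^ i * u = u := by
    intro i
    induction i with
    | zero => rw [pow_zero, one_mul]
    | succ n ih => rw [pow_succ', mul_assoc, ih, h]
  have h3 := congrArg (· * u) h1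
  simp only [Finset.sum_mul, h2, Finset.sum_const, Finset.card_range, zero_mul, nsmul_eq_mul] at h3
  exact nsmul_inj (orderOf_pos g).ne' h3

theorem inj {g h : G} (e : ρ g = ρ h) : g = h := by
  by_contra hne
  have h1 : (h⁻¹ * g) ≠ 1 := fun h1 => hne (inv_mul_eq_one.1 h1).symm
  have h2 := D.eq_zero_left (u := 1) h1 (by rw [mul_one, map_mul, e, ← map_mul, inv_mul_cancel, map_one])
  exact one_ne_zero h2

theorem inv_two {z : G} (hz : orderOf z = 2) : ρ z = -1 := by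
  have h1 : z ≠ 1 := by rintro rfl; rw [orderOf_one] at hz; omega
  have h2 := D.hN z h1
  rw [hz, Finset.sum_range_succ, Finset.sum_range_succ, Finset.sum_range_zero, pow_zero, pow_one, zero_add] at h2
  exact (neg_eq_of_add_eq_zero_right h2).symm

theorem rel3 {x : G} (hx : orderOf x = 3) : ρ x * ρ x = -ρ x - 1 := by
  have h1 : x ≠ 1 := by rintro rfl; rw [orderOf_one] at hx; omega
  have h2 := D.hN x h1
  rw [hx, Finset.sum_range_succ, Finset.sum_range_succ, Finset.sum_range_succ, Finset.sum_range_zero, pow_zero, pow_one, zero_add, pow_two] at h2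
  rw [eq_comm, ← sub_eq_zero, ← neg_eq_zero, ← h2]
  abel

theorem inv3 {x : G} (hx : orderOf x = 3) : ρ x⁻¹ = -ρ x - 1 := by
  rw [← D.rel3 hx, ← map_mul]
  congr 1
  rw [inv_eq_iff_mul_eq_one, ← pow_orderOf_eq_one x, hx, pow_succ, pow_two, mul_assoc]

theorem rel4 {q : G} (hq : orderOf q = 4) : ρ q * ρ q = -1 := by
  rw [← map_mul]
  apply D.inv_two
  have := orderOf_pow_of_dvd (x := q) (n := 2) (by norm_num) (by rw [hq]; norm_num)
  rw [hq, pow_two] at this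
  exact this

theorem inv4 {q : G} (hq : orderOf q = 4) : ρ q⁻¹ = -ρ q := by
  have h := D.rel4 hq
  calc ρ q⁻¹ = ρ q⁻¹ * (-(ρ q * ρ q)) := by rw [h, neg_neg, mul_one]
    _ = -(ρ (q⁻¹ * q) * ρ q) := by rw [map_mul, mul_neg, mul_assoc]
    _ = -ρ q := by rw [inv_mul_cancel, map_one, one_mul]

/-- `t = g + g⁻¹` -/
theorem tr3 {g : G} (hg : orderOf g = 3) : ρ g + ρ g⁻¹ = -1 := by
  rw [D.inv3 hg]; abel

theorem tr4 {g : G} (hg : orderOf g = 4) : ρ g + ρ g⁻¹ = 0 := by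
  rw [D.inv4 hg]; abel

theorem pow_three_neg {g : G} (hg : orderOf g = 6) : ρ g ^ 3 = -1 := by
  rw [← map_pow]
  apply D.inv_two
  have := orderOf_pow_of_dvd (x := g) (n := 3) (by norm_num) (by rw [hg]; norm_num)
  rw [hg] at this
  exact this

theorem tr6 {g : G} (hg : orderOf g = 6) : ρ g + ρ g⁻¹ = 1 := by
  have h3 := D.pow_three_neg hg
  have h2 : orderOf (g ^ 2) = 3 := by
    have := orderOf_pow_of_dvd (x := g) (n := 2) (by norm_num) (by rw [hg]; norm_num)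
    rw [hg] at this
    exact this
  have h4 := D.rel3 h2
  rw [map_pow] at h4
  have h5 : ρ g ^ 2 = ρ g - 1 := by
    have : ρ g ^ 2 * ρ g ^ 2 = -ρ g := by
      rw [← pow_add, show 2 + 2 = 3 + 1 from rfl, pow_add, h3, pow_one, neg_mul, one_mul]
    rw [this] at h4
    calc ρ g ^ 2 = -(-(ρ g ^ 2) - 1) - 1 := by abel
      _ = ρ g - 1 := by rw [← h4, neg_neg]
  have h6 : ρ g⁻¹ = -(ρ g ^ 2) := by
    have h7 : g⁻¹ = g ^ 5 := by
      have h8 : g ^ (5 + 1) = 1 := by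
        have := pow_orderOf_eq_one g
        rwa [hg] at this
      rw [inv_eq_iff_mul_eq_one, ← pow_succ', h8]
    rw [h7, map_pow, show 5 = 3 + 2 from rfl, pow_add, h3, neg_mul, one_mul]
  rw [h6, h5]
  abel

theorem phi5 {g : G} (hg : orderOf g = 5) : 1 + ρ g + ρ g ^ 2 + ρ g ^ 3 + ρ g ^ 4 = 0 := by
  have h1 : g ≠ 1 := by rintro rfl; rw [orderOf_one] at hg; omega
  have h2 := D.hN g h1
  rw [hg] at h2
  simpa [Finset.sum_range_succ] using h2

theorem tr5 {g : G} (hg : orderOf g = 5) : (ρ g + ρ g⁻¹) * (ρ g + ρ g⁻¹) = 1 - (ρ g + ρ g⁻¹) := by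
  have h1 := D.phi5 hg
  have h7 : g⁻¹ = g ^ 4 := by
    have h8 : g ^ (4 + 1) = 1 := by
      have := pow_orderOf_eq_one g
      rwa [hg] at this
    rw [inv_eq_iff_mul_eq_one, ← pow_succ', h8]
  have h5 : ρ g ^ 5 = 1 := by rw [← map_pow, ← hg, pow_orderOf_eq_one, map_one]
  rw [h7, map_pow]
  have e1 : (ρ g + ρ g ^ 4) * (ρ g + ρ g ^ 4) = ρ g ^ 2 + ρ g ^ 5 + ρ g ^ 5 + ρ g ^ 3 * ρ g ^ 5 := by
    noncomm_ring
  rw [e1, h5, mul_one]
  have : 1 - (ρ g + ρ g ^ 4) = 1 + 1 + ρ g ^ 2 + ρ g ^ 3 - (1 + ρ g + ρ g ^ 2 + ρ g ^ 3 + ρ g ^ 4) := by abel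
  rw [this, h1, sub_zero]
  abel

theorem tr10 {g : G} (hg : orderOf g = 10) : (ρ g + ρ g⁻¹) * (ρ g + ρ g⁻¹) = 1 + (ρ g + ρ g⁻¹) := by
  have h2 : orderOf (g ^ 6) = 5 := by
    have h3 : orderOf (g ^ 6) = 10 / Nat.gcd 10 6 := by rw [orderOf_pow, hg]
    rw [h3]; rfl
  have h5 : ρ (g ^ 5) = -1 := by
    apply D.inv_two
    have := orderOf_pow_of_dvd (x := g) (n := 5) (by norm_num) (by rw [hg]; norm_num)
    rw [hg] at this
    exact this
  have h6 : ρ (g ^ 6) = -ρ g := by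
    rw [show 6 = 5 + 1 from rfl, pow_add, map_mul, h5, pow_one, neg_mul, one_mul]
  have h7 : ρ (g ^ 6)⁻¹ = -ρ g⁻¹ := by
    rw [show 6 = 5 + 1 from rfl, pow_add, pow_one, mul_inv_rev, map_mul]
    have : (g ^ 5)⁻¹ = g ^ 5 := by
      have h8 : g ^ (5 + 5) = 1 := by
        have := pow_orderOf_eq_one g
        rwa [hg] at this
      rw [inv_eq_iff_mul_eq_one, ← pow_add, h8]
    rw [this, h5, mul_neg, mul_one]
  have := D.tr5 h2
  rw [h6, h7] at this
  have e : -ρ g + -ρ g⁻¹ = -(ρ g + ρ g⁻¹) := by abel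
  rw [e, neg_mul_neg, sub_neg_eq_add] at this
  exact this

end ZD

/-- the basic linear operator -/
def Lm (b u : A) : A := u * b + b * u + u

theorem Lm_add (b u v : A) : Lm b (u + v) = Lm b u + Lm b v := by unfold Lm; noncomm_ring
theorem Lm_sub (b u v : A) : Lm b (u - v) = Lm b u - Lm b v := by unfold Lm; noncomm_ring
theorem Lm_neg (b u : A) : Lm b (-u) = -Lm b u := by unfold Lm; noncomm_ring

namespace ZD
variable (D : ZD ρ)
include D

theorem Lm_four {q y : G} (hq : orderOf q = 4) (hy : orderOf y = 3) :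
    Lm (ρ y) (ρ q) = ρ (q * y) + ρ (q * y)⁻¹ := by
  rw [mul_inv_rev, map_mul, map_mul, D.inv4 hq, D.inv3 hy]
  unfold Lm
  noncomm_ring

theorem Lm_three {x y : G} (hx : orderOf x = 3) (hy : orderOf y = 3) :
    Lm (ρ y) (2 * ρ x + 1) = 2 * (ρ (x * y) + ρ (x * y)⁻¹) - 1 := by
  rw [mul_inv_rev, map_mul, map_mul, D.inv3 hx, D.inv3 hy]
  unfold Lm
  noncomm_ring

theorem E_type {x y : G} (hx : orderOf x = 3) (hy : orderOf y = 3) (hxy : x * y ≠ y * x) :
    (orderOf (x * y) = 6 ∧ Lm (ρ y) (2 * ρ x + 1) = 1) ∨ (orderOf (x * y) = 4 ∧ Lm (ρ y) (2 * ρ x + 1) = -1) ∨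
      (orderOf (x * y) = 10 ∧ Lm (ρ y) (2 * ρ x + 1) * Lm (ρ y) (2 * ρ x + 1) = 5) := by
  rw [D.Lm_three hx hy]
  rcases D.hP x y hx hy hxy with h | h | h
  · right; left
    refine ⟨h, ?_⟩
    rw [D.tr4 h]; noncomm_ring
  · left
    refine ⟨h, ?_⟩
    rw [D.tr6 h]; noncomm_ring
  · right; right
    refine ⟨h, ?_⟩
    have h1 := D.tr10 h
    set t := ρ (x * y) + ρ (x * y)⁻¹ with ht
    have : (2 * t - 1) * (2 * t - 1) = 4 * (t * t) - 4 * t + 1 := by noncomm_ring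
    rw [this, h1]
    have e5 : (5 : A) = 1 + 1 + 1 + 1 + 1 := by norm_num
    have e4 : (4 : A) = 1 + 1 + 1 + 1 := by norm_num
    rw [e5, e4]
    noncomm_ring

theorem comm_three {x y : G} (hx : orderOf x = 3) (hy : orderOf y = 3) (hxy : x * y = y * x) : y = x ∨ y = x⁻¹ := by
  by_contra hcon
  push Not at hcon
  obtain ⟨h1, h2⟩ := hcon
  have hc : ρ x * ρ y = ρ y * ρ x := by rw [← map_mul, hxy, map_mul]
  have h3 : (ρ y - ρ x) * (ρ y - ρ x⁻¹) = 0 := by
    rw [D.inv3 hx]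
    have e : (ρ y - ρ x) * (ρ y - (-ρ x - 1)) = ρ y * ρ y + ρ y * ρ x + ρ y - ρ x * ρ y - ρ x * ρ x - ρ x := by
      noncomm_ring
    rw [e, D.rel3 hx, D.rel3 hy, hc]
    abel
  have h4 : ρ y - ρ x⁻¹ = 0 := by
    apply D.eq_zero_left (g := x⁻¹ * y) (fun h => h1 (inv_mul_eq_one.1 h).symm)
    rw [sub_mul, sub_eq_zero] at h3
    rw [map_mul, mul_assoc, h3, ← mul_assoc, ← map_mul, inv_mul_cancel, map_one, one_mul]
  exact h2 (D.inj (sub_eq_zero.1 h4))

end ZD

end Cfsg.Agent.H21.ZF
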