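import Cfsg.Agent.H21.ZF4

set_option autoImplicit false
set_option linter.all false

/-!
Zassenhaus' theorem, part 5 (helper21): types of pairs, the frame lemma.
-/

namespace Cfsg.Agent.H21.ZF

section ring
variable {A : Type*} [Ring A] [Algebra ℚ A] [Nontrivial A]

theorem num_ne {n : ℕ} (hn : n ≠ 0) : (n : A) ≠ 0 := by
  intro h
  exact one_ne_zero (nsmul_inj (A := A) hn (u := 1) (by rw [h, zero_mul]))

theorem caseA {e0 e1 e2 e3 : A} (hs : e0 + e1 + e2 + e3 = 0) (h0 : e0 * e0 = 5)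
    (h1 : e1 = 1 ∨ e1 = -1) (h2 : e2 = 1 ∨ e2 = -1) (h3 : e3 = 1 ∨ e3 = -1) : False := by
  have hsum : e0 = -(e1 + e2 + e3) := by
    rw [eq_neg_iff_add_eq_zero, ← hs]; abel
  have n4 : ((4 : ℕ) : A) ≠ 0 := num_ne (by norm_num)
  push_cast at n4
  rw [hsum] at h0
  rcases h1 with rfl | rfl <;> rcases h2 with rfl | rfl <;> rcases h3 with rfl | rfl <;> norm_num at h0 <;>
    · apply n4
      first
      | (have h9 : (9 : A) - 5 = 0 := by rw [h0, sub_self]
         rw [← h9]; norm_num)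
      | (have h9 : (5 : A) - 1 = 0 := by rw [← h0]; norm_num
         rw [← h9]; norm_num)
      | (have h9 : (5 : A) - 1 = 0 := by rw [h0]; norm_num
         rw [← h9]; norm_num)

theorem sq_five_ne_one {e : A} (h0 : e * e = 5) : e ≠ 1 ∧ e ≠ -1 := by
  have n4 : ((4 : ℕ) : A) ≠ 0 := num_ne (by norm_num)
  push_cast at n4
  constructor
  · rintro rfl
    rw [mul_one] at h0
    apply n4
    calc (4 : A) = 5 - 1 := by norm_num
      _ = 0 := by rw [← h0, sub_self]
  · rintro rfl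
    rw [neg_mul_neg, mul_one] at h0
    apply n4
    calc (4 : A) = 5 - 1 := by norm_num
      _ = 0 := by rw [← h0, sub_self]

theorem caseB {e0 e1 e2 e3 : A} (hs : e0 + e1 + e2 + e3 = 0) (h0 : e0 * e0 = 5)
    (h1 : e1 = 1 ∨ e1 = -1) (h2 : e2 = 1 ∨ e2 = -1) (h3 : e3 * e3 = 5) : e2 = -e1 ∧ e3 = -e0 := by
  obtain ⟨n1, n2⟩ := sq_five_ne_one h0
  have aux : ∀ e : A, e * e = 5 → (-(e + 1 + 1)) * (-(e + 1 + 1)) = 5 → e = -1 := by
    intro e he he'
    have e1 : (-(e + 1 + 1)) * (-(e + 1 + 1)) = e * e + ((4 : ℕ) : A) * (e + 1) := by push_cast; noncomm_ring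
    rw [e1, he] at he'
    have := nsmul_inj (A := A) (n := 4) (by norm_num) (by simpa using he' : ((4 : ℕ) : A) * (e + 1) = 0)
    exact eq_neg_of_add_eq_zero_left this
  have hsum : e3 = -(e0 + e1 + e2) := by
    rw [eq_neg_iff_add_eq_zero, ← hs]; abel
  rcases h1 with rfl | rfl <;> rcases h2 with rfl | rfl
  · exfalso
    rw [hsum] at h3
    exact n2 (aux e0 h0 h3)
  · refine ⟨rfl, ?_⟩
    rw [hsum]; abel
  · refine ⟨(neg_neg 1).symm, ?_⟩
    rw [hsum]; abel
  · exfalso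
    rw [hsum] at h3
    have := aux (-e0) (by rw [neg_mul_neg]; exact h0) (by
      rw [← h3]; noncomm_ring)
    apply n1
    exact neg_injective this

theorem caseC {e0 e1 e2 e3 : A} (hs : e0 + e1 + e2 + e3 = 0) (h0 : e0 * e0 = 5)
    (h1 : e1 = 1 ∨ e1 = -1) (h2 : e2 * e2 = 5) (h3 : e3 * e3 = 5) : False := by
  have aux : ∀ e f : A, e * e = 5 → f * f = 5 → (-(e + 1 + f)) * (-(e + 1 + f)) = 5 → False := by
    intro e f he hf hh
    have k1 : e * f + f * e + 2 * e + 2 * f + 6 = 0 := by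
      have e1 : (-(e + 1 + f)) * (-(e + 1 + f)) = e * e + f * f + 1 + e * f + f * e + 2 * e + 2 * f := by noncomm_ring
      rw [e1, he, hf] at hh
      have : e * f + f * e + 2 * e + 2 * f + 6 = (5 + 5 + 1 + e * f + f * e + 2 * e + 2 * f) - 5 := by
        have : (6 : A) = 5 + 1 := by norm_num
        rw [this]; abel
      rw [this, hh, sub_self]
    have k2 : ((2 : ℕ) : A) * (e * f - f * e) = 0 := by
      have e1 : e * (e * f + f * e + 2 * e + 2 * f + 6) - (e * f + f * e + 2 * e + 2 * f + 6) * e =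
          (e * e) * f - f * (e * e) + ((2 : ℕ) : A) * (e * f - f * e) := by
        push_cast
        have : (6 : A) = 1 + 1 + 1 + 1 + 1 + 1 := by norm_num
        rw [this]
        noncomm_ring
      rw [k1, mul_zero, zero_mul, sub_zero, he] at e1
      have e5 : (5 : A) * f = f * 5 := by
        have : (5 : A) = 1 + 1 + 1 + 1 + 1 := by norm_num
        rw [this]; noncomm_ring
      rw [e5, sub_self, zero_add] at e1
      exact e1.symm
    have k3 := nsmul_inj (A := A) (by norm_num) k2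
    rw [sub_eq_zero] at k3
    have k4 : e * f + e + f + 3 = 0 := by
      apply nsmul_inj (A := A) (n := 2) (by norm_num)
      rw [← k1, ← k3]
      push_cast
      have h6 : (6 : A) = 2 * 3 := by norm_num
      rw [h6]
      noncomm_ring
    have k5 : e + 2 * f + 1 = 0 := by
      apply nsmul_inj (A := A) (n := 2) (by norm_num)
      have e1 : (e - 1) * (e * f + e + f + 3) = (e * e) * f + e * e + 2 * e - f - 3 := by
        have : (3 : A) = 1 + 1 + 1 := by norm_num
        rw [this]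
        noncomm_ring
      rw [k4, mul_zero, he] at e1
      rw [e1]
      push_cast
      have h5 : (5 : A) = 1 + 1 + 1 + 1 + 1 := by norm_num
      have h3 : (3 : A) = 1 + 1 + 1 := by norm_num
      rw [h5, h3]
      noncomm_ring
    have k6 : e = -(2 * f + 1) := by rw [eq_neg_iff_add_eq_zero, ← k5]; abel
    have k7 : f = -4 := by
      have h1 : e * e = 4 * (f * f) + 4 * f + 1 := by rw [k6]; noncomm_ring
      rw [he, hf] at h1
      have h2 : ((4 : ℕ) : A) * (f + 4) = 0 := by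
        have : ((4 : ℕ) : A) * (f + 4) = (4 * 5 + 4 * f + 1) - 5 := by
          push_cast
          have h5 : (5 : A) = 1 + 1 + 1 + 1 + 1 := by norm_num
          have h4 : (4 : A) = 1 + 1 + 1 + 1 := by norm_num
          rw [h5, h4]
          noncomm_ring
        rw [this, ← h1, sub_self]
      exact eq_neg_of_add_eq_zero_left (nsmul_inj (by norm_num) h2)
    rw [k7] at hf
    have n11 : ((11 : ℕ) : A) ≠ 0 := num_ne (by norm_num)
    apply n11
    push_cast
    have : (11 : A) = (-4) * (-4) - 5 := by norm_num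
    rw [this, hf, sub_self]
  have hsum : e3 = -(e0 + e1 + e2) := by
    rw [eq_neg_iff_add_eq_zero, ← hs]; abel
  rcases h1 with rfl | rfl
  · rw [hsum] at h3
    exact aux e0 e2 h0 h2 h3
  · rw [hsum] at h3
    exact aux (-e0) (-e2) (by rw [neg_mul_neg]; exact h0) (by rw [neg_mul_neg]; exact h2) (by rw [← h3]; noncomm_ring)

theorem caseD {e t : A} (h0 : e * e = 5) (h1 : (2 * t - e) * (2 * t - e) = 5)
    (ht : t = 1 ∨ t = -1 ∨ t * t = 1 + t ∨ t * t = 1 - t) : False := by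
  have aux : ∀ e t : A, e * e = 5 → (2 * t - e) * (2 * t - e) = 5 → (t = 1 ∨ t * t = 1 + t) → False := by
    intro e t h0 h1 ht
    have k1 : 2 * (t * t) = t * e + e * t := by
      have e1 : (2 * t - e) * (2 * t - e) = ((2 : ℕ) : A) * (2 * (t * t) - (t * e + e * t)) + e * e := by
        push_cast; noncomm_ring
      rw [e1, h0] at h1
      have h2 : ((2 : ℕ) : A) * (2 * (t * t) - (t * e + e * t)) = 0 := by
        have := congrArg (· - (5 : A)) h1
        simpa using this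
      exact sub_eq_zero.1 (nsmul_inj (by norm_num) h2)
    rcases ht with rfl | ht
    · rw [mul_one, one_mul, mul_one, mul_one] at k1
      have h2 : ((2 : ℕ) : A) * (e - 1) = 0 := by
        have : ((2 : ℕ) : A) * (e - 1) = (e + e) - 2 := by push_cast; rw [mul_sub, mul_one, two_mul]
        rw [this, ← k1, sub_self]
      exact (sq_five_ne_one h0).1 (sub_eq_zero.1 (nsmul_inj (by norm_num) h2))
    · have k2 : t * e = e * t := by
        have e1 : t * (t * e + e * t) - (t * e + e * t) * t = (t * t) * e - e * (t * t) := by noncomm_ring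
        rw [← k1] at e1
        have e2 : t * (2 * (t * t)) - 2 * (t * t) * t = 0 := by noncomm_ring
        rw [e2, ht] at e1
        have : (1 + t) * e - e * (1 + t) = t * e - e * t := by noncomm_ring
        rw [this] at e1
        exact sub_eq_zero.1 e1.symm
      have k3 : t * (t - e) = 0 := by
        apply nsmul_inj (A := A) (n := 2) (by norm_num)
        have : ((2 : ℕ) : A) * (t * (t - e)) = 2 * (t * t) - (t * e + t * e) := by push_cast; noncomm_ring
        rw [this, k1, k2, sub_self]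
      have k4 : t = e := by
        have e1 : (t - 1) * (t * (t - e)) = (t * t - t) * (t - e) := by noncomm_ring
        rw [k3, mul_zero, ht, add_sub_cancel_right, one_mul] at e1
        exact sub_eq_zero.1 e1.symm
      rw [k4, h0] at ht
      have k5 : e = 4 := by
        have : e = (1 + e) - 1 := by abel
        rw [this, ← ht]; norm_num
      rw [k5] at h0
      have n11 : ((11 : ℕ) : A) ≠ 0 := num_ne (by norm_num)
      apply n11
      push_cast
      have : (11 : A) = 4 * 4 - 5 := by norm_num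
      rw [this, h0, sub_self]
  rcases ht with h | h | h | h
  · exact aux e t h0 h1 (Or.inl h)
  · exact aux (-e) (-t) (by rw [neg_mul_neg]; exact h0) (by rw [← h1]; noncomm_ring) (Or.inl (by rw [h, neg_neg]))
  · exact aux e t h0 h1 (Or.inr h)
  · exact aux (-e) (-t) (by rw [neg_mul_neg]; exact h0) (by rw [← h1]; noncomm_ring) (Or.inr (by rw [neg_mul_neg, h]; abel))

/-- the operator identity behind the types of pairs of elements of orders 4 and 3 -/
theorem Lm_conj {b u : A} (hb : b * b = -b - 1) (hu : u * u = -1) :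
    Lm (-u * b * u) (2 * b + 1) = 3 - 2 * (Lm b u * Lm b u) := by
  have hb' : ∀ x, b * (b * x) = -(b * x) - x := fun x => by rw [← mul_assoc, hb, sub_mul, neg_mul, one_mul]
  have hu' : ∀ x, u * (u * x) = -x := fun x => by rw [← mul_assoc, hu, neg_mul, one_mul]
  unfold Lm
  rw [show (3 : A) = 1 + 1 + 1 by norm_num, show (2 : A) = 1 + 1 by norm_num]
  simp only [mul_add, add_mul, mul_sub, sub_mul, mul_assoc, hb, hu, hb', hu', mul_one, one_mul, mul_neg, neg_mul, neg_neg]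
  abel

end ring

namespace ZD
variable {G : Type*} [Group G] [Finite G] {A : Type*} [Ring A] [Algebra ℚ A] [Nontrivial A] {ρ : G →* A}
variable (D : ZD ρ)
include D

theorem order_of_sq_one {g : G} (h : (ρ g + ρ g⁻¹) * (ρ g + ρ g⁻¹) = 1) :
    ρ g + ρ g⁻¹ = 1 ∨ ρ g + ρ g⁻¹ = -1 := by
  have hg : ρ g * ρ g⁻¹ = 1 := by rw [← map_mul, mul_inv_cancel, map_one]
  have hg' : ρ g⁻¹ * ρ g = 1 := by rw [← map_mul, inv_mul_cancel, map_one]
  have h1 : ρ g * ρ g * (ρ g * ρ g) + ρ g * ρ g + 1 = 0 := by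
    have e1 : (ρ g * ρ g) * ((ρ g + ρ g⁻¹) * (ρ g + ρ g⁻¹)) =
        ρ g * ρ g * (ρ g * ρ g) + ρ g * ρ g * (ρ g * ρ g⁻¹) + ρ g * ρ g * (ρ g⁻¹ * ρ g) + ρ g * (ρ g * ρ g⁻¹) * ρ g⁻¹ := by
      noncomm_ring
    rw [h, hg, hg'] at e1
    simp only [mul_one, hg] at e1
    calc ρ g * ρ g * (ρ g * ρ g) + ρ g * ρ g + 1 = (ρ g * ρ g * (ρ g * ρ g) + ρ g * ρ g + ρ g * ρ g + 1) - ρ g * ρ g := by abel
      _ = 0 := by rw [← e1, sub_self]
  have h6 : g ^ 6 = 1 := by
    apply D.inj
    rw [map_one, map_pow]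
    have : ρ g ^ 6 - 1 = (ρ g * ρ g - 1) * (ρ g * ρ g * (ρ g * ρ g) + ρ g * ρ g + 1) := by noncomm_ring
    rw [h1, mul_zero] at this
    exact sub_eq_zero.1 this
  have hd := orderOf_dvd_of_pow_eq_one h6
  have hd2 : g ^ 2 ≠ 1 := by
    intro h2
    have : ρ g * ρ g = 1 := by rw [← map_mul, ← pow_two, h2, map_one]
    rw [this, mul_one] at h1
    have n3 : ((3 : ℕ) : A) ≠ 0 := num_ne (by norm_num)
    apply n3
    rw [← h1]; norm_num
  have hle := Nat.le_of_dvd (by norm_num) hd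
  have hpos := orderOf_pos g
  have h1' : orderOf g ≠ 1 := fun h' => hd2 (by rw [orderOf_eq_one_iff.1 h', one_pow])
  have h2' : orderOf g ≠ 2 := fun h' => hd2 (by rw [← h']; exact pow_orderOf_eq_one g)
  have : orderOf g = 3 ∨ orderOf g = 6 := by
    interval_cases h : orderOf g <;> simp_all
  rcases this with h | h
  · right; exact D.tr3 h
  · left; exact D.tr6 h

theorem order_of_quart {g : G} (h : (ρ g + ρ g⁻¹) * (ρ g + ρ g⁻¹) * ((ρ g + ρ g⁻¹) * (ρ g + ρ g⁻¹)) + 1 =
    3 * ((ρ g + ρ g⁻¹) * (ρ g + ρ g⁻¹))) :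
    (ρ g + ρ g⁻¹) * (ρ g + ρ g⁻¹) = 1 + (ρ g + ρ g⁻¹) ∨ (ρ g + ρ g⁻¹) * (ρ g + ρ g⁻¹) = 1 - (ρ g + ρ g⁻¹) := by
  have hg : ρ g * ρ g⁻¹ = 1 := by rw [← map_mul, mul_inv_cancel, map_one]
  have hg' : ρ g⁻¹ * ρ g = 1 := by rw [← map_mul, inv_mul_cancel, map_one]
  have h1 : ρ g ^ 8 + ρ g ^ 6 + ρ g ^ 4 + ρ g ^ 2 + 1 = 0 := by
    have e0 : ρ g * (ρ g + ρ g⁻¹) = ρ g ^ 2 + 1 := by rw [mul_add, hg, pow_two]
    have e0' : (ρ g + ρ g⁻¹) * ρ g = ρ g * (ρ g + ρ g⁻¹) := by rw [mul_add, add_mul, hg, hg']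
    set s := ρ g + ρ g⁻¹ with hs
    have e1 : ρ g ^ 2 * (s * s) = (ρ g ^ 2 + 1) ^ 2 := by
      calc ρ g ^ 2 * (s * s) = ρ g * (ρ g * s) * s := by noncomm_ring
        _ = ρ g * (s * ρ g) * s := by rw [e0']
        _ = (ρ g * s) * (ρ g * s) := by noncomm_ring
        _ = _ := by rw [e0, ← pow_two (ρ g ^ 2 + 1)]
    have e2 : (s * s) * ρ g ^ 2 = ρ g ^ 2 * (s * s) := by
      calc (s * s) * ρ g ^ 2 = s * (s * ρ g) * ρ g := by noncomm_ring
        _ = s * (ρ g * s) * ρ g := by rw [e0']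
        _ = (s * ρ g) * (s * ρ g) := by noncomm_ring
        _ = (ρ g * s) * (ρ g * s) := by rw [e0']
        _ = ρ g * (s * ρ g) * s := by noncomm_ring
        _ = ρ g * (ρ g * s) * s := by rw [e0']
        _ = _ := by noncomm_ring
    have e3 : ρ g ^ 4 * (s * s * (s * s)) = (ρ g ^ 2 + 1) ^ 4 := by
      calc ρ g ^ 4 * (s * s * (s * s)) = ρ g ^ 2 * (ρ g ^ 2 * (s * s)) * (s * s) := by noncomm_ring
        _ = ρ g ^ 2 * ((s * s) * ρ g ^ 2) * (s * s) := by rw [e2]
        _ = (ρ g ^ 2 * (s * s)) * (ρ g ^ 2 * (s * s)) := by noncomm_ring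
        _ = _ := by rw [e1]; noncomm_ring
    have e4 : ρ g ^ 4 * (s * s * (s * s) + 1) = ρ g ^ 4 * (3 * (s * s)) := by rw [h]
    have e5 : ρ g ^ 4 * (3 * (s * s)) = 3 * (ρ g ^ 2 * (ρ g ^ 2 * (s * s))) := by
      rw [show (3 : A) = 1 + 1 + 1 by norm_num]; noncomm_ring
    rw [mul_add, e3, e5, e1, mul_one] at e4
    have e6 : ρ g ^ 8 + ρ g ^ 6 + ρ g ^ 4 + ρ g ^ 2 + 1 =
        (ρ g ^ 2 + 1) ^ 4 + ρ g ^ 4 - 3 * (ρ g ^ 2 * (ρ g ^ 2 + 1) ^ 2) := by
      rw [show (3 : A) = 1 + 1 + 1 by norm_num]; noncomm_ring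
    rw [e6, e4, sub_self]
  have h10 : g ^ 10 = 1 := by
    apply D.inj
    rw [map_one, map_pow]
    have : ρ g ^ 10 - 1 = (ρ g ^ 2 - 1) * (ρ g ^ 8 + ρ g ^ 6 + ρ g ^ 4 + ρ g ^ 2 + 1) := by noncomm_ring
    rw [h1, mul_zero] at this
    exact sub_eq_zero.1 this
  have hd := orderOf_dvd_of_pow_eq_one h10
  have hd2 : g ^ 2 ≠ 1 := by
    intro h2
    have h3 : ρ g ^ 2 = 1 := by rw [← map_pow, h2, map_one]
    have h4 : ρ g ^ 8 = 1 := by rw [show 8 = 2 * 4 from rfl, pow_mul, h3, one_pow]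
    have h5 : ρ g ^ 6 = 1 := by rw [show 6 = 2 * 3 from rfl, pow_mul, h3, one_pow]
    have h6 : ρ g ^ 4 = 1 := by rw [show 4 = 2 * 2 from rfl, pow_mul, h3, one_pow]
    rw [h3, h4, h5, h6] at h1
    have n5 : ((5 : ℕ) : A) ≠ 0 := num_ne (by norm_num)
    apply n5
    rw [← h1]; norm_num
  have hle := Nat.le_of_dvd (by norm_num) hd
  have hpos := orderOf_pos g
  have h1' : orderOf g ≠ 1 := fun h' => hd2 (by rw [orderOf_eq_one_iff.1 h', one_pow])
  have h2' : orderOf g ≠ 2 := fun h' => hd2 (by rw [← h']; exact pow_orderOf_eq_one g)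
  have : orderOf g = 5 ∨ orderOf g = 10 := by
    interval_cases h : orderOf g <;> simp_all
  rcases this with h | h
  · right; exact D.tr5 h
  · left; exact D.tr10 h

/-- the type of a pair (element of order 4, element of order 3) -/
theorem S_type {q y : G} (hq : orderOf q = 4) (hy : orderOf y = 3) :
    (Lm (ρ y) (ρ q) = 0) ∨ (Lm (ρ y) (ρ q) * Lm (ρ y) (ρ q) = 2) ∨
    (q * y = y * q ∧ Lm (ρ y) (ρ q) * Lm (ρ y) (ρ q) = 3) ∨
    (Lm (ρ y) (ρ q) = 1 ∨ Lm (ρ y) (ρ q) = -1 ∨ Lm (ρ y) (ρ q) * Lm (ρ y) (ρ q) = 1 + Lm (ρ y) (ρ q) ∨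
      Lm (ρ y) (ρ q) * Lm (ρ y) (ρ q) = 1 - Lm (ρ y) (ρ q)) := by
  have hu := D.rel4 hq
  have hb := D.rel3 hy
  have hy' : orderOf (q⁻¹ * y * q) = 3 := by
    rw [← hy]
    have := orderOf_injective (MulAut.conj q⁻¹).toMonoidHom (MulAut.conj q⁻¹).injective y
    simpa using this
  have hρ' : ρ (q⁻¹ * y * q) = -ρ q * ρ y * ρ q := by rw [map_mul, map_mul, D.inv4 hq]
  have hconj := Lm_conj hb hu
  rw [← hρ'] at hconj
  by_cases hc : y * (q⁻¹ * y * q) = (q⁻¹ * y * q) * y
  · rcases D.comm_three hy hy' hc with h | h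
    · right; right; left
      have h1 : q * y = y * q := by
        calc q * y = q * (q⁻¹ * y * q) := by rw [h]
          _ = y * q := by group
      refine ⟨h1, ?_⟩
      have h2 : ρ q * ρ y = ρ y * ρ q := by rw [← map_mul, h1, map_mul]
      have h3 : Lm (ρ y) (ρ q) = ρ q * (2 * ρ y + 1) := by
        unfold Lm; rw [← h2]; noncomm_ring
      have h4 : (2 * ρ y + 1) * ρ q = ρ q * (2 * ρ y + 1) := by
        have : (2 * ρ y + 1) * ρ q = ρ y * ρ q + ρ y * ρ q + ρ q := by noncomm_ring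
        rw [this, ← h2]; noncomm_ring
      rw [h3]
      calc ρ q * (2 * ρ y + 1) * (ρ q * (2 * ρ y + 1)) = ρ q * ((2 * ρ y + 1) * ρ q) * (2 * ρ y + 1) := by noncomm_ring
        _ = ρ q * ρ q * (4 * (ρ y * ρ y) + 4 * ρ y + 1) := by rw [h4]; noncomm_ring
        _ = 3 := by
          rw [hu, hb, show (3 : A) = 1 + 1 + 1 by norm_num]; noncomm_ring
    · left
      have h1 : ρ (q⁻¹ * y * q) = -ρ y - 1 := by rw [h, D.inv3 hy]
      rw [hρ'] at h1
      have h2 : ρ q * (-ρ q * ρ y * ρ q) = ρ y * ρ q := by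
        calc ρ q * (-ρ q * ρ y * ρ q) = -(ρ q * ρ q) * ρ y * ρ q := by noncomm_ring
          _ = _ := by rw [hu]; noncomm_ring
      rw [h1] at h2
      unfold Lm
      rw [← h2]; noncomm_ring
  · rw [D.Lm_four hq hy] at hconj ⊢
    rcases D.E_type hy hy' hc with ⟨-, h⟩ | ⟨-, h⟩ | ⟨-, h⟩
    · rw [h] at hconj
      have h2 : (ρ (q * y) + ρ (q * y)⁻¹) * (ρ (q * y) + ρ (q * y)⁻¹) = 1 := by
        rw [← sub_eq_zero]
        apply nsmul_inj (A := A) (n := 2) (by norm_num)
        push_cast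
        rw [mul_sub]
        have : 2 * ((ρ (q * y) + ρ (q * y)⁻¹) * (ρ (q * y) + ρ (q * y)⁻¹)) = 3 - 1 := by
          rw [hconj]; abel
        rw [this]; norm_num
      rcases D.order_of_sq_one h2 with h3 | h3
      · right; right; right; left; exact h3
      · right; right; right; right; left; exact h3
    · right; left
      rw [h] at hconj
      rw [← sub_eq_zero]
      apply nsmul_inj (A := A) (n := 2) (by norm_num)
      push_cast
      rw [mul_sub]
      have : 2 * ((ρ (q * y) + ρ (q * y)⁻¹) * (ρ (q * y) + ρ (q * y)⁻¹)) = 3 - (-1) := by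
        rw [hconj]; abel
      rw [this]; norm_num
    · right; right; right; right; right
      apply D.order_of_quart
      rw [hconj] at h
      set w := (ρ (q * y) + ρ (q * y)⁻¹) * (ρ (q * y) + ρ (q * y)⁻¹) with hw
      rw [← sub_eq_zero]
      apply nsmul_inj (A := A) (n := 4) (by norm_num)
      have : ((4 : ℕ) : A) * (w * w + 1 - 3 * w) = (3 - 2 * w) * (3 - 2 * w) - 5 := by
        push_cast
        rw [show (5 : A) = 1 + 1 + 1 + 1 + 1 by norm_num, show (4 : A) = 1 + 1 + 1 + 1 by norm_num,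
          show (3 : A) = 1 + 1 + 1 by norm_num, show (2 : A) = 1 + 1 by norm_num]
        noncomm_ring
      rw [this, h, sub_self]

end ZD

end Cfsg.Agent.H21.ZF
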