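import Cfsg.Agent.H21.ZF5

set_option autoImplicit false
set_option linter.all false

/-!
Zassenhaus' theorem, part 6 (helper21): frames.
-/

namespace Cfsg.Agent.H21.ZF

section ring
variable {A : Type*} [Ring A]

/-- normal forms in the algebra generated by a frame -/
theorem frame_ring {a u : A} (ha : a * a = -a - 1) (hu : u * u = -1) (hau : a * u = -1 - u - u * a) :
    (-a - 1) * u * a = a - u - u * a ∧ a * u * (-a - 1) = 1 + a + u * a := by
  have ha' : ∀ x, a * (a * x) = -(a * x) - x := fun x => by rw [← mul_assoc, ha, sub_mul, neg_mul, one_mul]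
  have hu' : ∀ x, u * (u * x) = -x := fun x => by rw [← mul_assoc, hu, neg_mul, one_mul]
  have hau' : ∀ x, a * (u * x) = -x - u * x - u * (a * x) := fun x => by
    rw [← mul_assoc, hau, sub_mul, sub_mul, neg_mul, one_mul, mul_assoc]
  constructor
  · simp only [mul_add, add_mul, mul_sub, sub_mul, mul_assoc, ha, hu, ha', hu', hau, hau', mul_one, one_mul, mul_neg, neg_mul, neg_neg]
    abel
  · simp only [mul_add, add_mul, mul_sub, sub_mul, mul_assoc, ha, hu, ha', hu', hau, hau', mul_one, one_mul, mul_neg, neg_mul, neg_neg]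
    abel

theorem frame_mul {a u : A} (ha : a * a = -a - 1) (hu : u * u = -1) (hau : a * u = -1 - u - u * a) :
    u * (a - u - u * a) = (1 + a + u * a) ∧ (a - u - u * a) * u = -(1 + a + u * a) ∧
    (a - u - u * a) * (1 + a + u * a) = u ∧ (1 + a + u * a) * (a - u - u * a) = -u ∧
    (1 + a + u * a) * u = (a - u - u * a) ∧ u * (1 + a + u * a) = -(a - u - u * a) ∧
    (a - u - u * a) * (a - u - u * a) = -1 ∧ (1 + a + u * a) * (1 + a + u * a) = -1 := by
  have ha' : ∀ x, a * (a * x) = -(a * x) - x := fun x => by rw [← mul_assoc, ha, sub_mul, neg_mul, one_mul]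
  have hu' : ∀ x, u * (u * x) = -x := fun x => by rw [← mul_assoc, hu, neg_mul, one_mul]
  have hau' : ∀ x, a * (u * x) = -x - u * x - u * (a * x) := fun x => by
    rw [← mul_assoc, hau, sub_mul, sub_mul, neg_mul, one_mul, mul_assoc]
  refine ⟨?_, ?_, ?_, ?_, ?_, ?_, ?_, ?_⟩ <;>
  · simp only [mul_add, add_mul, mul_sub, sub_mul, mul_assoc, ha, hu, ha', hu', hau, hau', mul_one, one_mul, mul_neg, neg_mul, neg_neg]
    abel

/-- quaternion relations -/
structure QR (u v w : A) : Prop where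
  uu : u * u = -1
  vv : v * v = -1
  ww : w * w = -1
  uv : u * v = w
  vu : v * u = -w
  vw : v * w = u
  wv : w * v = -u
  wu : w * u = v
  uw : u * w = -v

theorem QR.conj {u v w : A} (h : QR u v w) :
    -u * (u + v + w) * u = u - v - w ∧ -v * (u + v + w) * v = v - u - w ∧ -w * (u + v + w) * w = w - u - v := by
  refine ⟨?_, ?_, ?_⟩ <;>
  · simp only [mul_add, add_mul, mul_sub, sub_mul, mul_assoc, neg_mul, mul_neg, neg_neg, h.uu, h.vv, h.ww, h.uv, h.vu, h.vw, h.wv,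
      h.wu, h.uw, mul_one, one_mul]
    abel

theorem two_Lm (b X : A) : 2 * Lm b X = X * (2 * b + 1) + (2 * b + 1) * X := by
  unfold Lm; noncomm_ring

/-- if `i` inverts and `j` commutes then the product inverts -/
theorem Lm_mul_zero {b u v : A} (hu : Lm b u = 0) (hv : v * b = b * v) : Lm b (u * v) = 0 ∧ Lm b (v * u) = 0 := by
  unfold Lm at hu ⊢
  constructor
  · calc u * v * b + b * (u * v) + u * v = u * (v * b) + b * u * v + u * v := by noncomm_ring
      _ = (u * b + b * u + u) * v := by rw [hv]; noncomm_ring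
      _ = 0 := by rw [hu, zero_mul]
  · calc v * u * b + b * (v * u) + v * u = v * (u * b) + (b * v) * u + v * u := by noncomm_ring
      _ = v * (u * b + b * u + u) := by rw [← hv]; noncomm_ring
      _ = 0 := by rw [hu, mul_zero]

end ring

/-- a frame at `x` -/
structure Fr {G : Type*} [Group G] (x q : G) : Prop where
  hx : orderOf x = 3
  hq : orderOf q = 4
  hqx : orderOf (q * x) = 3

theorem orderOf_conj' {G : Type*} [Group G] (g x : G) : orderOf (g * x * g⁻¹) = orderOf x := by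
  have := orderOf_injective (MulAut.conj g).toMonoidHom (MulAut.conj g).injective x
  simpa using this

theorem orderOf_conj'' {G : Type*} [Group G] (g x : G) : orderOf (g⁻¹ * x * g) = orderOf x := by
  have := orderOf_conj' g⁻¹ x
  rwa [inv_inv] at this

theorem Fr.rot {G : Type*} [Group G] {x q : G} (F : Fr x q) : Fr x (x⁻¹ * q * x) :=
  ⟨F.hx, by rw [orderOf_conj'']; exact F.hq, by
    rw [show x⁻¹ * q * x * x = x⁻¹ * (q * x) * x by group, orderOf_conj'']; exact F.hqx⟩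

theorem Fr.rot' {G : Type*} [Group G] {x q : G} (F : Fr x q) : Fr x (x * q * x⁻¹) :=
  ⟨F.hx, by rw [orderOf_conj']; exact F.hq, by
    rw [show x * q * x⁻¹ * x = x * (q * x) * x⁻¹ by group, orderOf_conj']; exact F.hqx⟩

namespace ZD
variable {G : Type*} [Group G] [Finite G] {A : Type*} [Ring A] [Algebra ℚ A] [Nontrivial A] {ρ : G →* A}
variable (D : ZD ρ)
include D

theorem frame_au {x q : G} (F : Fr x q) : ρ x * ρ q = -1 - ρ q - ρ q * ρ x := by
  have h1 := D.tr3 F.hqx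
  rw [← D.Lm_four F.hq F.hx] at h1
  unfold Lm at h1
  calc ρ x * ρ q = (ρ q * ρ x + ρ x * ρ q + ρ q) - ρ q - ρ q * ρ x := by abel
    _ = _ := by rw [h1]

/-- the three elements of the frame satisfy the quaternion relations and sum to `2x + 1` -/
theorem frame_QR {x q : G} (F : Fr x q) :
    QR (ρ q) (ρ (x⁻¹ * q * x)) (ρ (x * q * x⁻¹)) ∧
      2 * ρ x + 1 = ρ q + ρ (x⁻¹ * q * x) + ρ (x * q * x⁻¹) := by
  have ha := D.rel3 F.hx
  have hu := D.rel4 F.hq
  have hau := D.frame_au F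
  obtain ⟨h1, h2⟩ := frame_ring ha hu hau
  have e1 : ρ (x⁻¹ * q * x) = ρ x - ρ q - ρ q * ρ x := by rw [map_mul, map_mul, D.inv3 F.hx, h1]
  have e2 : ρ (x * q * x⁻¹) = 1 + ρ x + ρ q * ρ x := by rw [map_mul, map_mul, D.inv3 F.hx, h2]
  obtain ⟨m1, m2, m3, m4, m5, m6, m7, m8⟩ := frame_mul ha hu hau
  rw [e1, e2]
  refine ⟨⟨hu, m7, m8, m1, m2, m3, m4, m5, m6⟩, ?_⟩
  rw [two_mul]; abel

/-- the relation between the values at the four axes -/
theorem axis_not_comm {x q y : G} (hy : orderOf y = 3) {u v w : A} (hQ : QR u v w) (hsum : 2 * ρ x + 1 = u + v + w)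
    (h5 : Lm (ρ y) (2 * ρ x + 1) * Lm (ρ y) (2 * ρ x + 1) = 5)
    {x' : G} (hx' : orderOf x' = 3) (h : 2 * ρ x' + 1 = u - v - w) : x' * y ≠ y * x' := by
  intro hc
  obtain ⟨n1, n2⟩ := sq_five_ne_one h5
  have key : ∀ b : A, (2 * b + 1 = u - v - w) → Lm b (2 * ρ x + 1) = 1 := by
    intro b hb
    rw [← sub_eq_zero]
    apply nsmul_inj (A := A) (n := 2) (by norm_num)
    push_cast
    rw [mul_sub, two_Lm, hb, hsum]
    simp only [mul_add, add_mul, mul_sub, sub_mul, hQ.uu, hQ.vv, hQ.ww, hQ.uv, hQ.vu, hQ.vw, hQ.wv, hQ.wu, hQ.uw, mul_one]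
    rw [show (2 : A) = 1 + 1 by norm_num]
    abel
  rcases D.comm_three hx' hy hc with h1 | h1
  · rw [h1] at n1
    exact n1 (key _ h)
  · apply n2
    rw [h1, D.inv3 hx']
    have e1 : Lm (-ρ x' - 1) (2 * ρ x + 1) = -Lm (ρ x') (2 * ρ x + 1) := by unfold Lm; noncomm_ring
    rw [e1, key _ h]

set_option maxHeartbeats 4000000 in
theorem frame_lemma {x q y : G} (F : Fr x q) (hy : orderOf y = 3)
    (h5 : Lm (ρ y) (2 * ρ x + 1) * Lm (ρ y) (2 * ρ x + 1) = 5) :
    ∃ q', Fr x q' ∧ (q' = q ∨ q' = x⁻¹ * q * x ∨ q' = x * q * x⁻¹) ∧ Lm (ρ y) (ρ q') = 0 ∧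
      ∃ η : A, (η = 1 ∨ η = -1) ∧ 2 * Lm (ρ y) (ρ (x⁻¹ * q' * x)) = Lm (ρ y) (2 * ρ x + 1) + η := by
  haveI := charZero_A (A := A)
  obtain ⟨hQ, hsum⟩ := D.frame_QR F
  set q2 := x⁻¹ * q * x with hq2
  set q3 := x * q * x⁻¹ with hq3
  set u := ρ q with hu
  set v := ρ q2 with hv
  set w := ρ q3 with hw
  set b := ρ y with hb
  have F2 : Fr x q2 := F.rot
  have F3 : Fr x q3 := F.rot'
  have hx3 : x ^ 3 = 1 := by have := pow_orderOf_eq_one x; rwa [F.hx] at this
  have hxi : x⁻¹ = x * x := by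
    rw [inv_eq_iff_mul_eq_one, ← hx3, pow_succ, pow_two, mul_assoc]
  have r2 : x⁻¹ * q2 * x = q3 := by
    rw [hq2, hq3]
    have : x⁻¹ * (x⁻¹ * q * x) * x = (x * x)⁻¹ * q * (x * x) := by group
    rw [this, ← hxi, inv_inv]
  have r3 : x⁻¹ * q3 * x = q := by rw [hq3]; group
  -- the axes
  have o1 : orderOf (q⁻¹ * x * q) = 3 := by rw [orderOf_conj'']; exact F.hx
  have o2 : orderOf (q2⁻¹ * x * q2) = 3 := by rw [orderOf_conj'']; exact F.hx
  have o3 : orderOf (q3⁻¹ * x * q3) = 3 := by rw [orderOf_conj'']; exact F.hx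
  obtain ⟨c1, c2, c3⟩ := hQ.conj
  have a1 : 2 * ρ (q⁻¹ * x * q) + 1 = u - v - w := by
    rw [← c1, ← hsum, map_mul, map_mul, D.inv4 F.hq, ← hu]
    have : -u * (2 * ρ x + 1) * u = 2 * (-u * ρ x * u) - u * u := by noncomm_ring
    rw [this, hQ.uu]; abel
  have a2 : 2 * ρ (q2⁻¹ * x * q2) + 1 = v - u - w := by
    rw [← c2, ← hsum, map_mul, map_mul, D.inv4 F2.hq, ← hv]
    have : -v * (2 * ρ x + 1) * v = 2 * (-v * ρ x * v) - v * v := by noncomm_ring
    rw [this, hQ.vv]; abel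
  have a3 : 2 * ρ (q3⁻¹ * x * q3) + 1 = w - u - v := by
    rw [← c3, ← hsum, map_mul, map_mul, D.inv4 F3.hq, ← hw]
    have : -w * (2 * ρ x + 1) * w = 2 * (-w * ρ x * w) - w * w := by noncomm_ring
    rw [this, hQ.ww]; abel
  have hQ2 : QR v w u := ⟨hQ.vv, hQ.ww, hQ.uu, hQ.vw, hQ.wv, hQ.wu, hQ.uw, hQ.uv, hQ.vu⟩
  have hQ3 : QR w u v := ⟨hQ.ww, hQ.uu, hQ.vv, hQ.wu, hQ.uw, hQ.uv, hQ.vu, hQ.vw, hQ.wv⟩
  have n1 := D.axis_not_comm (q := q) hy hQ hsum h5 o1 a1
  have n2 := D.axis_not_comm (q := q) hy hQ2 (by rw [hsum]; abel) h5 o2 (by rw [a2]; abel)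
  have n3 := D.axis_not_comm (q := q) hy hQ3 (by rw [hsum]; abel) h5 o3 (by rw [a3])
  have T1 := D.E_type o1 hy n1
  have T2 := D.E_type o2 hy n2
  have T3 := D.E_type o3 hy n3
  rw [← hb, a1] at T1
  rw [← hb, a2] at T2
  rw [← hb, a3] at T3
  set t1 := Lm b u with ht1
  set t2 := Lm b v with ht2
  set t3 := Lm b w with ht3
  have L0 : Lm b (2 * ρ x + 1) = t1 + t2 + t3 := by rw [hsum, Lm_add, Lm_add]
  have L1 : Lm b (u - v - w) = t1 - t2 - t3 := by rw [Lm_sub, Lm_sub]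
  have L2 : Lm b (v - u - w) = t2 - t1 - t3 := by rw [Lm_sub, Lm_sub]
  have L3 : Lm b (w - u - v) = t3 - t1 - t2 := by rw [Lm_sub, Lm_sub]
  rw [L1] at T1
  rw [L2] at T2
  rw [L3] at T3
  rw [L0] at h5 ⊢
  -- simplify types
  have T1' : (t1 - t2 - t3 = 1 ∨ t1 - t2 - t3 = -1) ∨ (t1 - t2 - t3) * (t1 - t2 - t3) = 5 := by tauto
  have T2' : (t2 - t1 - t3 = 1 ∨ t2 - t1 - t3 = -1) ∨ (t2 - t1 - t3) * (t2 - t1 - t3) = 5 := by tauto
  have T3' : (t3 - t1 - t2 = 1 ∨ t3 - t1 - t2 = -1) ∨ (t3 - t1 - t2) * (t3 - t1 - t2) = 5 := by tauto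
  have hz : (t1 + t2 + t3) + (t1 - t2 - t3) + (t2 - t1 - t3) + (t3 - t1 - t2) = 0 := by abel
  have half : ∀ t : A, t + t = 0 → t = 0 := fun t ht => nsmul_inj (A := A) (n := 2) (by norm_num) (by push_cast; rw [two_mul]; exact ht)
  rcases T1' with T1' | T1' <;> rcases T2' with T2' | T2' <;> rcases T3' with T3' | T3'
  · exact (caseA hz h5 T1' T2' T3').elim
  · -- e3 is of type 5
    obtain ⟨k1, k2⟩ := caseB hz h5 T1' T2' T3'
    refine ⟨q3, F3, Or.inr (Or.inr rfl), ?_, (t1 - t2 - t3), T1', ?_⟩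
    · apply half
      have : Lm b w + Lm b w = (t3 - t1 - t2) + (t1 + t2 + t3) := by rw [← ht3]; abel
      rw [this, k2]; abel
    · rw [r3, ← hu, ← ht1, two_mul]; abel
  · obtain ⟨k1, k2⟩ := caseB (e0 := t1 + t2 + t3) (e1 := t3 - t1 - t2) (e2 := t1 - t2 - t3) (e3 := t2 - t1 - t3) (by abel) h5 T3' T1' T2'
    refine ⟨q2, F2, Or.inr (Or.inl rfl), ?_, (t3 - t1 - t2), T3', ?_⟩
    · apply half
      have : Lm b v + Lm b v = (t2 - t1 - t3) + (t1 + t2 + t3) := by rw [← ht2]; abel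
      rw [this, k2]; abel
    · rw [r2, ← hw, ← ht3, two_mul]; abel
  · exact (caseC hz h5 T1' T2' T3').elim
  · obtain ⟨k1, k2⟩ := caseB (e0 := t1 + t2 + t3) (e1 := t2 - t1 - t3) (e2 := t3 - t1 - t2) (e3 := t1 - t2 - t3) (by abel) h5 T2' T3' T1'
    refine ⟨q, F, Or.inl rfl, ?_, (t2 - t1 - t3), T2', ?_⟩
    · apply half
      have : Lm b u + Lm b u = (t1 - t2 - t3) + (t1 + t2 + t3) := by rw [← ht1]; abel
      rw [← hu, this, k2]; abel
    · rw [← hq2, ← hv, ← ht2, two_mul]; abel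
  · exact (caseC (e0 := t1 + t2 + t3) (e1 := t2 - t1 - t3) (e2 := t1 - t2 - t3) (e3 := t3 - t1 - t2) (by abel) h5 T2' T1' T3').elim
  · exact (caseC (e0 := t1 + t2 + t3) (e1 := t3 - t1 - t2) (e2 := t1 - t2 - t3) (e3 := t2 - t1 - t3) (by abel) h5 T3' T1' T2').elim
  · -- all four of type 5
    exfalso
    have hsq : t1 * t1 + t2 * t2 + t3 * t3 = 5 := by
      rw [← sub_eq_zero]
      apply nsmul_inj (A := A) (n := 4) (by norm_num)
      have e : ((4 : ℕ) : A) * (t1 * t1 + t2 * t2 + t3 * t3 - 5) = (t1 + t2 + t3) * (t1 + t2 + t3) +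
          (t1 - t2 - t3) * (t1 - t2 - t3) + (t2 - t1 - t3) * (t2 - t1 - t3) + (t3 - t1 - t2) * (t3 - t1 - t2) - 20 := by
        push_cast
        rw [mul_sub, show (4 : A) * 5 = 20 by norm_num]
        noncomm_ring
      rw [e, h5, T1', T2', T3']
      norm_num
    have bad : ∀ t : A, (2 * t - (t1 + t2 + t3)) * (2 * t - (t1 + t2 + t3)) = 5 →
        (t = 1 ∨ t = -1 ∨ t * t = 1 + t ∨ t * t = 1 - t) → False := fun t h1 h2 => caseD h5 h1 h2
    have S1 := D.S_type F.hq hy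
    have S2 := D.S_type F2.hq hy
    have S3 := D.S_type F3.hq hy
    rw [← hb, ← hu, ← ht1] at S1
    rw [← hb, ← hv, ← ht2] at S2
    rw [← hb, ← hw, ← ht3] at S3
    have b1 := bad t1 (by rw [show 2 * t1 - (t1 + t2 + t3) = t1 - t2 - t3 by rw [two_mul]; abel]; exact T1')
    have b2 := bad t2 (by rw [show 2 * t2 - (t1 + t2 + t3) = t2 - t1 - t3 by rw [two_mul]; abel]; exact T2')
    have b3 := bad t3 (by rw [show 2 * t3 - (t1 + t2 + t3) = t3 - t1 - t2 by rw [two_mul]; abel]; exact T3')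
    have cc : ∀ g : G, g * y = y * g → ρ g * b = b * ρ g := fun g hg => by rw [hb, ← map_mul, hg, map_mul]
    -- incompatibilities
    have i12 : t1 = 0 → q2 * y = y * q2 → t3 = 0 := fun h h' => by
      have := (Lm_mul_zero h (cc _ h')).1; rw [← hv, hQ.uv] at this; exact this
    have i13 : t1 = 0 → q3 * y = y * q3 → t2 = 0 := fun h h' => by
      have := (Lm_mul_zero h (cc _ h')).2; rw [← hw, hQ.wu] at this; exact this
    have i21 : t2 = 0 → q * y = y * q → t3 = 0 := fun h h' => by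
      have := (Lm_mul_zero h (cc _ h')).2; rw [← hu, hQ.uv] at this; exact this
    have i23 : t2 = 0 → q3 * y = y * q3 → t1 = 0 := fun h h' => by
      have := (Lm_mul_zero h (cc _ h')).1; rw [← hw, hQ.vw] at this; exact this
    have i31 : t3 = 0 → q * y = y * q → t2 = 0 := fun h h' => by
      have := (Lm_mul_zero h (cc _ h')).1; rw [← hu, hQ.wu] at this; exact this
    have i32 : t3 = 0 → q2 * y = y * q2 → t1 = 0 := fun h h' => by
      have := (Lm_mul_zero h (cc _ h')).2; rw [← hv, hQ.vw] at this; exact this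
    rcases S1 with S1 | S1 | ⟨C1, S1⟩ | S1
    · rcases S2 with S2 | S2 | ⟨C2, S2⟩ | S2
      · rcases S3 with S3 | S3 | ⟨C3, S3⟩ | S3
        · rw [S1, S2, S3] at hsq; norm_num at hsq
        · rw [S1, S2, S3] at hsq; norm_num at hsq
        · rw [S1, S2, S3] at hsq; norm_num at hsq
        · exact b3 S3
      · rcases S3 with S3 | S3 | ⟨C3, S3⟩ | S3
        · rw [S1, S2, S3] at hsq; norm_num at hsq
        · rw [S1, S2, S3] at hsq; norm_num at hsq
        · rw [i13 S1 C3] at S2; norm_num at S2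
        · exact b3 S3
      · rcases S3 with S3 | S3 | ⟨C3, S3⟩ | S3
        · rw [S1, S2, S3] at hsq; norm_num at hsq
        · rw [i12 S1 C2] at S3; norm_num at S3
        · rw [S1, S2, S3] at hsq; norm_num at hsq
        · exact b3 S3
      · exact b2 S2
    · rcases S2 with S2 | S2 | ⟨C2, S2⟩ | S2
      · rcases S3 with S3 | S3 | ⟨C3, S3⟩ | S3
        · rw [S1, S2, S3] at hsq; norm_num at hsq
        · rw [S1, S2, S3] at hsq; norm_num at hsq
        · rw [i23 S2 C3] at S1; norm_num at S1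
        · exact b3 S3
      · rcases S3 with S3 | S3 | ⟨C3, S3⟩ | S3
        · rw [S1, S2, S3] at hsq; norm_num at hsq
        · rw [S1, S2, S3] at hsq; norm_num at hsq
        · rw [S1, S2, S3] at hsq; norm_num at hsq
        · exact b3 S3
      · rcases S3 with S3 | S3 | ⟨C3, S3⟩ | S3
        · rw [i32 S3 C2] at S1; norm_num at S1
        · rw [S1, S2, S3] at hsq; norm_num at hsq
        · rw [S1, S2, S3] at hsq; norm_num at hsq
        · exact b3 S3
      · exact b2 S2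
    · rcases S2 with S2 | S2 | ⟨C2, S2⟩ | S2
      · rcases S3 with S3 | S3 | ⟨C3, S3⟩ | S3
        · rw [S1, S2, S3] at hsq; norm_num at hsq
        · rw [i21 S2 C1] at S3; norm_num at S3
        · rw [S1, S2, S3] at hsq; norm_num at hsq
        · exact b3 S3
      · rcases S3 with S3 | S3 | ⟨C3, S3⟩ | S3
        · rw [i31 S3 C1] at S2; norm_num at S2
        · rw [S1, S2, S3] at hsq; norm_num at hsq
        · rw [S1, S2, S3] at hsq; norm_num at hsq
        · exact b3 S3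
      · rcases S3 with S3 | S3 | ⟨C3, S3⟩ | S3
        · rw [S1, S2, S3] at hsq; norm_num at hsq
        · rw [S1, S2, S3] at hsq; norm_num at hsq
        · rw [S1, S2, S3] at hsq; norm_num at hsq
        · exact b3 S3
      · exact b2 S2
    · exact b1 S1

end ZD

end Cfsg.Agent.H21.ZF
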