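import Cfsg.Agent.H21.ZF6

set_option autoImplicit false
set_option linter.all false

/-!
Zassenhaus' theorem, part 7 (helper21): uniqueness of frames, and the subgroup generated by an icosahedral pair
contains all elements of order three.
-/

namespace Cfsg.Agent.H21.ZF

section ring
variable {A : Type*} [Ring A] [Algebra ℚ A] [Nontrivial A]

/-- the uniqueness computation -/
theorem uniq_ring {a b d : A} (ha : a * a = -a - 1) (hb : b * b = -b - 1)
    (h5 : Lm b (2 * a + 1) * Lm b (2 * a + 1) = 5)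
    (hda : d * (2 * a + 1) + (2 * a + 1) * d = 0) (hdb : Lm b d = 0) (hdab : Lm b ((-a - 1) * d * a) = 0) : d = 0 := by
  set X := 2 * a + 1 with hX
  set Y := 2 * b + 1 with hY
  have hXX : X * X = -3 := by
    have : X * X = 4 * (a * a) + 4 * a + 1 := by rw [hX]; noncomm_ring
    rw [this, ha, show (4 : A) = 1 + 1 + 1 + 1 by norm_num, show (-3 : A) = -(1 + 1 + 1) by norm_num]; noncomm_ring
  have hYY : Y * Y = -3 := by
    have : Y * Y = 4 * (b * b) + 4 * b + 1 := by rw [hY]; noncomm_ring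
    rw [this, hb, show (4 : A) = 1 + 1 + 1 + 1 by norm_num, show (-3 : A) = -(1 + 1 + 1) by norm_num]; noncomm_ring
  have hdX : d * X = -(X * d) := eq_neg_of_add_eq_zero_left hda
  have hdY : d * Y = -(Y * d) := by
    apply eq_neg_of_add_eq_zero_left
    rw [hY, ← two_Lm, hdb, mul_zero]
  -- 2 z = - d (1 + X)
  have hz : 4 * ((-a - 1) * d * a) = 2 * (-(d * (1 + X))) := by
    have e1 : 4 * ((-a - 1) * d * a) = -((X + 1) * d * (X - 1)) := by rw [hX]; noncomm_ring
    rw [e1]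
    have e2 : (X + 1) * d * (X - 1) = (X * d) * X - X * d + d * X - d := by noncomm_ring
    have e3 : X * d = -(d * X) := by rw [hdX, neg_neg]
    rw [e2, e3]
    have e4 : -(d * X) * X = -(d * (X * X)) := by noncomm_ring
    rw [e4, hXX, show (-3 : A) = -(1 + 1 + 1) by norm_num]
    noncomm_ring
  have hz2 : 2 * ((-a - 1) * d * a) = -(d * (1 + X)) := by
    rw [← sub_eq_zero]
    apply nsmul_inj (A := A) (n := 2) (by norm_num)
    have : ((2 : ℕ) : A) * (2 * ((-a - 1) * d * a) - -(d * (1 + X))) = 4 * ((-a - 1) * d * a) - 2 * (-(d * (1 + X))) := by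
      push_cast; noncomm_ring
    rw [this, hz, sub_self]
  have hC : d * (X * Y - Y * X) = 0 := by
    have h1 : 2 * (2 * Lm b ((-a - 1) * d * a)) = 0 := by rw [hdab]; noncomm_ring
    rw [two_Lm, ← hY] at h1
    have h2 : 2 * ((-a - 1) * d * a * Y + Y * ((-a - 1) * d * a)) = (2 * ((-a - 1) * d * a)) * Y + Y * (2 * ((-a - 1) * d * a)) := by
      noncomm_ring
    rw [h2, hz2] at h1
    have h3 : -(d * (1 + X)) * Y + Y * -(d * (1 + X)) = -(d * Y) - d * (X * Y) - Y * d - (Y * d) * X := by noncomm_ring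
    rw [h3] at h1
    have h4 : Y * d = -(d * Y) := by rw [hdY, neg_neg]
    rw [h4] at h1
    have h5 : -(d * Y) - d * (X * Y) - -(d * Y) - -(d * Y) * X = -(d * (X * Y - Y * X)) := by noncomm_ring
    rw [h5] at h1
    exact neg_eq_zero.1 h1
  have hCC : (X * Y - Y * X) * (X * Y - Y * X) = -16 := by
    have h1 : 2 * Lm b X = X * Y + Y * X := by rw [two_Lm]
    have h2 : (X * Y + Y * X) * (X * Y + Y * X) = 20 := by
      rw [← h1]
      have : 2 * Lm b X * (2 * Lm b X) = 4 * (Lm b X * Lm b X) := by noncomm_ring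
      rw [this, h5]; norm_num
    have h3 : (X * Y - Y * X) * (X * Y - Y * X) = (X * Y + Y * X) * (X * Y + Y * X) - 2 * (X * (Y * Y) * X) - 2 * (Y * (X * X) * Y) := by
      noncomm_ring
    rw [h3, h2, hXX, hYY]
    have h4 : X * (-3) * X = 9 := by
      have : X * (-3) * X = -3 * (X * X) := by rw [show (-3 : A) = -(1 + 1 + 1) by norm_num]; noncomm_ring
      rw [this, hXX]; norm_num
    have h5 : Y * (-3) * Y = 9 := by
      have : Y * (-3) * Y = -3 * (Y * Y) := by rw [show (-3 : A) = -(1 + 1 + 1) by norm_num]; noncomm_ring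
      rw [this, hYY]; norm_num
    rw [h4, h5]; norm_num
  have : d * ((X * Y - Y * X) * (X * Y - Y * X)) = 0 := by rw [← mul_assoc, hC, zero_mul]
  rw [hCC] at this
  apply nsmul_inj (A := A) (n := 16) (by norm_num)
  push_cast
  have h16 : (16 : A) * d = -(d * -16) := by
    have := Nat.cast_commute (α := A) 16 d
    have h := this.eq
    push_cast at h
    rw [h]; noncomm_ring
  rw [h16, this, neg_zero]

theorem conj_ring {a b : A} (ha : a * a = -a - 1) (hb : b * b = -b - 1) :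
    2 * Lm ((-b - 1) * a * b) (2 * a + 1) = 3 - Lm b (2 * a + 1) * Lm b (2 * a + 1) := by
  have ha' : ∀ x, a * (a * x) = -(a * x) - x := fun x => by rw [← mul_assoc, ha, sub_mul, neg_mul, one_mul]
  have hb' : ∀ x, b * (b * x) = -(b * x) - x := fun x => by rw [← mul_assoc, hb, sub_mul, neg_mul, one_mul]
  unfold Lm
  rw [show (3 : A) = 1 + 1 + 1 by norm_num, show (2 : A) = 1 + 1 by norm_num]
  simp only [mul_add, add_mul, mul_sub, sub_mul, mul_assoc, ha, hb, ha', hb', mul_one, one_mul, mul_neg, neg_mul, neg_neg]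
  abel

end ring

namespace ZD
variable {G : Type*} [Group G] [Finite G] {A : Type*} [Ring A] [Algebra ℚ A] [Nontrivial A] {ρ : G →* A}
variable (D : ZD ρ)
include D

theorem conj_Lm {x y : G} (hx : orderOf x = 3) (hy : orderOf y = 3) :
    2 * Lm (ρ (y⁻¹ * x * y)) (2 * ρ x + 1) = 3 - Lm (ρ y) (2 * ρ x + 1) * Lm (ρ y) (2 * ρ x + 1) := by
  rw [map_mul, map_mul, D.inv3 hy]
  exact conj_ring (D.rel3 hx) (D.rel3 hy)

theorem Lm_inv {x y : G} (hy : orderOf y = 3) : Lm (ρ y⁻¹) (2 * ρ x + 1) = -Lm (ρ y) (2 * ρ x + 1) := by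
  rw [D.inv3 hy]; unfold Lm; noncomm_ring

/-- commuting elements of order three -/
theorem Lm_of_comm {x y : G} (hx : orderOf x = 3) (hy : orderOf y = 3) (hc : x * y = y * x) :
    Lm (ρ y) (2 * ρ x + 1) = 3 ∨ Lm (ρ y) (2 * ρ x + 1) = -3 := by
  have h1 : Lm (ρ x) (2 * ρ x + 1) = -3 := by
    have : Lm (ρ x) (2 * ρ x + 1) = 4 * (ρ x * ρ x) + 4 * ρ x + 1 := by unfold Lm; noncomm_ring
    rw [this, D.rel3 hx, show (4 : A) = 1 + 1 + 1 + 1 by norm_num, show (-3 : A) = -(1 + 1 + 1) by norm_num]; noncomm_ring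
  rcases D.comm_three hx hy hc with rfl | rfl
  · right; exact h1
  · left; rw [D.Lm_inv hx, h1, neg_neg]

theorem order_of_Lm {x y : G} (hx : orderOf x = 3) (hy : orderOf y = 3) :
    (Lm (ρ y) (2 * ρ x + 1) = -1 → orderOf (x * y) = 4) ∧ (Lm (ρ y) (2 * ρ x + 1) = 1 → orderOf (x * y) = 6) ∧
    (Lm (ρ y) (2 * ρ x + 1) * Lm (ρ y) (2 * ρ x + 1) = 5 → orderOf (x * y) = 10) := by
  haveI := charZero_A (A := A)
  by_cases hc : x * y = y * x
  · refine ⟨fun h => ?_, fun h => ?_, fun h => ?_⟩ <;> rcases D.Lm_of_comm hx hy hc with h1 | h1 <;> rw [h1] at h <;> norm_num at h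
  · rcases D.E_type hx hy hc with ⟨h1, h2⟩ | ⟨h1, h2⟩ | ⟨h1, h2⟩
    · refine ⟨fun h => ?_, fun h => h1, fun h => ?_⟩
      · rw [h2] at h; norm_num at h
      · rw [h2] at h; norm_num at h
    · refine ⟨fun h => h1, fun h => ?_, fun h => ?_⟩
      · rw [h2] at h; norm_num at h
      · rw [h2] at h; norm_num at h
    · refine ⟨fun h => ?_, fun h => ?_, fun h => h1⟩
      · rw [h] at h2; norm_num at h2
      · rw [h] at h2; norm_num at h2

/-- uniqueness of the frame -/
theorem frame_unique {x y q q' : G} (F : Fr x q) (F' : Fr x q') (hy : orderOf y = 3)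
    (h5 : Lm (ρ y) (2 * ρ x + 1) * Lm (ρ y) (2 * ρ x + 1) = 5)
    (h0 : Lm (ρ y) (ρ q) = 0) (h0' : Lm (ρ y) (ρ q') = 0)
    (h1 : 2 * Lm (ρ y) (ρ (x⁻¹ * q * x)) = 2 * Lm (ρ y) (ρ (x⁻¹ * q' * x))) : q = q' := by
  apply D.inj
  rw [← sub_eq_zero]
  apply uniq_ring (D.rel3 F.hx) (D.rel3 hy) h5
  · have e : ∀ {q : G}, Fr x q → ρ q * (2 * ρ x + 1) + (2 * ρ x + 1) * ρ q = -2 := by
      intro q F
      have := D.frame_au F
      have e1 : ρ q * (2 * ρ x + 1) + (2 * ρ x + 1) * ρ q = 2 * (ρ q * ρ x) + 2 * ρ q + 2 * (ρ x * ρ q) := by noncomm_ring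
      rw [e1, this, show (-2 : A) = -(1 + 1) by norm_num]; noncomm_ring
    rw [sub_mul, mul_sub]
    have := e F
    have := e F'
    calc _ = (ρ q * (2 * ρ x + 1) + (2 * ρ x + 1) * ρ q) - (ρ q' * (2 * ρ x + 1) + (2 * ρ x + 1) * ρ q') := by abel
      _ = 0 := by rw [e F, e F', sub_self]
  · rw [Lm_sub, h0, h0', sub_self]
  · have h2 : Lm (ρ y) (ρ (x⁻¹ * q * x)) = Lm (ρ y) (ρ (x⁻¹ * q' * x)) := by
      rw [← sub_eq_zero]
      apply nsmul_inj (A := A) (n := 2) (by norm_num)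
      push_cast
      rw [mul_sub, h1, sub_self]
    have e1 : (-ρ x - 1) * (ρ q - ρ q') * ρ x = ρ (x⁻¹ * q * x) - ρ (x⁻¹ * q' * x) := by
      rw [map_mul, map_mul, map_mul, map_mul, D.inv3 F.hx]; noncomm_ring
    rw [e1, Lm_sub, h2, sub_self]

theorem fr_of {x y : G} (hx : orderOf x = 3) (hy : orderOf y = 3) (h : orderOf (x * y) = 4) : Fr x (x * y)⁻¹ :=
  ⟨hx, by rw [orderOf_inv]; exact h, by
    rw [show (x * y)⁻¹ * x = y⁻¹ * (x⁻¹ * x) by group, inv_mul_cancel, mul_one, orderOf_inv]; exact hy⟩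

/-- conjugates give frames -/
theorem tet_conj {x y : G} (hx : orderOf x = 3) (hy : orderOf y = 3)
    (h5 : Lm (ρ y) (2 * ρ x + 1) * Lm (ρ y) (2 * ρ x + 1) = 5) :
    orderOf (x * (y⁻¹ * x * y)) = 4 := by
  have hx' : orderOf (y⁻¹ * x * y) = 3 := by rw [orderOf_conj'']; exact hx
  apply (D.order_of_Lm hx hx').1
  have h1 := D.conj_Lm hx hy
  rw [h5] at h1
  rw [eq_neg_iff_add_eq_zero]
  apply nsmul_inj (A := A) (n := 2) (by norm_num)
  push_cast
  rw [mul_add, h1]; norm_num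

/-- the key inclusion -/
theorem key {x y q : G} (F : Fr x q) (hy : orderOf y = 3)
    (h5 : Lm (ρ y) (2 * ρ x + 1) * Lm (ρ y) (2 * ρ x + 1) = 5) : q ∈ Subgroup.closure {x, y} := by
  have hx := F.hx
  have hy' : orderOf y⁻¹ = 3 := by rw [orderOf_inv]; exact hy
  have h5' : Lm (ρ y⁻¹) (2 * ρ x + 1) * Lm (ρ y⁻¹) (2 * ρ x + 1) = 5 := by
    rw [D.Lm_inv hy, neg_mul_neg]; exact h5
  set a := y⁻¹ * x * y with ha
  set b := y * x * y⁻¹ with hb
  have oa : orderOf a = 3 := by rw [ha, orderOf_conj'']; exact hx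
  have ob : orderOf b = 3 := by rw [hb, orderOf_conj']; exact hx
  have ta : orderOf (x * a) = 4 := D.tet_conj hx hy h5
  have tb : orderOf (x * b) = 4 := by
    have := D.tet_conj hx hy' h5'
    rwa [inv_inv] at this
  have hxm : x ∈ Subgroup.closure {x, y} := Subgroup.subset_closure (by simp)
  have hym : y ∈ Subgroup.closure {x, y} := Subgroup.subset_closure (by simp)
  set K := Subgroup.closure {x, y} with hK
  have ham : a ∈ K := K.mul_mem (K.mul_mem (K.inv_mem hym) hxm) hym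
  have hbm : b ∈ K := K.mul_mem (K.mul_mem hym hxm) (K.inv_mem hym)
  have rot_mem : ∀ {q q' : G}, (q' = q ∨ q' = x⁻¹ * q * x ∨ q' = x * q * x⁻¹) → (q ∈ K ↔ q' ∈ K) := by
    intro q q' h
    rcases h with rfl | rfl | rfl
    · exact Iff.rfl
    · constructor
      · intro h; exact K.mul_mem (K.mul_mem (K.inv_mem hxm) h) hxm
      · intro h
        have := K.mul_mem (K.mul_mem hxm h) (K.inv_mem hxm)
        rwa [show x * (x⁻¹ * q * x) * x⁻¹ = q by group] at this
    · constructor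
      · intro h; exact K.mul_mem (K.mul_mem hxm h) (K.inv_mem hxm)
      · intro h
        have := K.mul_mem (K.mul_mem (K.inv_mem hxm) h) hxm
        rwa [show x⁻¹ * (x * q * x⁻¹) * x = q by group] at this
  obtain ⟨q0, F0, r0, z0, η, hη, e0⟩ := D.frame_lemma F hy h5
  obtain ⟨q1, F1, r1, z1, η1, hη1, e1⟩ := D.frame_lemma (fr_of D hx oa ta) hy h5
  obtain ⟨q2, F2, r2, z2, η2, hη2, e2⟩ := D.frame_lemma (fr_of D hx ob tb) hy h5
  have m1 : q1 ∈ K := (rot_mem r1).1 (K.inv_mem (K.mul_mem hxm ham))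
  have m2 : q2 ∈ K := (rot_mem r2).1 (K.inv_mem (K.mul_mem hxm hbm))
  rw [rot_mem r0]
  by_cases c1 : η = η1
  · rw [D.frame_unique F0 F1 hy h5 z0 z1 (by rw [e0, e1, c1])]
    exact m1
  by_cases c2 : η = η2
  · rw [D.frame_unique F0 F2 hy h5 z0 z2 (by rw [e0, e2, c2])]
    exact m2
  exfalso
  have c3 : η1 = η2 := by
    rcases hη with h | h <;> rcases hη1 with h' | h' <;> rcases hη2 with h'' | h'' <;>
      first
      | exact absurd (h.trans h'.symm) c1
      | exact absurd (h.trans h''.symm) c2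
      | exact h'.trans h''.symm
  have hq : q1 = q2 := D.frame_unique F1 F2 hy h5 z1 z2 (by rw [e1, e2, c3])
  -- a and b are tetrahedral with product of order 4
  have tab : orderOf (a * b) = 4 := by
    have : a * b = y⁻¹ * (x * (y * b * y⁻¹)) * y := by rw [ha]; group
    rw [this, orderOf_conj'']
    have hy3 : y * (y * x * y⁻¹) * y⁻¹ = y⁻¹ * x * y := by
      have h3 : y ^ 3 = 1 := by have := pow_orderOf_eq_one y; rwa [hy] at this
      have h4 : y * y = y⁻¹ := by
        rw [eq_comm, inv_eq_iff_mul_eq_one, ← h3, pow_succ, pow_two, mul_assoc]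
      have : y * (y * x * y⁻¹) * y⁻¹ = (y * y) * x * (y * y)⁻¹ := by group
      rw [this, h4, inv_inv]
    rw [hb, hy3]
    exact ta
  haveI := charZero_A (A := A)
  have exy : Lm (ρ x) (2 * ρ a + 1) * Lm (ρ x) (2 * ρ a + 1) = 1 := by
    -- value for (x,a) is -1; the form is symmetric
    have s : Lm (ρ x) (2 * ρ a + 1) = Lm (ρ a) (2 * ρ x + 1) := by unfold Lm; noncomm_ring
    rw [s, D.Lm_three hx oa, D.tr4 ta]; norm_num
  have six : ∀ c : G, (c = x ∨ c = x⁻¹) → orderOf (a * (c⁻¹ * a * c)) = 6 := by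
    intro c hc
    have oc : orderOf c = 3 := by rcases hc with rfl | rfl; exact hx; rw [orderOf_inv]; exact hx
    have o : orderOf (c⁻¹ * a * c) = 3 := by rw [orderOf_conj'']; exact oa
    apply (D.order_of_Lm oa o).2.1
    have h1 := D.conj_Lm oa oc
    have h2 : Lm (ρ c) (2 * ρ a + 1) * Lm (ρ c) (2 * ρ a + 1) = 1 := by
      rcases hc with rfl | rfl
      · exact exy
      · rw [D.Lm_inv hx, neg_mul_neg]; exact exy
    rw [h2] at h1
    rw [← sub_eq_zero]
    apply nsmul_inj (A := A) (n := 2) (by norm_num)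
    push_cast
    rw [mul_sub, h1]; norm_num
  -- rotations
  have hx3 : x ^ 3 = 1 := by have := pow_orderOf_eq_one x; rwa [hx] at this
  have hxi : x⁻¹ = x * x := by
    rw [inv_eq_iff_mul_eq_one, ← hx3, pow_succ, pow_two, mul_assoc]
  have hrot : (x * b) = (x * a) ∨ (x * b) = x⁻¹ * (x * a) * x ∨ (x * b) = x * (x * a) * x⁻¹ := by
    set p := x * a with hp
    set r := x * b with hr
    have xx : ∀ t : G, x⁻¹ * (x⁻¹ * t * x) * x = x * t * x⁻¹ := by
      intro t
      have : x⁻¹ * (x⁻¹ * t * x) * x = (x * x)⁻¹ * t * (x * x) := by group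
      rw [this, ← hxi, inv_inv]
    have xx' : ∀ t : G, x * (x * t * x⁻¹) * x⁻¹ = x⁻¹ * t * x := by
      intro t
      have : x * (x * t * x⁻¹) * x⁻¹ = (x * x) * t * (x * x)⁻¹ := by group
      rw [this, ← hxi, inv_inv]
    have inv_eq : ∀ s t : G, s⁻¹ = t⁻¹ → s = t := fun s t h => inv_injective h
    rcases r1 with r1 | r1 | r1 <;> rcases r2 with r2 | r2 | r2 <;> rw [r1, r2] at hq
    · left; exact (inv_eq _ _ hq).symm
    · right; right
      apply inv_eq
      calc r⁻¹ = x * (x⁻¹ * r⁻¹ * x) * x⁻¹ := by group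
        _ = x * p⁻¹ * x⁻¹ := by rw [← hq]
        _ = _ := by group
    · right; left
      apply inv_eq
      calc r⁻¹ = x⁻¹ * (x * r⁻¹ * x⁻¹) * x := by group
        _ = x⁻¹ * p⁻¹ * x := by rw [← hq]
        _ = _ := by group
    · right; left
      apply inv_eq
      rw [← hq]; group
    · left
      apply inv_eq
      calc r⁻¹ = x * (x⁻¹ * r⁻¹ * x) * x⁻¹ := by group
        _ = x * (x⁻¹ * p⁻¹ * x) * x⁻¹ := by rw [← hq]
        _ = _ := by group
    · right; right
      apply inv_eq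
      calc r⁻¹ = x⁻¹ * (x * r⁻¹ * x⁻¹) * x := by group
        _ = x⁻¹ * (x⁻¹ * p⁻¹ * x) * x := by rw [← hq]
        _ = x * p⁻¹ * x⁻¹ := xx _
        _ = _ := by group
    · right; right
      apply inv_eq
      rw [← hq]; group
    · right; left
      apply inv_eq
      calc r⁻¹ = x * (x⁻¹ * r⁻¹ * x) * x⁻¹ := by group
        _ = x * (x * p⁻¹ * x⁻¹) * x⁻¹ := by rw [← hq]
        _ = x⁻¹ * p⁻¹ * x := xx' _
        _ = _ := by group
    · left
      apply inv_eq
      calc r⁻¹ = x⁻¹ * (x * r⁻¹ * x⁻¹) * x := by group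
        _ = x⁻¹ * (x * p⁻¹ * x⁻¹) * x := by rw [← hq]
        _ = _ := by group
  rcases hrot with h | h | h
  · have hab : b = a := mul_left_cancel h
    rw [hab] at tab
    have : orderOf (a * a) = 3 := by
      have e : a * a = a⁻¹ := by
        have h3 : a ^ 3 = 1 := by have := pow_orderOf_eq_one a; rwa [oa] at this
        rw [pow_succ, pow_two] at h3
        exact eq_inv_of_mul_eq_one_left h3
      rw [e, orderOf_inv]; exact oa
    omega
  · have hab : b = x⁻¹ * a * x := by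
      calc b = x⁻¹ * (x * b) := by group
        _ = x⁻¹ * (x⁻¹ * (x * a) * x) := by rw [h]
        _ = x⁻¹ * a * x := by group
    have := six x (Or.inl rfl)
    rw [← hab] at this
    omega
  · have hab : b = (x⁻¹)⁻¹ * a * x⁻¹ := by
      calc b = x⁻¹ * (x * b) := by group
        _ = x⁻¹ * (x * (x * a) * x⁻¹) := by rw [h]
        _ = _ := by group
    have := six x⁻¹ (Or.inr rfl)
    rw [← hab] at this
    omega

end ZD

end Cfsg.Agent.H21.ZF
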