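import Cfsg.Agent.H21.ZF7
import Cfsg.Agent.H21.PresSL25

set_option autoImplicit false
set_option linter.all false

/-!
Zassenhaus' theorem, part 8 (helper21): icosahedral pairs generate `SL(2,5)`.
-/

namespace Cfsg.Agent.H21.ZF

/-- a group satisfying the relations with `z ≠ 1` contains a copy of `SL(2,5)` -/
theorem exists_embed_range {G : Type*} [Group G] (x y z : G)
    (hx : x ^ 3 = 1) (hy : y ^ 5 = 1) (hz : z ^ 2 = 1) (hzx : z * x = x * z) (hzy : z * y = y * z)
    (hxy : (x * y) ^ 2 = z) (hz1 : z ≠ 1) : ∃ ρ : SL25 →* G, Function.Injective ρ ∧ x ∈ ρ.range ∧ y ∈ ρ.range ∧ ρ.range ≤ Subgroup.closure {x, y} := by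
  obtain ⟨φ, h0, h1, h2⟩ := exists_hom x y z hx hy hz hzx hzy hxy
  obtain ⟨e⟩ := presSL25
  haveI := pres_card.1
  set ρ : SL25 →* G := φ.comp e.symm.toMonoidHom with hρ
  have hx'' : x ∈ ρ.range := ⟨e (PresentedGroup.of 0), by simp [hρ, h0]⟩
  have hy'' : y ∈ ρ.range := ⟨e (PresentedGroup.of 1), by simp [hρ, h1]⟩
  have hrange : ρ.range ≤ Subgroup.closure {x, y} := by
    have hxm : x ∈ Subgroup.closure {x, y} := Subgroup.subset_closure (by simp)
    have hym : y ∈ Subgroup.closure {x, y} := Subgroup.subset_closure (by simp)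
    rintro _ ⟨s, rfl⟩
    have : ρ s = φ (e.symm s) := rfl
    rw [this]
    have hcl := PresentedGroup.closure_range_of relSL25
    have hmem : e.symm s ∈ Subgroup.closure (Set.range (PresentedGroup.of : Fin 3 → PresentedGroup relSL25)) := by
      rw [hcl]; trivial
    generalize e.symm s = t0 at hmem ⊢
    induction hmem using Subgroup.closure_induction with
    | mem t ht =>
      obtain ⟨i, rfl⟩ := ht
      fin_cases i
      · exact h0 ▸ hxm
      · exact h1 ▸ hym
      · have : φ (PresentedGroup.of 2) = (x * y) ^ 2 := by rw [h2, hxy]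
        exact this ▸ Subgroup.pow_mem _ (Subgroup.mul_mem _ hxm hym) 2
    | one => rw [map_one]; exact Subgroup.one_mem _
    | mul a b _ _ ha hb => rw [map_mul]; exact Subgroup.mul_mem _ ha hb
    | inv a _ ha => rw [map_inv]; exact Subgroup.inv_mem _ ha
  refine ⟨ρ, ?_, hx'', hy'', hrange⟩
  have hρe : ∀ a, ρ (e a) = φ a := fun a => by simp [hρ]
  have hinv : ∀ w : SL25, w ^ 2 = 1 → w = 1 ∨ w = slZ := by decide +kernel
  have hx1 : x ≠ 1 := by
    rintro rfl
    rw [one_mul] at hxy
    apply hz1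
    calc z = z ^ 5 := by rw [show 5 = 2 + 2 + 1 from rfl, pow_add, pow_add, hz, one_mul, one_mul, pow_one]
      _ = (y ^ 5) ^ 2 := by rw [← hxy]; group
      _ = 1 := by rw [hy, one_pow]
  have hy1 : y ≠ 1 := by
    rintro rfl
    rw [mul_one] at hxy
    apply hz1
    calc z = z ^ 3 := by rw [show 3 = 2 + 1 from rfl, pow_add, hz, one_mul, pow_one]
      _ = (x ^ 3) ^ 2 := by rw [← hxy]; group
      _ = 1 := by rw [hx, one_pow]
  haveI hfin : Finite ρ.range := Finite.of_surjective ρ.rangeRestrict ρ.rangeRestrict_surjective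
  have hx' : x ∈ ρ.range := ⟨e (PresentedGroup.of 0), by rw [hρe, h0]⟩
  have hy' : y ∈ ρ.range := ⟨e (PresentedGroup.of 1), by rw [hρe, h1]⟩
  haveI : Fact (Nat.Prime 3) := ⟨Nat.prime_three⟩
  haveI : Fact (Nat.Prime 5) := ⟨Nat.prime_five⟩
  haveI : Fact (Nat.Prime 2) := ⟨Nat.prime_two⟩
  have d3 : 3 ∣ Nat.card ρ.range := by
    have := Subgroup.orderOf_dvd_natCard ρ.range hx'
    rwa [orderOf_eq_prime hx hx1] at this
  have d5 : 5 ∣ Nat.card ρ.range := by
    have := Subgroup.orderOf_dvd_natCard ρ.range hy'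
    rwa [orderOf_eq_prime hy hy1] at this
  have d4 : 4 ∣ Nat.card ρ.range := by
    have := Subgroup.orderOf_dvd_natCard ρ.range (ρ.range.mul_mem hx' hy')
    have h4 := orderOf_eq_prime_pow (x := x * y) (p := 2) (n := 1) (by rw [pow_one, hxy]; exact hz1)
      (by rw [show 2 ^ (1 + 1) = 2 * 2 from rfl, pow_mul, hxy, hz])
    rw [h4] at this
    exact this
  have hcard : Nat.card ρ.ker * Nat.card ρ.range = 120 := by
    have h3 := Subgroup.card_mul_index ρ.ker
    rw [Subgroup.index_ker, card_sl25] at h3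
    exact h3
  have d60 : 60 ∣ Nat.card ρ.range := by
    have h3 : 12 ∣ Nat.card ρ.range := Nat.Coprime.mul_dvd_of_dvd_of_dvd (by norm_num) d3 d4
    exact Nat.Coprime.mul_dvd_of_dvd_of_dvd (m := 12) (n := 5) (by norm_num) h3 d5
  rw [← MonoidHom.ker_eq_bot_iff]
  by_contra hne
  obtain ⟨k, hk⟩ := d60
  have hker : Nat.card ρ.ker ∣ 2 := by
    rw [hk] at hcard
    refine ⟨k, ?_⟩
    nlinarith [hcard]
  have hker2 : Nat.card ρ.ker = 2 := by
    rcases (Nat.dvd_prime Nat.prime_two).1 hker with h | h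
    · exact absurd (Subgroup.card_eq_one.1 h) hne
    · exact h
  obtain ⟨w, hw⟩ := exists_prime_orderOf_dvd_card' (G := ρ.ker) 2 (by rw [hker2])
  have hw2 : (w : SL25) ^ 2 = 1 := by
    have := pow_orderOf_eq_one w
    rw [hw] at this
    exact congrArg Subtype.val this
  have hw1 : (w : SL25) ≠ 1 := by
    intro h
    have : w = 1 := Subtype.ext h
    rw [this, orderOf_one] at hw
    omega
  have hwz := (hinv _ hw2).resolve_left hw1
  have hof1 : (PresentedGroup.of 2 : PresentedGroup relSL25) ≠ 1 := by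
    intro h
    rw [h, map_one] at h2
    exact hz1 h2.symm
  have hof2 : (e (PresentedGroup.of 2)) ^ 2 = 1 := by
    rw [← map_pow, show (PresentedGroup.of 2 : PresentedGroup relSL25) ^ 2 = 1 from ?_, map_one]
    exact PresentedGroup.one_of_mem (rels := relSL25) (x := FreeGroup.of 2 ^ 2) (by simp [relSL25])
  have hez := (hinv _ hof2).resolve_left (fun h => hof1 (e.injective (h.trans (map_one e).symm)))
  have h3 : ρ (w : SL25) = 1 := w.2
  rw [hwz, ← hez, hρe, h2] at h3
  exact hz1 h3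


namespace ZD
variable {G : Type*} [Group G] [Finite G] {A : Type*} [Ring A] [Algebra ℚ A] [Nontrivial A] {ρ : G →* A}
variable (D : ZD ρ)
include D

theorem five_of_ten {x y : G} (hx : orderOf x = 3) (hy : orderOf y = 3) (h10 : orderOf (x * y) = 10) :
    Lm (ρ y) (2 * ρ x + 1) * Lm (ρ y) (2 * ρ x + 1) = 5 := by
  have hne : x * y ≠ y * x := by
    intro hc
    have h3 : (x * y) ^ 3 = 1 := by
      have e1 : x ^ 3 = 1 := by have := pow_orderOf_eq_one x; rwa [hx] at this
      have e2 : y ^ 3 = 1 := by have := pow_orderOf_eq_one y; rwa [hy] at this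
      rw [(show Commute x y from hc).mul_pow, e1, e2, one_mul]
    have := orderOf_dvd_of_pow_eq_one h3
    rw [h10] at this
    norm_num at this
  rcases D.E_type hx hy hne with ⟨h1, h2⟩ | ⟨h1, h2⟩ | ⟨h1, h2⟩
  · omega
  · omega
  · exact h2

theorem inv_central {z : G} (hz : orderOf z = 2) (g : G) : z * g = g * z := by
  apply D.inj
  rw [map_mul, map_mul, D.inv_two hz]; noncomm_ring

theorem inv_unique {z z' : G} (hz : orderOf z = 2) (hz' : orderOf z' = 2) : z = z' := by
  apply D.inj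
  rw [D.inv_two hz, D.inv_two hz']

/-- `y` lies in the subgroup generated by `x` and its conjugates by `y` and `y⁻¹` -/
theorem mem_conj_closure {x w : G} (hw : orderOf w = 3) (h10 : (x * w) ^ 10 = 1) :
    w ∈ Subgroup.closure ({x, w⁻¹ * x * w, w * x * w⁻¹} : Set G) := by
  set H := Subgroup.closure ({x, w⁻¹ * x * w, w * x * w⁻¹} : Set G) with hH
  have hw3 : w ^ 3 = 1 := by have := pow_orderOf_eq_one w; rwa [hw] at this
  have h4 : w * w = w⁻¹ := by
    rw [pow_succ, pow_two] at hw3
    exact eq_inv_of_mul_eq_one_left hw3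
  have m1 : x ∈ H := Subgroup.subset_closure (by simp)
  have m2 : w⁻¹ * x * w ∈ H := Subgroup.subset_closure (by simp)
  have m3 : w * x * w⁻¹ ∈ H := Subgroup.subset_closure (by simp)
  have hn : ∀ h ∈ H, w * h * w⁻¹ ∈ H := by
    intro h hh
    induction hh using Subgroup.closure_induction with
    | mem t ht =>
      rcases ht with rfl | rfl | rfl
      · exact m3
      · rw [show w * (w⁻¹ * x * w) * w⁻¹ = x by group]; exact m1
      · rw [show w * (w * x * w⁻¹) * w⁻¹ = (w * w) * x * (w * w)⁻¹ by group, h4, inv_inv]; exact m2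
    | one => rw [mul_one, mul_inv_cancel]; exact H.one_mem
    | mul a b _ _ ha hb =>
      rw [show w * (a * b) * w⁻¹ = (w * a * w⁻¹) * (w * b * w⁻¹) by group]
      exact H.mul_mem ha hb
    | inv a _ ha =>
      rw [show w * a⁻¹ * w⁻¹ = (w * a * w⁻¹)⁻¹ by group]
      exact H.inv_mem ha
  have key : ∀ n : ℕ, (x * w) ^ n * w⁻¹ ^ n ∈ H := by
    intro n
    induction n with
    | zero => rw [pow_zero, pow_zero, one_mul]; exact H.one_mem
    | succ n ih =>
      have : (x * w) ^ (n + 1) * w⁻¹ ^ (n + 1) = x * (w * ((x * w) ^ n * w⁻¹ ^ n) * w⁻¹) := by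
        rw [pow_succ', pow_succ w⁻¹]; group
      rw [this]
      exact H.mul_mem m1 (hn _ ih)
  have h := key 10
  rw [h10, one_mul] at h
  have h9 : w⁻¹ ^ 10 = w⁻¹ := by
    rw [show 10 = 3 * 3 + 1 from rfl, pow_add, pow_mul, inv_pow, hw3, inv_one, one_pow, one_mul, pow_one]
  rw [h9] at h
  have := H.inv_mem h
  rwa [inv_inv] at this

/-- all elements of order three lie in the subgroup generated by an icosahedral pair -/
theorem all_mem {x y : G} (hx : orderOf x = 3) (hy : orderOf y = 3) (h10 : orderOf (x * y) = 10)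
    {w : G} (hw : orderOf w = 3) : w ∈ Subgroup.closure {x, y} := by
  have h5 := D.five_of_ten hx hy h10
  set K := Subgroup.closure {x, y} with hK
  have hxm : x ∈ K := Subgroup.subset_closure (by simp)
  by_cases hc : x * w = w * x
  · rcases D.comm_three hx hw hc with rfl | rfl
    · exact hxm
    · exact K.inv_mem hxm
  have hw' : orderOf w⁻¹ = 3 := by rw [orderOf_inv]; exact hw
  rcases D.E_type hx hw hc with ⟨h1, h2⟩ | ⟨h1, h2⟩ | ⟨h1, h2⟩
  · have h4 : orderOf (x * w⁻¹) = 4 := by
      apply (D.order_of_Lm hx hw').1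
      rw [D.Lm_inv hw, h2]
    have := D.key (fr_of D hx hw' h4) hy h5
    have h6 := K.mul_mem (K.inv_mem hxm) (K.inv_mem this)
    rw [inv_inv, inv_mul_cancel_left] at h6
    have := K.inv_mem h6
    rwa [inv_inv] at this
  · have := D.key (fr_of D hx hw h1) hy h5
    have h6 := K.mul_mem (K.inv_mem hxm) (K.inv_mem this)
    rwa [inv_inv, inv_mul_cancel_left] at h6
  · have t1 : orderOf (x * (w⁻¹ * x * w)) = 4 := D.tet_conj hx hw h2
    have t2 : orderOf (x * (w * x * w⁻¹)) = 4 := by
      have := D.tet_conj hx hw' (by rw [D.Lm_inv hw, neg_mul_neg]; exact h2)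
      rwa [inv_inv] at this
    have o1 : orderOf (w⁻¹ * x * w) = 3 := by rw [orderOf_conj'']; exact hx
    have o2 : orderOf (w * x * w⁻¹) = 3 := by rw [orderOf_conj']; exact hx
    have k1 := D.key (fr_of D hx o1 t1) hy h5
    have k2 := D.key (fr_of D hx o2 t2) hy h5
    have a1 : w⁻¹ * x * w ∈ K := by
      have h6 := K.mul_mem (K.inv_mem hxm) (K.inv_mem k1)
      rwa [inv_inv, inv_mul_cancel_left] at h6
    have a2 : w * x * w⁻¹ ∈ K := by
      have h6 := K.mul_mem (K.inv_mem hxm) (K.inv_mem k2)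
      rwa [inv_inv, inv_mul_cancel_left] at h6
    have hle : Subgroup.closure ({x, w⁻¹ * x * w, w * x * w⁻¹} : Set G) ≤ K := by
      rw [Subgroup.closure_le]
      rintro t (rfl | rfl | rfl)
      · exact hxm
      · exact a1
      · exact a2
    exact hle (D.mem_conj_closure hw (by have := pow_orderOf_eq_one (x * w); rwa [h1] at this))

/-- an icosahedral pair generates `SL(2,5)` -/
theorem ico_iso {x y : G} (hx : orderOf x = 3) (hy : orderOf y = 3) (h10 : orderOf (x * y) = 10) :
    Nonempty (Subgroup.closure {x, y} ≃* SL25) := by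
  have h5 := D.five_of_ten hx hy h10
  have hs : Lm (ρ x) (2 * ρ y + 1) = Lm (ρ y) (2 * ρ x + 1) := by unfold Lm; noncomm_ring
  have h5s : Lm (ρ x) (2 * ρ y + 1) * Lm (ρ x) (2 * ρ y + 1) = 5 := by rw [hs]; exact h5
  have hx' : orderOf x⁻¹ = 3 := by rw [orderOf_inv]; exact hx
  have o4 : orderOf (y * (x⁻¹ * y * x)) = 4 := D.tet_conj hy hx h5s
  have o10 : orderOf (y * x⁻¹) = 10 := by
    apply (D.order_of_Lm hy hx').2.2
    rw [D.Lm_inv hx, neg_mul_neg]; exact h5s
  set B := (y * x⁻¹) ^ 2 with hB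
  have hx3 : x ^ 3 = 1 := by have := pow_orderOf_eq_one x; rwa [hx] at this
  have hxx : x * x = x⁻¹ := by
    have h3 := hx3
    rw [pow_succ, pow_two] at h3
    exact eq_inv_of_mul_eq_one_left h3
  have hyx10 : (y * x⁻¹) ^ 10 = 1 := by have := pow_orderOf_eq_one (y * x⁻¹); rwa [o10] at this
  have hB5 : B ^ 5 = 1 := by rw [hB, ← pow_mul]; exact hyx10
  have hBx : B * x⁻¹ = y * (x⁻¹ * y * x) := by
    rw [hB, pow_two]
    calc y * x⁻¹ * (y * x⁻¹) * x⁻¹ = y * (x⁻¹ * y * (x * x)⁻¹) := by group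
      _ = _ := by rw [hxx, inv_inv]
  set z := (x⁻¹ * B) ^ 2 with hz
  have oBx : orderOf (x⁻¹ * B) = 4 := by
    have : x⁻¹ * B = x⁻¹ * (B * x⁻¹) * x := by group
    rw [this, orderOf_conj'', hBx]; exact o4
  have oz : orderOf z = 2 := by
    have := orderOf_pow_of_dvd (x := x⁻¹ * B) (n := 2) (by norm_num) (by rw [oBx]; norm_num)
    rw [oBx] at this
    exact this
  have hz2 : z ^ 2 = 1 := by have := pow_orderOf_eq_one z; rwa [oz] at this
  have hz1 : z ≠ 1 := by rintro h; rw [h, orderOf_one] at oz; omega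
  obtain ⟨f, hf, fx, fB, fr⟩ := exists_embed_range x⁻¹ B z (by rw [inv_pow, hx3, inv_one]) hB5 hz2
    (D.inv_central oz _) (D.inv_central oz _) hz.symm hz1
  have hxr : x ∈ f.range := by have := f.range.inv_mem fx; rwa [inv_inv] at this
  have hzr : z ∈ f.range := f.range.pow_mem (f.range.mul_mem fx fB) 2
  have o2 : orderOf ((y * x⁻¹) ^ 5) = 2 := by
    have := orderOf_pow_of_dvd (x := y * x⁻¹) (n := 5) (by norm_num) (by rw [o10]; norm_num)
    rw [o10] at this
    exact this
  have hyx : y * x⁻¹ = z * B ^ 3 := by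
    rw [← D.inv_unique o2 oz, hB, ← pow_mul, ← pow_add]
    rw [show 5 + 2 * 3 = 10 + 1 from rfl, pow_add, hyx10, one_mul, pow_one]
  have hyr : y ∈ f.range := by
    have : y = (z * B ^ 3) * x := by rw [← hyx]; group
    rw [this]
    exact f.range.mul_mem (f.range.mul_mem hzr (f.range.pow_mem fB 3)) hxr
  have hxm : x ∈ Subgroup.closure {x, y} := Subgroup.subset_closure (by simp)
  have hym : y ∈ Subgroup.closure {x, y} := Subgroup.subset_closure (by simp)
  have heq : f.range = Subgroup.closure {x, y} := by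
    apply le_antisymm
    · refine fr.trans ?_
      rw [Subgroup.closure_le]
      rintro t (rfl | rfl)
      · exact Subgroup.inv_mem _ hxm
      · exact Subgroup.pow_mem _ (Subgroup.mul_mem _ hym (Subgroup.inv_mem _ hxm)) 2
    · rw [Subgroup.closure_le]
      rintro t (rfl | rfl)
      · exact hxr
      · exact hyr
  rw [← heq]
  exact ⟨(MonoidHom.ofInjective hf).symm⟩

end ZD

end Cfsg.Agent.H21.ZF
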