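import Cfsg.Agent.H21.ZF8
import Cfsg.Agent.H5.SylSL2
import Cfsg.Agent.H2.Frobenius
import Cfsg.Agent.H21.Ord120

set_option autoImplicit false
set_option linter.all false

/-!
Zassenhaus' theorem, part 9 (helper21): without icosahedral pairs the group is solvable.
-/

namespace Cfsg.Agent.H21.ZF

theorem comm_of_cyc {G : Type*} [Group G] [Finite G] {p k m : ℕ} [hp : Fact p.Prime] (c g : G) (hc : orderOf c = p ^ k)
    (hg : g * c * g⁻¹ = c ^ m) (hm : m ≡ 1 [MOD p]) (hn : ¬ p ∣ orderOf g) : g * c = c * g := by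
  have h1 : ∀ j : ℕ, g ^ j * c * (g ^ j)⁻¹ = c ^ (m ^ j) := by
    intro j
    induction j with
    | zero => simp
    | succ j ih =>
      have : g ^ (j + 1) * c * (g ^ (j + 1))⁻¹ = g * (g ^ j * c * (g ^ j)⁻¹) * g⁻¹ := by
        rw [pow_succ']; group
      rw [this, ih]
      have h2 : g * c ^ (m ^ j) * g⁻¹ = (g * c * g⁻¹) ^ (m ^ j) := by rw [conj_pow]
      rw [h2, hg, ← pow_mul, pow_succ']
  have h2 := h1 (orderOf g)
  rw [pow_orderOf_eq_one, one_mul, inv_one, mul_one] at h2
  have h3 : m ^ orderOf g ≡ 1 [MOD p ^ k] := by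
    rw [← hc]
    have : c ^ (m ^ orderOf g) = c ^ 1 := by rw [← h2, pow_one]
    exact (pow_eq_pow_iff_modEq.1 this)
  have h4 : (p ^ k : ℤ) ∣ (m : ℤ) - 1 := by
    have h5 : ((p ^ k : ℕ) : ℤ) ∣ (m : ℤ) ^ orderOf g - 1 := by
      have := (Nat.modEq_iff_dvd.1 h3.symm)
      push_cast at this ⊢
      exact this
    rw [← geom_sum_mul] at h5
    have h6 : IsCoprime ((p ^ k : ℕ) : ℤ) (∑ i ∈ Finset.range (orderOf g), (m : ℤ) ^ i) := by
      push_cast
      apply IsCoprime.pow_left
      have hpr : Prime (p : ℤ) := Nat.prime_iff_prime_int.1 hp.out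
      rw [Prime.coprime_iff_not_dvd hpr]
      intro hd
      apply hn
      have h7 : (∑ i ∈ Finset.range (orderOf g), (m : ℤ) ^ i) ≡ (orderOf g : ℤ) [ZMOD p] := by
        have h8 : (m : ℤ) ≡ 1 [ZMOD p] := by exact_mod_cast (Int.natCast_modEq_iff.2 hm)
        have h9 : ∀ n : ℕ, (∑ i ∈ Finset.range n, (m : ℤ) ^ i) ≡ (n : ℤ) [ZMOD p] := by
          intro n
          induction n with
          | zero => simp
          | succ n ih =>
            rw [Finset.sum_range_succ]
            push_cast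
            have := h8.pow n
            rw [one_pow] at this
            exact ih.add this
        exact h9 _
      have h8 := (Int.modEq_zero_iff_dvd.2 hd)
      have h9 := (h7.symm.trans h8)
      rw [Int.modEq_zero_iff_dvd] at h9
      exact_mod_cast h9
    have := h6.dvd_of_dvd_mul_left h5
    push_cast at this
    exact this
  have h5 : m ≡ 1 [MOD orderOf c] := by
    rw [hc]
    apply Nat.ModEq.symm
    rw [Nat.modEq_iff_dvd]
    push_cast
    exact h4
  have h6 : c ^ m = c := by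
    have := pow_eq_pow_iff_modEq.2 h5
    rwa [pow_one] at this
  rw [h6] at hg
  calc g * c = g * c * g⁻¹ * g := by group
    _ = c * g := by rw [hg]

/-- automorphisms of odd order, prime to three, of quaternion groups: the group theoretic form -/
theorem comm_of_quat {G : Type*} [Group G] [Finite G] (P : Subgroup G) {n : ℕ} (hn : 1 ≤ n)
    (e : P ≃* QuaternionGroup (2 ^ n)) {g : G} (hg : ∀ t ∈ P, g * t * g⁻¹ ∈ P) (h2 : ¬ 2 ∣ orderOf g) (h3 : ¬ 3 ∣ orderOf g) :
    ∀ t ∈ P, g * t = t * g := by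
  classical
  haveI : Fact (Nat.Prime 2) := ⟨Nat.prime_two⟩
  by_cases h1 : n = 1
  · subst h1
    have hgj : ∀ j : ℕ, ∀ t ∈ P, g ^ j * t * (g ^ j)⁻¹ ∈ P := by
      intro j
      induction j with
      | zero => intro t ht; simpa using ht
      | succ j ih =>
        intro t ht
        have : g ^ (j + 1) * t * (g ^ (j + 1))⁻¹ = g * (g ^ j * t * (g ^ j)⁻¹) * g⁻¹ := by
          rw [pow_succ']; group
        rw [this]
        exact hg _ (ih t ht)
    have hpig : ∀ a b c d : QuaternionGroup (2 ^ 1), (a = b ∨ a = b⁻¹) ∨ (a = c ∨ a = c⁻¹) ∨ (a = d ∨ a = d⁻¹) ∨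
        (b = c ∨ b = c⁻¹) ∨ (b = d ∨ b = d⁻¹) ∨ (c = d ∨ c = d⁻¹) ∨ a * a = 1 ∨ b * b = 1 ∨ c * c = 1 ∨ d * d = 1 := by
      decide +kernel
    have hpig' : ∀ a b c d : G, a ∈ P → b ∈ P → c ∈ P → d ∈ P → (a = b ∨ a = b⁻¹) ∨ (a = c ∨ a = c⁻¹) ∨ (a = d ∨ a = d⁻¹) ∨
        (b = c ∨ b = c⁻¹) ∨ (b = d ∨ b = d⁻¹) ∨ (c = d ∨ c = d⁻¹) ∨ a * a = 1 ∨ b * b = 1 ∨ c * c = 1 ∨ d * d = 1 := by
      intro a b c d ha hb hc hd
      have h := hpig (e ⟨a, ha⟩) (e ⟨b, hb⟩) (e ⟨c, hc⟩) (e ⟨d, hd⟩)
      have k1 : ∀ x y : P, e x = e y → (x : G) = y := fun x y h => congrArg Subtype.val (e.injective h)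
      have k2 : ∀ x y : P, e x = (e y)⁻¹ → (x : G) = (y : G)⁻¹ := fun x y h => by
        rw [← map_inv] at h; exact congrArg Subtype.val (e.injective h)
      have k3 : ∀ x : P, e x * e x = 1 → (x : G) * x = 1 := fun x h => by
        rw [← map_mul, ← map_one e] at h; exact congrArg Subtype.val (e.injective h)
      rcases h with (h | h) | (h | h) | (h | h) | (h | h) | (h | h) | (h | h) | h | h | h | h
      · exact Or.inl (Or.inl (k1 _ _ h))
      · exact Or.inl (Or.inr (k2 _ _ h))
      · exact Or.inr (Or.inl (Or.inl (k1 _ _ h)))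
      · exact Or.inr (Or.inl (Or.inr (k2 _ _ h)))
      · exact Or.inr (Or.inr (Or.inl (Or.inl (k1 _ _ h))))
      · exact Or.inr (Or.inr (Or.inl (Or.inr (k2 _ _ h))))
      · exact Or.inr (Or.inr (Or.inr (Or.inl (Or.inl (k1 _ _ h)))))
      · exact Or.inr (Or.inr (Or.inr (Or.inl (Or.inr (k2 _ _ h)))))
      · exact Or.inr (Or.inr (Or.inr (Or.inr (Or.inl (Or.inl (k1 _ _ h))))))
      · exact Or.inr (Or.inr (Or.inr (Or.inr (Or.inl (Or.inr (k2 _ _ h))))))
      · exact Or.inr (Or.inr (Or.inr (Or.inr (Or.inr (Or.inl (Or.inl (k1 _ _ h)))))))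
      · exact Or.inr (Or.inr (Or.inr (Or.inr (Or.inr (Or.inl (Or.inr (k2 _ _ h)))))))
      · exact Or.inr (Or.inr (Or.inr (Or.inr (Or.inr (Or.inr (Or.inl (k3 _ h)))))))
      · exact Or.inr (Or.inr (Or.inr (Or.inr (Or.inr (Or.inr (Or.inr (Or.inl (k3 _ h))))))))
      · exact Or.inr (Or.inr (Or.inr (Or.inr (Or.inr (Or.inr (Or.inr (Or.inr (Or.inl (k3 _ h)))))))))
      · exact Or.inr (Or.inr (Or.inr (Or.inr (Or.inr (Or.inr (Or.inr (Or.inr (Or.inr (k3 _ h)))))))))
    intro t ht
    -- it is enough that `g ^ 12` commutes with `t`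
    suffices h12 : g ^ 12 * t = t * g ^ 12 by
      have hcop : Nat.Coprime 12 (orderOf g) := by
        rw [show 12 = 2 ^ 2 * 3 from rfl]
        apply Nat.Coprime.mul_left
        · apply Nat.Coprime.pow_left
          exact (Nat.Prime.coprime_iff_not_dvd Nat.prime_two).2 h2
        · exact (Nat.Prime.coprime_iff_not_dvd Nat.prime_three).2 h3
      obtain ⟨m, hm⟩ := exists_pow_eq_self_of_coprime hcop
      have h5 : Commute (g ^ 12) t := h12
      have := h5.pow_left m
      rw [hm] at this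
      exact this
    by_cases ht2 : t * t = 1
    · -- the unique involution
      have h5 : ∀ a b : QuaternionGroup (2 ^ 1), a * a = 1 → b * b = 1 → a ≠ 1 → b ≠ 1 → a = b := by decide +kernel
      have h6 : ∀ s ∈ P, s * s = 1 → s ≠ 1 → t ≠ 1 → s = t := by
        intro s hs hss hs1 ht1
        have := h5 (e ⟨s, hs⟩) (e ⟨t, ht⟩) (by rw [← map_mul, ← map_one e]; congr 1; exact Subtype.ext hss)
          (by rw [← map_mul, ← map_one e]; congr 1; exact Subtype.ext ht2)
          (by intro h; rw [← map_one e] at h; exact hs1 (congrArg Subtype.val (e.injective h)))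
          (by intro h; rw [← map_one e] at h; exact ht1 (congrArg Subtype.val (e.injective h)))
        exact congrArg Subtype.val (e.injective this)
      by_cases ht1 : t = 1
      · rw [ht1, mul_one, one_mul]
      · have h7 := h6 (g ^ 12 * t * (g ^ 12)⁻¹) (hgj 12 t ht) (by
          rw [show g ^ 12 * t * (g ^ 12)⁻¹ * (g ^ 12 * t * (g ^ 12)⁻¹) = g ^ 12 * (t * t) * (g ^ 12)⁻¹ by group, ht2]; group)
          (by intro h; apply ht1
              have : t = (g ^ 12)⁻¹ * (g ^ 12 * t * (g ^ 12)⁻¹) * g ^ 12 := by group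
              rw [this, h]; group) ht1
        calc g ^ 12 * t = (g ^ 12 * t * (g ^ 12)⁻¹) * g ^ 12 := by group
          _ = t * g ^ 12 := by rw [h7]
    -- period
    have hper : ∀ d : ℕ, 0 < d → (2 * d) ∣ 12 → (g ^ d * t * (g ^ d)⁻¹ = t ∨ g ^ d * t * (g ^ d)⁻¹ = t⁻¹) → g ^ 12 * t = t * g ^ 12 := by
      intro d _ hd h
      have h7 : g ^ (2 * d) * t * (g ^ (2 * d))⁻¹ = t := by
        have e1 : g ^ (2 * d) * t * (g ^ (2 * d))⁻¹ = g ^ d * (g ^ d * t * (g ^ d)⁻¹) * (g ^ d)⁻¹ := by
          rw [two_mul, pow_add]; group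
        rw [e1]
        rcases h with h | h
        · rw [h, h]
        · rw [h]
          have : g ^ d * t⁻¹ * (g ^ d)⁻¹ = (g ^ d * t * (g ^ d)⁻¹)⁻¹ := by group
          rw [this, h, inv_inv]
      have h8 : Commute (g ^ (2 * d)) t := by
        calc g ^ (2 * d) * t = (g ^ (2 * d) * t * (g ^ (2 * d))⁻¹) * g ^ (2 * d) := by group
          _ = t * g ^ (2 * d) := by rw [h7]
      obtain ⟨r, hr⟩ := hd
      have := h8.pow_left r
      rw [← pow_mul, ← hr] at this
      exact this
    have hsh : ∀ i j : ℕ, i ≤ j → (g ^ i * t * (g ^ i)⁻¹ = g ^ j * t * (g ^ j)⁻¹ ∨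
        g ^ i * t * (g ^ i)⁻¹ = (g ^ j * t * (g ^ j)⁻¹)⁻¹) →
        (g ^ (j - i) * t * (g ^ (j - i))⁻¹ = t ∨ g ^ (j - i) * t * (g ^ (j - i))⁻¹ = t⁻¹) := by
      intro i j hij h
      obtain ⟨d, rfl⟩ := Nat.exists_eq_add_of_le hij
      rw [Nat.add_sub_cancel_left]
      have e1 : g ^ (i + d) * t * (g ^ (i + d))⁻¹ = g ^ i * (g ^ d * t * (g ^ d)⁻¹) * (g ^ i)⁻¹ := by
        rw [pow_add]; group
      rw [e1] at h
      rcases h with h | h
      · left
        have := mul_left_cancel (mul_right_cancel h)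
        exact this.symm
      · right
        have h9 : g ^ i * t * (g ^ i)⁻¹ = g ^ i * (g ^ d * t * (g ^ d)⁻¹)⁻¹ * (g ^ i)⁻¹ := by rw [h]; group
        have := mul_left_cancel (mul_right_cancel h9)
        exact inv_eq_iff_eq_inv.1 this.symm
    have hsq : ∀ j : ℕ, (g ^ j * t * (g ^ j)⁻¹) * (g ^ j * t * (g ^ j)⁻¹) ≠ 1 := by
      intro j h
      apply ht2
      have : t * t = (g ^ j)⁻¹ * ((g ^ j * t * (g ^ j)⁻¹) * (g ^ j * t * (g ^ j)⁻¹)) * g ^ j := by group
      rw [this, h]; group
    rcases hpig' _ _ _ _ (hgj 0 t ht) (hgj 1 t ht) (hgj 2 t ht) (hgj 3 t ht) with h | h | h | h | h | h | h | h | h | h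
    · exact hper 1 (by norm_num) (by norm_num) (hsh 0 1 (by norm_num) h)
    · exact hper 2 (by norm_num) (by norm_num) (hsh 0 2 (by norm_num) h)
    · exact hper 3 (by norm_num) (by norm_num) (hsh 0 3 (by norm_num) h)
    · exact hper 1 (by norm_num) (by norm_num) (hsh 1 2 (by norm_num) h)
    · exact hper 2 (by norm_num) (by norm_num) (hsh 1 3 (by norm_num) h)
    · exact hper 1 (by norm_num) (by norm_num) (hsh 2 3 (by norm_num) h)
    · exact absurd h (hsq 0)
    · exact absurd h (hsq 1)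
    · exact absurd h (hsq 2)
    · exact absurd h (hsq 3)
  · have hn2 : 2 ≤ n := by omega
    haveI : NeZero (2 ^ n) := ⟨by positivity⟩
    set c : G := ((e.symm (QuaternionGroup.a 1) : P) : G) with hc
    set t0 : G := ((e.symm (QuaternionGroup.xa 0) : P) : G) with ht0
    have hcP : c ∈ P := SetLike.coe_mem _
    have htP : t0 ∈ P := SetLike.coe_mem _
    have hca : ∀ i : ZMod (2 * 2 ^ n), ((e.symm (QuaternionGroup.a i) : P) : G) = c ^ i.val := by
      intro i
      have : QuaternionGroup.a i = (QuaternionGroup.a 1 : QuaternionGroup (2 ^ n)) ^ i.val := by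
        rw [QuaternionGroup.a_one_pow, ZMod.natCast_zmod_val]
      rw [this, map_pow]; rfl
    have hoc : orderOf c = 2 ^ (n + 1) := by
      have h5 : orderOf (e.symm (QuaternionGroup.a 1)) = 2 ^ (n + 1) := by
        rw [MulEquiv.orderOf_eq, QuaternionGroup.orderOf_a_one, pow_succ']
      rw [hc, Subgroup.orderOf_coe, h5]
    -- conj of `c`
    have hgc : ∃ m : ℕ, g * c * g⁻¹ = c ^ m := by
      have hmem := hg c hcP
      rcases hx : e ⟨g * c * g⁻¹, hmem⟩ with i | i
      · refine ⟨i.val, ?_⟩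
        rw [← hca, ← hx, MulEquiv.symm_apply_apply]
      · exfalso
        have h5 : orderOf (e ⟨g * c * g⁻¹, hmem⟩) = 2 ^ (n + 1) := by
          rw [MulEquiv.orderOf_eq, ← Subgroup.orderOf_coe]
          show orderOf (g * c * g⁻¹) = _
          rw [orderOf_conj', hoc]
        rw [hx, QuaternionGroup.orderOf_xa] at h5
        have : 2 ^ 3 ≤ 2 ^ (n + 1) := Nat.pow_le_pow_right (by norm_num) (by omega)
        omega
    obtain ⟨m, hm⟩ := hgc
    have hmodd : m ≡ 1 [MOD 2] := by
      have h5 : orderOf (c ^ m) = 2 ^ (n + 1) := by rw [← hm, orderOf_conj', hoc]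
      rw [orderOf_pow, hoc] at h5
      by_contra hcon
      have hev : 2 ∣ m := by
        rcases Nat.even_or_odd m with h | h
        · exact h.two_dvd
        · exfalso; apply hcon; exact Nat.odd_iff.1 h
      have h6 : 2 ∣ Nat.gcd (2 ^ (n + 1)) m := Nat.dvd_gcd (dvd_pow_self 2 (by omega)) hev
      have h7 : 2 ^ (n + 1) / Nat.gcd (2 ^ (n + 1)) m < 2 ^ (n + 1) := Nat.div_lt_self (by positivity)
        (Nat.le_of_dvd (Nat.gcd_pos_of_pos_left _ (by positivity)) h6)
      omega
    have hcomm := comm_of_cyc c g hoc hm hmodd h2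
    -- conj of `t0`
    have hgt : ∃ l : ℕ, g * t0 * g⁻¹ = t0 * c ^ l := by
      have hmem := hg t0 htP
      rcases hx : e ⟨g * t0 * g⁻¹, hmem⟩ with i | i
      · exfalso
        have h5 : g * t0 * g⁻¹ = c ^ i.val := by
          rw [← hca, ← hx, MulEquiv.symm_apply_apply]
        have h6 : t0 = c ^ i.val := by
          have h7 : Commute g (c ^ i.val) := (show Commute g c from hcomm).pow_right _
          calc t0 = g⁻¹ * (g * t0 * g⁻¹) * g := by group
            _ = g⁻¹ * (c ^ i.val * g) := by rw [h5]; group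
            _ = g⁻¹ * (g * c ^ i.val) := by rw [h7.eq]
            _ = c ^ i.val := by group
        rw [← hca] at h6
        have h7 := e.symm.injective (Subtype.ext h6)
        exact absurd h7 (by simp)
      · refine ⟨i.val, ?_⟩
        rw [← hca]
        have h5 : (QuaternionGroup.xa i : QuaternionGroup (2 ^ n)) = QuaternionGroup.xa 0 * QuaternionGroup.a i := by
          rw [QuaternionGroup.xa_mul_a, zero_add]
        have h6 : (⟨g * t0 * g⁻¹, hmem⟩ : P) = e.symm (QuaternionGroup.xa 0) * e.symm (QuaternionGroup.a i) := by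
          rw [← map_mul, ← h5, ← hx, MulEquiv.symm_apply_apply]
        exact congrArg Subtype.val h6
    obtain ⟨l, hl⟩ := hgt
    have hcl : c ^ l = 1 := by
      have hj : ∀ j : ℕ, g ^ j * t0 * (g ^ j)⁻¹ = t0 * c ^ (l * j) := by
        intro j
        induction j with
        | zero => simp
        | succ j ih =>
          have e1 : g ^ (j + 1) * t0 * (g ^ (j + 1))⁻¹ = g * (g ^ j * t0 * (g ^ j)⁻¹) * g⁻¹ := by
            rw [pow_succ']; group
          have h7 : Commute g (c ^ (l * j)) := (show Commute g c from hcomm).pow_right _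
          rw [e1, ih]
          calc g * (t0 * c ^ (l * j)) * g⁻¹ = (g * t0 * g⁻¹) * (g * c ^ (l * j) * g⁻¹) := by group
            _ = (t0 * c ^ l) * (c ^ (l * j) * g * g⁻¹) := by rw [hl, h7.eq]
            _ = t0 * (c ^ l * c ^ (l * j)) := by group
            _ = _ := by rw [← pow_add, mul_add, mul_one, add_comm]
      have h7 := hj (orderOf g)
      rw [pow_orderOf_eq_one, one_mul, inv_one, mul_one] at h7
      have h8 : c ^ (l * orderOf g) = 1 := by
        have : t0 * 1 = t0 * c ^ (l * orderOf g) := by rw [mul_one]; exact h7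
        exact (mul_left_cancel this).symm
      rw [pow_mul] at h8
      have h9 : orderOf (c ^ l) ∣ orderOf g := orderOf_dvd_of_pow_eq_one h8
      have h10 : orderOf (c ^ l) ∣ 2 ^ (n + 1) := by rw [← hoc]; exact orderOf_pow_dvd l
      have h11 : Nat.Coprime (orderOf g) (2 ^ (n + 1)) := by
        apply Nat.Coprime.pow_right
        exact ((Nat.Prime.coprime_iff_not_dvd Nat.prime_two).2 h2).symm
      have h12 := Nat.eq_one_of_dvd_coprimes h11 h9 h10
      exact orderOf_eq_one_iff.1 h12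
    rw [hcl, mul_one] at hl
    have hcommt : g * t0 = t0 * g := by
      calc g * t0 = (g * t0 * g⁻¹) * g := by group
        _ = t0 * g := by rw [hl]
    intro t ht
    have key : ∀ s : QuaternionGroup (2 ^ n), g * ((e.symm s : P) : G) = ((e.symm s : P) : G) * g := by
      intro s
      rcases s with i | i
      · rw [hca]; exact ((show Commute g c from hcomm).pow_right _).eq
      · have h5 : (QuaternionGroup.xa i : QuaternionGroup (2 ^ n)) = QuaternionGroup.xa 0 * QuaternionGroup.a i := by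
          rw [QuaternionGroup.xa_mul_a, zero_add]
        have h6 : ((e.symm (QuaternionGroup.xa i) : P) : G) = t0 * c ^ i.val := by
          rw [h5, map_mul, Subgroup.coe_mul, hca]
        rw [h6]
        exact ((show Commute g t0 from hcommt).mul_right ((show Commute g c from hcomm).pow_right _)).eq
    have := key (e ⟨t, ht⟩)
    rwa [MulEquiv.symm_apply_apply] at this

end Cfsg.Agent.H21.ZF
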