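import Cfsg.Agent.H21.ZF12

set_option autoImplicit false
set_option linter.all false

/-!
Zassenhaus' theorem (helper21): final statements.
-/

universe u v

namespace Cfsg.Agent.H21.ZF

theorem not_solvable_of_perfect {G : Type u} [Group G] [Nontrivial G] (hperf : commutator G = ⊤) : ¬ Group.IsSolvable G := by
  intro h
  obtain ⟨g, hg⟩ := exists_ne (1 : G)
  exact hg (perfect_hom hperf (MonoidHom.id G) g)

theorem perfect_free_sl25 {G : Type u} [Group G] [Finite G] [Nontrivial G] (h : FreeAct.{u, v} G) (hperf : commutator G = ⊤) :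
    Nonempty (G ≃* SL25) := by
  obtain ⟨x, y, hx, hy, h10⟩ := exists_ico h (not_solvable_of_perfect hperf)
  obtain ⟨A, i1, i2, i3, ρ, D⟩ := zd_of_free h
  have I : Ico D x y := ⟨hx, hy, h10⟩
  have h1 := I.perfect_eq hperf
  obtain ⟨e⟩ := D.ico_iso hx hy h10
  exact ⟨(Subgroup.topEquiv.symm.trans (MulEquiv.subgroupCongr h1.symm)).trans e⟩

theorem row690 {K : Type*} [Group K] [Finite K] (G : Subgroup (MulAut K))
    (hfpf : ∀ φ ∈ G, φ ≠ 1 → ∀ k : K, φ k = k → k = 1) (hperf : commutator G = ⊤) (hne : G ≠ ⊥) :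
    Nonempty (G ≃* Matrix.SpecialLinearGroup (Fin 2) (ZMod 5)) := by
  haveI : Nontrivial G := (Subgroup.nontrivial_iff_ne_bot G).2 hne
  have hK : Nontrivial K := by
    by_contra hcon
    rw [not_nontrivial_iff_subsingleton] at hcon
    apply hne
    rw [Subgroup.eq_bot_iff_forall]
    intro φ _
    ext k
    exact Subsingleton.elim _ _
  have hF : FreeAct G := ⟨K, inferInstance, inferInstance, G.subtype, hK, fun g hg k hk =>
    hfpf g g.2 (fun h => hg (Subtype.ext h)) k hk⟩
  exact perfect_free_sl25 hF hperf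

open scoped Pointwise in
/-- a Frobenius complement acts freely -/
theorem freeAct_of_frob {L : Type v} [Group L] [Finite L] {H : Subgroup L} (hH : Cfsg.IsFrobeniusComplement H) :
    ∃ (K : Type v) (_ : Group K) (_ : Finite K) (φ : H →* MulAut K), Nontrivial K ∧
      ∀ g : H, g ≠ 1 → ∀ k : K, φ g k = k → k = 1 := by
  obtain ⟨N, -, hN, hc⟩ := H25.frobenius_kernel hH
  haveI := hN
  refine ⟨N, inferInstance, inferInstance, (MulAut.conjNormal (H := N)).comp H.subtype, ?_, ?_⟩
  · rw [Subgroup.nontrivial_iff_ne_bot]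
    rintro rfl
    apply hH.2.1
    have := hc.sup_eq_top
    rwa [bot_sup_eq] at this
  · intro g hg k hk
    by_contra hk1
    have h1 : (g : L) * k * (g : L)⁻¹ = k := congrArg Subtype.val hk
    have hkH : (k : L) ∉ H := by
      intro h
      have : (k : L) ∈ N ⊓ H := ⟨k.2, h⟩
      rw [hc.disjoint.eq_bot, Subgroup.mem_bot] at this
      exact hk1 (Subtype.ext this)
    have h2 := hH.2.2 k hkH
    have h3 : (g : L) ∈ H ⊓ (MulAut.conj (k : L) • H) := by
      rw [Subgroup.mem_inf]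
      refine ⟨g.2, ?_⟩
      rw [Subgroup.mem_pointwise_smul_iff_inv_smul_mem]
      have : (MulAut.conj (k : L))⁻¹ • (g : L) = g := by
        rw [← map_inv, MulAut.smul_def, MulAut.conj_apply, inv_inv]
        have h4 : (g : L) * k = k * g := by
          calc (g : L) * k = g * k * (g : L)⁻¹ * g := by group
            _ = k * g := by rw [h1]
        rw [mul_assoc, h4]; group
      rw [this]; exact g.2
    rw [h2, Subgroup.mem_bot] at h3
    exact hg (Subtype.ext h3)

theorem freeAct_of_hFC {G : Type u} [Group G]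
    (hFC : ∃ (L : Type v) (_ : Group L) (_ : Finite L) (H : Subgroup L), Cfsg.IsFrobeniusComplement H ∧ Nonempty (G ≃* H)) :
    FreeAct.{u, v} G := by
  obtain ⟨L, i1, i2, H, hH, ⟨e⟩⟩ := hFC
  obtain ⟨K, j1, j2, φ, hK, hf⟩ := freeAct_of_frob hH
  refine ⟨K, j1, j2, φ.comp e.toMonoidHom, hK, fun g hg k hk => hf (e g) (fun h => hg ?_) k hk⟩
  rw [← map_one e] at h
  exact e.injective h

theorem row3359 {G : Type u} [Group G] [Finite G] (hns : ¬ Group.IsSolvable G)
    (hFC : ∃ (L : Type) (_ : Group L) (_ : Finite L) (H : Subgroup L), Cfsg.IsFrobeniusComplement H ∧ Nonempty (G ≃* H)) :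
    ∃ G₀ : Subgroup G, G₀.Normal ∧ (G₀.index = 1 ∨ G₀.index = 2) ∧
      ∃ S M : Subgroup G, S ⊔ M = G₀ ∧ S ⊓ M = ⊥ ∧ (∀ s ∈ S, ∀ x ∈ M, s * x = x * s) ∧
        Nonempty (S ≃* Matrix.SpecialLinearGroup (Fin 2) (ZMod 5)) ∧
        (∀ (p : ℕ) [Fact p.Prime] (P : Sylow p M), IsCyclic P) ∧ (Nat.card M).Coprime 30 := by
  have h := freeAct_of_hFC hFC
  obtain ⟨x, y, hx, hy, h10⟩ := exists_ico h hns
  obtain ⟨A, i1, i2, i3, ρ, D⟩ := zd_of_free h
  have I : Ico D x y := ⟨hx, hy, h10⟩
  haveI := I.normal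
  obtain ⟨M, hMC, hsup, hcop, hinf, hcyc⟩ := I.exists_M
  have hG0 : Subgroup.closure {x, y} ⊔ M = Subgroup.closure {x, y} ⊔ Subgroup.centralizer (Subgroup.closure {x, y} : Set G) := by
    rw [← hsup, ← sup_assoc]
    congr 1
    exact (sup_eq_left.2 (Subgroup.zpowers_le.2 I.z_mem)).symm
  have hidx := I.index_sup
  refine ⟨Subgroup.closure {x, y} ⊔ Subgroup.centralizer (Subgroup.closure {x, y} : Set G), inferInstance, ?_,
    Subgroup.closure {x, y}, M, hG0, hinf, ?_, D.ico_iso hx hy h10, hcyc, hcop⟩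
  · have h0 : (Subgroup.closure {x, y} ⊔ Subgroup.centralizer (Subgroup.closure {x, y} : Set G)).index ≠ 0 :=
      Subgroup.index_ne_zero_of_finite
    omega
  · intro s hs m hm
    exact Subgroup.mem_centralizer_iff.1 (hMC hm) s hs

end Cfsg.Agent.H21.ZF
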